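import Cfsg.Agent.Lib.E64.M9

/-! The orbit of `a` in `F` (see blueprint/E64/README.md) -/

set_option autoImplicit false

namespace H12.E64

open Subgroup Cfsg H69 H45 Gold
open scoped commutatorElement

namespace P9B

/-- the number of ways to write `v` as a sum of two members of `p` -/
def c2 (N : ℕ) (p : ℕ → Bool) (v : ℕ) : ℕ := (List.range N).countP fun x => p x && p (x ^^^ v)

theorem c2_eq (N : ℕ) (p : ℕ → Bool) (v : ℕ) :
    c2 N p v = ((Finset.range N).filter fun x => (p x && p (x ^^^ v)) = true).card := by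
  rw [c2, List.countP_eq_length_filter, Finset.card_def, Finset.filter_val, Finset.range_val, Multiset.range,
    Multiset.filter_coe, Multiset.coe_card]
  simp

theorem lin_inv {n : ℕ} (g : Au n) {x : ℕ} (hx : x < 2 ^ n) : lin (cd g⁻¹) (lin (cd g) x) = x := by
  rw [← lin_cm, ← cd_mul, inv_mul_cancel, cd_one, lin_idn hx]

theorem c2_inv {n : ℕ} (p : ℕ → Bool) (g : Au n) (hp : ∀ x < 2 ^ n, p (lin (cd g) x) = p x) {v : ℕ}
    (hv : v < 2 ^ n) : c2 (2 ^ n) p (lin (cd g) v) = c2 (2 ^ n) p v := by
  rw [c2_eq, c2_eq]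
  symm
  refine Finset.card_nbij' (lin (cd g)) (lin (cd g⁻¹)) ?_ ?_ ?_ ?_
  · intro x hx
    simp only [Finset.coe_filter, Finset.mem_range, Set.mem_ofPred_eq] at hx ⊢
    rw [← lin_xor, hp x hx.1, hp _ (Nat.xor_lt_two_pow hx.1 hv)]
    exact ⟨lin_lt (cd_lt g) x, hx.2⟩
  · intro x hx
    simp only [Finset.coe_filter, Finset.mem_range, Set.mem_ofPred_eq] at hx ⊢
    have h1 : lin (cd g⁻¹) x < 2 ^ n := lin_lt (cd_lt _) x
    have h2 : lin (cd g) (lin (cd g⁻¹) x) = x := by simpa using lin_inv g⁻¹ hx.1
    rw [← hp _ h1, ← hp _ (Nat.xor_lt_two_pow h1 hv), lin_xor, h2]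
    exact ⟨h1, hx.2⟩
  · intro x hx
    simp only [Finset.coe_filter, Finset.mem_range, Set.mem_ofPred_eq] at hx
    exact lin_inv g hx.1
  · intro x hx
    simp only [Finset.coe_filter, Finset.mem_range, Set.mem_ofPred_eq] at hx
    simpa using lin_inv g⁻¹ hx.1

/-- orbit labels -/
def lab (x : ℕ) : ℕ := 0x23333332445555444545545466666666455445546666666666666666877878876666666666666666666666664554455454454554666666666666666678877887666666666666666654454554666666666666666645455454666666667878878744555544323333326666666654545454666666665454545466666666878787876666666654454554666666666666666666666666666666664455554477888877454554546666666633233332554455446666666666666666554455448877887745544554666666666666666666666666333323325555444455554444888877776666666654545454554455443332333255554444333332323333332211111110 >>> (4 * x) % 16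

/-- orbit representatives -/
def rep (j : ℕ) : ℕ := [0, 1, 8, 10, 24, 28, 56, 64, 68].getD j 0

/-- words from the representatives -/
def wd (x : ℕ) : ℕ := 0x4d31000da6004d31006b36004b360009a6006d310009a60369a103698c03698c0369a1006d340369a20369a2006d34004d310009b60045660009a6000966004b31004b3100096600096300032c0008ac00456100094c00096200096100012c000da20001b4000d8c000da1000d8c000da1000da20001b4006d2a006d15006ab5006d290065a5006c65006d2b000da50001ab000d510000b50001aa0001950001a9000ca90000350001b6000b310005660001a6000d31000166000db10001660068b40069a10069a20069a300698c0069560055b4000d340009a20008b40045a100098c0009a10009a300095600013400012b00095900006500011500012a0009510001290000250009a200098c0009a200098c0009a10001340009a100013400698c0069a10069a2000d3400698c0069a10069a2000d34036d8c036da1034d2a0365b4032db4036cb4036da2006db4000ab5000d2a000d2b0005a5000d15000d29000c650001a50009910000360001b10001310001b10000260001320000260000b40001a20005a100018c0001a30001a1000156000034006d620065ac006d63006d61006d4c006cac036b19000dac0001b6000d310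005660001a6000b31000166000b31000166000b190001630000ac00056100016200014c00016100002c036db1036d96036db2036cb60365b6032db6036db3006db60269a1006da6036d31004d34006d6602698c006db6004d34000d910001b30000b60001b10001b20001960005b1000036004b310009b60045660009a6000966004d31004db100096603598c0359a1006db4006b34036da10359a10359a2006b34000d66000d31000d310059b10001a6000b36006b310001a600015900002b0000a900001500015100002a00002900000500018c0001a20001a200018c0000340001a10001a100003403598c0359a1026ab5026d290358b4032b340359a2006b340009b4004da2004d8c004da1004da1004d8c004da20009b4004d2a006d8c006da2002db4006da10065b4006cb4000db4000031000191000191000031000006000032000032000006000a65000b15000b2b005959000b2a005951000b29000165000db400598c0059a2006da10059a1000b340059a1000b34000da2000da3000cb4000da1000d8c000d560005b40001b402c5a100598c0059a20058b40059a10059a3002b34000b34000d63000d62006b19000d4c0005ac000d61000cac0001ac006d51000d95000dab000da9000daa006ca9000cb50001b5006d31006b31000db6000d66000da6006b31006566000d66006b31006d31000db6000d66000da6006db10065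66000d6602598c004db402cd310059b6004b340259a10259a1004b340058ac004a6500596300532c00594c005962005961000b2c006da6026da602cd310069a60259a60059a6034d310059a6036da6036d661a69a11a698c034d34036db61b6d31034d3400632c00694c006963004da90055ac0069610068ac000d2c000db3000db2006d91000d96000db10005b6000cb60001b60069b6006966034d31034b310069a6034b310345660069660069b6006966034b31034d310069a6034db10345660069660009910000360001b20001b100013100002600013100002600011a00006300011900002300002200000c00002100000400019a0001910000b2000032000033000031000016000006006db2006db1006db30065b6006d96006cb6002db6000db6000131000166000b310000260001311b4b3103696600002600002200000c00002100000400002200000c0000210000041b4b341b59b61b4db4da59a1da59a1dacd31da598c1b4b340000110000010000020000000000110000010000020000000000d100001a000019000003000011000002000001000000000032000191000191000032000006000031000031000006034db4034b341a598c1a59a10359b61a59a11acd31034b340001b10009b10069660001b1000036000136034b31000036000011000002000001000000000011000002000001000000000966000031004b310000061b59a60000311369660000061a6da61a59a6036da60359a60000010000000000010000000009a60001a60059a6000036000026000006000000000000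 >>> (24 * x) % 16777216

/-- apply a word -/
def ap : ℕ → ℕ → ℕ → ℕ
  | 0, _, x => x
  | k + 1, w, x => ap k (w / 8) (lin ((idn 9 :: g9).getD (w % 8) (idn 9)) x)

theorem eqns : True := by
  have := @c2.eq_1
  have := @lab.eq_1
  have := @rep.eq_1
  have := @wd.eq_1
  have := @ap.eq_1
  have := @ap.eq_2
  have := @ap.eq_def
  trivial

theorem tree : ∀ x < 512, lab x < 9 ∧ rep (lab x) < 512 ∧ ap 8 (wd x) (rep (lab x)) = x := by
  have : ((List.range 512).all fun x =>
      Nat.blt (lab x) 9 && Nat.blt (rep (lab x)) 512 && Nat.beq (ap 8 (wd x) (rep (lab x))) x) = true := by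
    decide +kernel
  intro x hx
  simpa [and_assoc] using List.all_eq_true.1 this x (List.mem_range.2 hx)

theorem count : ∀ s < 512, s.testBit 0 = false → s.testBit 1 = true → s.testBit 2 = false →
    (∀ j < 9, s.testBit j = true →
      c2 512 (fun x => s.testBit (lab x)) (rep j) = c2 512 (fun x => s.testBit (lab x)) 1) →
    s = 2 ∨ s = 130 ∨ s = 258 ∨ s = 386 := by
  have : ((List.range 512).all fun s => s.testBit 0 || !s.testBit 1 || s.testBit 2 ||
      Nat.beq s 2 || Nat.beq s 130 || Nat.beq s 258 || Nat.beq s 386 ||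
      (List.range 9).any fun j => s.testBit j && Nat.blt 2 j &&
        !Nat.beq (c2 512 (fun x => s.testBit (lab x)) (rep j)) (c2 512 (fun x => s.testBit (lab x)) 1)) = true := by
    decide +kernel
  intro s hs h0 h1 h2 h
  have := List.all_eq_true.1 this s (List.mem_range.2 hs)
  simp only [h0, h1, h2, Bool.not_true, Bool.false_or, Bool.or_eq_true, Nat.beq_eq, List.any_eq_true,
    List.mem_range, Bool.and_eq_true, Bool.not_eq_true', or_assoc] at this
  rcases this with e | e | e | e | ⟨j, hj, ⟨e, -⟩, e'⟩
  · exact .inl e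
  · exact .inr (.inl e)
  · exact .inr (.inr (.inl e))
  · exact .inr (.inr (.inr e))
  · rw [h j hj e, Nat.beq_refl] at e'
    exact absurd e' (by decide)

theorem span : ∀ s ∈ [130, 258, 386], (∀ x < 512, s.testBit (lab x) = true → x &&& 56 = 0) ∧
    ∀ x < 512, x &&& 56 = 0 → ∃ w < 8, (w = 0 ∨ s.testBit (lab w) = true) ∧
      (x ^^^ w = 0 ∨ s.testBit (lab (x ^^^ w)) = true) := by
  decide +kernel

theorem small : ∀ x < 512, Nat.testBit 2 (lab x) = true → x < 8 := by decide +kernel

variable {Γ : Subgroup (Au 9)}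

theorem gen_mem (h : G9 false ≤ Γ) (d : ℕ) : ∃ g ∈ Γ, cd g = (idn 9 :: g9).getD d (idn 9) := by
  rcases lt_or_ge d (idn 9 :: g9).length with hd | hd
  · rw [List.getD_eq_getElem _ _ hd]
    rcases List.mem_cons.1 (List.getElem_mem hd) with e | e
    · exact ⟨1, one_mem _, by rw [e, cd_one]⟩
    · exact ⟨mk 9 _, h (subset_closure ⟨_, List.mem_append_left _ e, rfl⟩),
        cd_g9 _ (List.mem_append_left _ e)⟩
  · exact ⟨1, one_mem _, by rw [List.getD_eq_default _ _ hd, cd_one]⟩

theorem ap_mem (h : G9 false ≤ Γ) : ∀ k w x, x < 512 → ∃ g ∈ Γ, lin (cd g) x = ap k w x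
  | 0, _, _, hx => ⟨1, one_mem _, by rw [cd_one, lin_idn (n := 9) hx, ap]⟩
  | k + 1, w, x, _ => by
    obtain ⟨g, hg, e⟩ := gen_mem h (w % 8)
    obtain ⟨g', hg', e'⟩ := ap_mem h k (w / 8) (lin (cd g) x) (lin_lt (cd_lt g) x)
    exact ⟨g' * g, mul_mem hg' hg, by rw [cd_mul, lin_cm, e', ap, e]⟩

end P9B

open P9B

variable {Γ : Subgroup (Au 9)}

theorem cnt9 (h : G9 false ≤ Γ) : (∀ g ∈ Γ, lin (cd g) 1 < 8) ∨ (∃ g ∈ Γ, lin (cd g) 1 = 8) ∨
    ∀ g ∈ Γ, ∀ x < 512, x &&& 56 = 0 → lin (cd g) x &&& 56 = 0 := by
  classical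
  let X : ℕ → Prop := fun v => ∃ g ∈ Γ, lin (cd g) 1 = v
  have hX : ∀ g ∈ Γ, ∀ x < 512, X (lin (cd g) x) ↔ X x := fun g hg x hx =>
    ⟨fun ⟨k, hk, e⟩ => ⟨g⁻¹ * k, mul_mem (inv_mem hg) hk, by rw [cd_mul, lin_cm, e, lin_inv (n := 9) g hx]⟩,
      fun ⟨k, hk, e⟩ => ⟨g * k, mul_mem hg hk, by rw [cd_mul, lin_cm, e]⟩⟩
  obtain ⟨s, hs, hb⟩ : ∃ s < 512, ∀ j < 9, s.testBit j = true ↔ X (rep j) :=
    ⟨Nat.ofBits fun j : Fin 9 => decide (X (rep j)), Nat.ofBits_lt_two_pow _, fun j hj => by
      rw [Nat.testBit_ofBits_lt _ _ hj, decide_eq_true_iff]⟩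
  have hl : ∀ x < 512, s.testBit (lab x) = true ↔ X x := fun x hx => by
    obtain ⟨h1, h2, h3⟩ := tree x hx
    obtain ⟨g, hg, e⟩ := ap_mem h 8 (wd x) _ h2
    rw [hb _ h1, ← hX g hg _ h2, e, h3]
  have hp : ∀ g ∈ Γ, ∀ x < 2 ^ 9, s.testBit (lab (lin (cd g) x)) = s.testBit (lab x) := fun g hg x hx => by
    rw [Bool.eq_iff_iff, hl _ (lin_lt (cd_lt g) x), hl x hx, hX g hg x hx]
  by_cases h8 : X 8
  · exact .inr (.inl h8)
  have h0 : ¬ X 0 := fun ⟨g, _, e⟩ => by
    have := lin_inv (n := 9) g (x := 1) (by norm_num)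
    rw [e, lin_zero] at this
    exact absurd this (by decide)
  have h1 : X 1 := ⟨1, one_mem _, by rw [cd_one]; rfl⟩
  have := count s hs (Bool.eq_false_iff.2 fun e => h0 ((hb 0 (by omega)).1 e)) ((hb 1 (by omega)).2 h1)
    (Bool.eq_false_iff.2 fun e => h8 ((hb 2 (by omega)).1 e)) fun j hj e => by
      obtain ⟨g, hg, e'⟩ := (hb j hj).1 e
      rw [← e']
      exact c2_inv (n := 9) _ g (hp g hg) (by norm_num)
  rcases this with rfl | hs'
  · exact .inl fun g hg => small _ (lin_lt (n := 9) (cd_lt g) 1) ((hl _ (lin_lt (n := 9) (cd_lt g) 1)).2 ⟨g, hg, rfl⟩)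
  · refine .inr (.inr fun g hg x hx e => ?_)
    obtain ⟨k1, k2⟩ := span s (by simpa using hs')
    have k3 : ∀ y < 512, (y = 0 ∨ s.testBit (lab y) = true) → lin (cd g) y &&& 56 = 0 := by
      rintro y hy (rfl | e')
      · rw [lin_zero]; rfl
      · exact k1 _ (lin_lt (n := 9) (cd_lt g) y) (by rw [hp g hg y hy, e'])
    obtain ⟨w, hw, a1, a2⟩ := k2 x hx e
    have : x = (x ^^^ w) ^^^ w := by rw [Nat.xor_assoc, Nat.xor_self, Nat.xor_zero]
    rw [this, lin_xor, Nat.and_xor_distrib_right, k3 _ (Nat.xor_lt_two_pow (n := 9) hx (by omega)) a2,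
      k3 w (by omega) a1]
    rfl

end H12.E64
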