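import Cfsg.Agent.Lib.E64.P9A

/-! `a` is not conjugate to `d` (see blueprint/E64/README.md) -/

set_option autoImplicit false

namespace H12.E64

open Subgroup Cfsg H69 H45 Gold
open scoped commutatorElement

namespace P9C

/-- `y₂, y₃, l₁, l₂` -/
def ps : List (List ℕ) := (g9.take 5).drop 1

/-- `y₃` -/
def y3 : List ℕ := [1, 2, 4, 8, 16, 36, 64, 129, 258]

theorem eqns : True := by
  have := @ps.eq_1
  have := @y3.eq_1
  trivial

theorem fin (b : Bool) : ∀ l ∈ t9 b, lin l 1 = 1 ∧ cm y3 l = cm l y3 ∧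
    ((∀ p ∈ ps, cm l p = cm p l) → ∀ u < 512, lin l u ^^^ u ≠ 8) := by
  have : ((t9 b).all fun l => Nat.beq (lin l 1) 1 && cm y3 l == cm l y3 &&
      ((ps.any fun p => cm l p != cm p l) || (List.range 512).all fun u => !Nat.beq (lin l u ^^^ u) 8)) = true := by
    cases b <;> decide +kernel
  intro l hl
  have := List.all_eq_true.1 this l hl
  simp only [Bool.and_eq_true, Nat.beq_eq, beq_iff_eq, Bool.or_eq_true, List.any_eq_true, bne_iff_ne,
    List.all_eq_true, List.mem_range, Bool.not_eq_true'] at this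
  refine ⟨this.1.1, this.1.2, fun h u hu e => ?_⟩
  rcases this.2 with ⟨p, hp, k⟩ | k
  · exact k (h p hp)
  · have := k u hu
    rw [e] at this
    exact absurd this (by decide)

theorem cd_ps : ∀ p ∈ ps, cd (mk 9 p) = p := fun p hp =>
  cd_g9 p (List.mem_append_left _ (List.mem_of_mem_take (List.mem_of_mem_drop hp)))

theorem y3_mem : y3 ∈ ps := by decide

theorem aux {X : Type*} [Group X] {c g y t : X} (h : y * t = t * y) :
    c * g * y * (c * g)⁻¹ * (MulAut.conj c).toMonoidHom ((MulAut.conj g).toMonoidHom t) =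
      (MulAut.conj c).toMonoidHom ((MulAut.conj g).toMonoidHom t) * (c * g * y * (c * g)⁻¹) := by
  change _ * (c * (g * t * g⁻¹) * c⁻¹) = c * (g * t * g⁻¹) * c⁻¹ * _
  calc _ = c * g * (y * t) * (c * g)⁻¹ := by group
    _ = _ := by rw [h]; group

theorem aux2 {n : ℕ} (k y : Au n) (u : BV n) : (k * y * k⁻¹) (k u) * k u = k (y u * u) := by
  rw [MulAut.mul_apply, MulAut.mul_apply, MulAut.inv_apply_self, map_mul]

end P9C

open P9C

variable {b : Bool} {Γ : Subgroup (Au 9)}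

theorem H9.no_d (h : H9 b Γ) : ∀ g ∈ Γ, lin (cd g) 1 ≠ 8 := by
  intro g hg e
  have : Fact (Nat.Prime 2) := ⟨Nat.prime_two⟩
  have TΓ : T9 b ≤ Γ := (T9_G b).trans h.le
  have PT : cl 9 ps ≤ T9 b := closure_mono fun _ ⟨l, hl, k⟩ =>
    ⟨l, List.mem_append_left _ (List.mem_of_mem_drop hl), k⟩
  have pm : ∀ p ∈ ps, E64.mk 9 p ∈ cl 9 ps := fun p hp => subset_closure ⟨p, hp, rfl⟩
  have e' : g (bv 9 1) = bv 9 8 := by rw [app_bv g (by norm_num), e]
  have S8 : IsSylowIn 2 (T9 b ^ᶜ g) (Γ ⊓ Fx 9 [8]) := by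
    refine (h.syl.cj_of_mem hg).mono (le_inf (h.syl.cj_of_mem hg).le ?_) inf_le_left
    rintro _ ⟨t, ht, rfl⟩ x hx
    obtain rfl := List.mem_singleton.1 hx
    rw [MulEquiv.coe_toMonoidHom, MulAut.conj_apply, MulAut.mul_apply, MulAut.mul_apply, ← e',
      MulAut.inv_apply_self, app_bv t (by norm_num), (fin b _ (mem_T9.1 ht)).1]
  have P8 : cl 9 ps ≤ Γ ⊓ Fx 9 [8] := by
    refine le_inf (PT.trans TΓ) ((closure_le _).2 ?_)
    intro q hq x hx
    obtain ⟨l, hl, e1⟩ := hq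
    rw [e1, List.mem_singleton.1 hx, app_bv (E64.mk 9 l) (by norm_num), cd_ps l hl,
      (by decide : ∀ l ∈ ps, lin l 8 = 8) l hl]
  obtain ⟨c, hc, hP⟩ := S8.exists_le_cj ((isP_T9 b).to_le PT) P8
  have k8 : (c * g) (bv 9 1) = bv 9 8 := by rw [MulAut.mul_apply, e', hc.2 8 (List.mem_singleton_self _)]
  have kΓ : c * g ∈ Γ := mul_mem hc.1 hg
  have yA : E64.mk 9 y3 ∈ A9 := subset_closure ⟨y3, by decide, rfl⟩
  have cz : ∀ p ∈ cl 9 ps, c * g * E64.mk 9 y3 * (c * g)⁻¹ * p = p * (c * g * E64.mk 9 y3 * (c * g)⁻¹) := by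
    intro p hp
    obtain ⟨_, ⟨t, ht, rfl⟩, rfl⟩ := hP hp
    have : E64.mk 9 y3 * t = t * E64.mk 9 y3 := by
      rw [cd_eq_iff, cd_mul, cd_mul, cd_ps _ y3_mem]
      exact (fin b _ (mem_T9.1 ht)).2.1
    exact aux this
  generalize c * g = k at k8 kΓ cz
  have y1 : E64.mk 9 y3 (bv 9 128) * bv 9 128 = bv 9 1 := by
    rw [app_bv (E64.mk 9 y3) (x := 128) (by norm_num), cd_ps _ y3_mem, ← bv_xor,
      (by decide : lin y3 128 ^^^ 128 = 1)]
  have z8 : (k * E64.mk 9 y3 * k⁻¹) (k (bv 9 128)) * k (bv 9 128) = bv 9 8 :=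
    (aux2 k _ _).trans ((congrArg k y1).trans k8)
  have zΓ : k * E64.mk 9 y3 * k⁻¹ ∈ Γ := mul_mem (mul_mem kΓ (TΓ (A9_T b yA))) (inv_mem kΓ)
  generalize k * E64.mk 9 y3 * k⁻¹ = z at z8 zΓ cz
  have zW : z ∈ St 9 8 := cy9 yA (fun k => by
    have := cd_ps _ y3_mem
    rw [k, cd_one] at this
    exact absurd this (by decide)) (cz _ (pm _ y3_mem))
  have cc : ∀ p ∈ ps, cm (cd z) p = cm p (cd z) := fun p hp => by
    have := congrArg cd (cz _ (pm p hp))
    rwa [cd_mul, cd_mul, cd_ps p hp] at this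
  have fx : ∀ p ∈ ps, ∀ x, lin p x = x → lin p (lin (cd z) x) = lin (cd z) x := fun p hp x hx => by
    rw [← lin_cm, ← cc p hp, lin_cm, hx]
  have w8 : ∀ x < 8, lin (cd z) x < 8 := fun x hx => (zW x hx).resolve_right (by omega)
  have zT : z ∈ T9 b := by
    refine flag_G9 (h.nW ⟨zΓ, zW⟩) (fun x hx => .inl ?_) fun x hx => .inl ?_
    · exact (by decide : ∀ w < 8, (∀ p ∈ ps, lin p w = w) → w < 2) _ (w8 x (by omega)) fun p hp =>
        fx p hp x ((by decide : ∀ x < 2, ∀ p ∈ ps, lin p x = x) x hx p hp)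
    · exact (by decide : ∀ w < 8, lin (g9.getD 4 []) w = w → w < 4) _ (w8 x (by omega))
        (fx _ (by decide) x ((by decide : ∀ x < 4, lin (g9.getD 4 []) x = x) x hx))
  refine (fin b _ (mem_T9.1 zT)).2.2 cc (k (bv 9 128)).1 (BV.lt _) ?_
  rw [← app, ← val_mul, z8, val_bv (by norm_num)]

end H12.E64
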