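import Cfsg.Agent.Lib.E64.M10
import Cfsg.Agent.Lib.U20.TI

/-! The normaliser of `W` in the automiser of `E` (see blueprint/E64/README.md) -/

set_option autoImplicit false

namespace H12.E64.PA

open Subgroup

variable {n : ℕ}

/-- a 2-group fixes a nonzero vector of an invariant subspace -/
theorem fixp {A : Subgroup (Au n)} (p : IsPGroup 2 A) {K : Subgroup (BV n)} (hK : ∀ a ∈ A, ∀ v ∈ K, a v ∈ K)
    {u : BV n} (hu : u ∈ K) (u1 : u ≠ 1) : ∃ v ∈ K, v ≠ 1 ∧ ∀ a ∈ A, a v = v := by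
  have : Fact (Nat.Prime 2) := ⟨Nat.prime_two⟩
  let _ : MulAction A K :=
    { smul := fun a v => ⟨a.1 v.1, hK _ a.2 _ v.2⟩
      one_smul := fun _ => rfl
      mul_smul := fun _ _ _ => rfl }
  have d : 2 ∣ Nat.card K := orderOf_eq_prime (p := 2) (by rw [pow_two, bv_sq]) u1 ▸ K.orderOf_dvd_natCard hu
  obtain ⟨b, hb, ne⟩ := p.exists_fixed_point_of_prime_dvd_card_of_fixed_point K d (a := 1)
    fun a => Subtype.ext (map_one a.1)
  exact ⟨b, b.2, fun e => ne (Subtype.ext e.symm), fun a ha => congrArg Subtype.val (hb ⟨a, ha⟩)⟩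

theorem odd_card {X : Type*} [Group X] [Finite X] {θ : Subgroup X} (o : ∀ t ∈ θ, Odd (orderOf t)) :
    Odd (Nat.card θ) := by
  have : Fact (Nat.Prime 2) := ⟨Nat.prime_two⟩
  by_contra e
  obtain ⟨t, ht⟩ := exists_prime_orderOf_dvd_card' (G := θ) 2 (even_iff_two_dvd.1 (Nat.not_odd_iff_even.1 e))
  have := o t t.2
  rw [orderOf_coe, ht] at this
  exact absurd this (by decide)

/-- a group of odd order normalised by a 2-group `A` and centralising the fixed points of `A` is trivial -/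
theorem odd_one {A θ : Subgroup (Au n)} (p : IsPGroup 2 A) (o : ∀ t ∈ θ, Odd (orderOf t))
    (nA : ∀ a ∈ A, ∀ t ∈ θ, a⁻¹ * t * a ∈ θ) (c : ∀ v, (∀ a ∈ A, a v = v) → ∀ t ∈ θ, t v = v) {t : Au n}
    (ht : t ∈ θ) : t = 1 := by
  have := Fintype.ofFinite θ
  let N : BV n →* BV n := MonoidHom.mk' (fun v => ∏ s : θ, s.1 v) fun v w => by
    simp only [map_mul, Finset.prod_mul_distrib]
  have N1 : ∀ v, N (t v) = N v := fun v =>
    Fintype.prod_equiv (Equiv.mulRight (⟨t, ht⟩ : θ)) _ _ fun _ => rfl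
  have N2 : ∀ a ∈ A, ∀ v, N (a v) = a (N v) := fun a ha v => by
    change ∏ s : θ, s.1 (a v) = a (∏ s : θ, s.1 v)
    rw [map_prod]
    refine Fintype.prod_bijective (fun s : θ => (⟨a⁻¹ * s.1 * a, nA a ha s.1 s.2⟩ : θ))
      (Finite.injective_iff_bijective.1 fun s s' e =>
      Subtype.ext (by simpa using congrArg Subtype.val e)) _ _ fun s => by simp
  refine MulEquiv.ext fun u => by_contra fun ne => ?_
  obtain ⟨v, hv, v1, f⟩ := fixp p (K := N.ker) (fun a ha v hv => by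
    rw [MonoidHom.mem_ker, N2 a ha, MonoidHom.mem_ker.1 hv, map_one]) (u := t u * u)
    (by rw [MonoidHom.mem_ker, map_mul, N1, bv_sq]) fun e => ne (eq_inv_of_mul_eq_one_left e)
  have e : ∏ s : θ, s.1 v = 1 := hv
  obtain ⟨k, hk⟩ := odd_card o
  rw [Finset.prod_congr rfl fun s _ => c v f s.1 s.2, Finset.prod_const, Finset.card_univ, ← Nat.card_eq_fintype_card,
    hk, pow_succ, pow_mul, pow_two, bv_sq, one_pow, one_mul] at e
  exact v1 e

theorem fx_W {g : Au n} (h : g ∈ Fx n [1, 2, 4]) {x : ℕ} (hx : x < 8) : g (bv n x) = bv n x := by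
  have h1 := h 1 (by simp)
  have h2 := h 2 (by simp)
  have h4 := h 4 (by simp)
  obtain ⟨a, ha, b, hb, c, hc, rfl⟩ := (by decide : ∀ x < 8, ∃ a ∈ [0, 1], ∃ b ∈ [0, 2], ∃ c ∈ [0, 4],
    x = a ^^^ b ^^^ c) x hx
  have k : ∀ j, g (bv n j) = bv n j → ∀ a ∈ [0, j], g (bv n a) = bv n a := fun j e a ha => by
    simp only [List.mem_cons, List.not_mem_nil, or_false] at ha
    rcases ha with rfl | rfl
    · rw [bv_zero, map_one]
    · exact e
  rw [bv_xor, bv_xor, map_mul, map_mul, k 1 h1 a ha, k 2 h2 b hb, k 4 h4 c hc]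

theorem fx_iff {g : Au n} {x : ℕ} (hx : x < 2 ^ n) : g (bv n x) = bv n x ↔ lin (cd g) x = x := by
  rw [app_bv g hx, bv_eq (lin_lt (cd_lt g) x) hx]

theorem st_W (h3 : 3 ≤ n) {g : Au n} (h : g ∈ St n 8) {x : ℕ} (hx : x < 8) : ∃ y < 8, g (bv n x) = bv n y := by
  have l : x < 2 ^ n := hx.trans_le (Nat.pow_le_pow_right (n := 2) (by norm_num) h3)
  exact ⟨_, (h x hx).resolve_right l.not_ge, app_bv g l⟩

theorem t1 : ∀ l ∈ y10, cm l l = idn 10 ∧ (∀ x ∈ [1, 2, 4], lin l x = x) ∧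
    (lin l 64 = 64 → l = idn 10 ∨ l = [1, 2, 4, 8, 16, 36, 64, 129, 258, 581]) := by decide +kernel
theorem t2 : ∀ v < 1024, (∀ l ∈ (g10 true).take 3, lin l v = v) → v < 8 := by decide +kernel

theorem A_sq {a : Au 10} (ha : a ∈ A10) : a * a = 1 := by
  rw [cd_eq_iff, cd_mul, cd_one]; exact (t1 _ (mem_A10.1 ha)).1

theorem A_fx : A10 ≤ Fx 10 [1, 2, 4] := fun a ha x hx =>
  (fx_iff ((by decide : ∀ x ∈ [1, 2, 4], x < 2 ^ 10) x hx)).2 ((t1 _ (mem_A10.1 ha)).2.1 x hx)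

theorem A_fix {v : BV 10} (h : ∀ a ∈ A10, a v = v) : v.1 < 8 := t2 v.1 v.2 fun l hl => by
  have := congrArg (·.1) (h (mk 10 l) (subset_closure ⟨l, hl, rfl⟩))
  simp only [app] at this
  rwa [cd_g10 true l (List.mem_append_left _ (List.mem_of_mem_take hl))] at this

end H12.E64.PA

namespace H12.E64

open Subgroup Cfsg H69 H45 Gold
open scoped commutatorElement

variable {c : Bool} {Λ : Subgroup (Au 10)}

theorem H10.cW (h : H10 c Λ) : Λ ⊓ Fx 10 [1, 2, 4] ≤ A10 := by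
  have AL : A10 ≤ Λ := (A10_T c).trans ((T10_L c).trans h.le)
  obtain ⟨θ, t1, t2⟩ := H94.U20.burnside_odd (A := A10) (Y := Λ ⊓ Fx 10 [1, 2, 4]) (le_inf AL PA.A_fx)
    (fun a => PA.A_sq) fun g hg e => fix_L0 (h.nA ⟨hg.1, H94.U20.mem_norm.2 e⟩) hg.2
  intro g hg
  obtain ⟨t, ht, a, ha, rfl⟩ := t2 g hg
  rw [PA.odd_one (A := A10) ((isP_T10 c).to_le (A10_T c)) (fun t ht => ((t1 t).1 ht).2) (fun a ha t ht => (t1 _).2
    ⟨mul_mem (mul_mem (inv_mem (le_inf AL PA.A_fx ha)) ((t1 t).1 ht).1) (le_inf AL PA.A_fx ha), by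
      rw [← MulAut.conj_inv_apply, MulEquiv.orderOf_eq]; exact ((t1 t).1 ht).2⟩)
    (fun v f t ht => bv_val v ▸ PA.fx_W ((t1 t).1 ht).1.2 (PA.A_fix f)) ht, one_mul]
  exact ha

theorem H10.nW (h : H10 c Λ) : Λ ⊓ St 10 8 ≤ L0 c := fun g hg => h.nA ⟨hg.1, mem_normalizer_fintype fun a ha =>
  h.cW ⟨Λ.mul_mem (Λ.mul_mem hg.1 (h.le (T10_L c (A10_T c ha)))) (Λ.inv_mem hg.1), fun x hx => by
    obtain ⟨y, hy, e⟩ := PA.st_W (by norm_num) ((St 10 8).inv_mem hg.2)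
      ((by decide : ∀ x ∈ [1, 2, 4], x < 8) x hx)
    rw [MulAut.mul_apply, MulAut.mul_apply, e, PA.fx_W (PA.A_fx ha) hy, ← e]
    exact g.apply_symm_apply _⟩⟩

theorem H10.cD (h : H10 c Λ) {g : Au 10} (hg : g ∈ Λ) (hf : g ∈ Fx 10 [1, 2, 4, 64]) : g = 1 ∨ g = y0 := by
  have := (PA.t1 _ (mem_A10.1 (h.cW ⟨hg, fun x hx => hf x (List.mem_append_left [64] hx)⟩))).2.2
    ((PA.fx_iff (by norm_num)).1 (hf 64 (by simp)))
  rwa [← cd_one, ← cd_y0, ← cd_eq_iff, ← cd_eq_iff] at this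

theorem H10.cF (h : H10 c Λ) {g : Au 10} (hg : g ∈ Λ) (hf : g ∈ Fx 10 [1, 2, 4, 8, 16, 64, 128, 256]) :
    g = 1 := by
  refine (h.cD hg fun x hx => hf x
    ((by decide : ∀ x ∈ [1, 2, 4, 64], x ∈ [1, 2, 4, 8, 16, 64, 128, 256]) x hx)).resolve_right fun e => ?_
  have := (PA.fx_iff (by norm_num)).1 (hf 128 (by simp))
  rw [e, cd_y0] at this
  exact absurd this (by decide)

end H12.E64
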