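import Cfsg.Agent.Lib.E64.P9A
import Cfsg.Agent.Lib.E64.P10A

/-! The case of an invariant subspace of dimension six (see blueprint/E64/README.md) -/

set_option autoImplicit false

namespace H12.E64.PD

open Subgroup PA

/-- the number of the Levi element with given action on `F / V₆` -/
def ix (a b c : ℕ) : ℕ := 0x735b432b0000008b00573f000f0000876f0000230b0000836b00001f0700007f004f370003000000634b331b000000000000000000000000775f472f00000000000000000000a300005600270e009f006e003b000a009b000053001e060097006700360002000000624a321a00000000000000000000008f005e46001700a700005a002a130000000000000000009e8600003a2200009a000052001d0500007e004e35000100937b0000311900000000000000000000008e7600002e1600a600720042001200a28a00003e260000000000000000000000826a00001c04009600660034000000927a0000301800000000000000000000008d7500002d1500a500005900291100a100005500250d0000856d00002109000000000000000000957d654d0000000091796149000000000000000000000000008c005d45001400a400710041001000008900543d000c009d006c003900080099816951000000000000000000000000907860480000000000000000000000000000745c442c00000000705840280000a08800003c2400009c840000382000009880685000000000947c644c000000000000000000000000000000000000000000000000000000000000000000000000000000000000000000000000000000000000000000000000000000000000000000000000000000000000000000000000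 >>> (8 * (a + 8 * b + 64 * c)) % 256
/-- the number of its inverse -/
def iy (a b c : ℕ) : ℕ := 0x8b808f79000000730040a700110000693d00009014000077a3000032060000650094350003000000252c1d1b00000000000000000000000083888d7b000000000000000000006b00003c0093150071004100a4001000750000a000310700670097003600020000002d241f190000000000000000000000430070a50013003f000068009117000000000000000000898100008c780000a1000074003305000095006437000100272f00001e1a00000000000000000000003e6a000092160042007200a6001200828a00008e7a0000000000000000000000a276000030040096006600340000002e2600001c180000000000000000000000479b0000620e004600009800610f009a00004400630d000099450000600c0000000000000000007e7d7f7c000000002a2b2928000000000000000000000000003a009c6d000b003b009f006e000a00009e00386f0009009d0039006c00080085868784000000000000000000000000232221200000000000000000000000000000525c554b000000005e5057490000535f0000564a00005d51000054480000595b5a58000000004f4d4e4c000000000000000000000000000000000000000000000000000000000000000000000000000000000000000000000000000000000000000000000000000000000000000000000000000000000000000000000000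 >>> (8 * (a + 8 * b + 64 * c)) % 256

/-- the subspace `V₆` -/
def V6 : Subgroup (BV 9) := sg (fun v => v.1 &&& 56 = 0) rfl fun a b ha hb => by
  rw [val_mul, Nat.and_xor_distrib_right, ha, hb, Nat.xor_self]

theorem eqns_pd : True := by
  have := @ix.eq_1
  have := @iy.eq_1
  have := @V6.eq_1
  trivial

theorem mem_V6 {v : BV 9} : v ∈ V6 ↔ v.1 &&& 56 = 0 := Iff.rfl

theorem u1 : ∀ x < 512, ∃ a < 8, x &&& 56 = 8 * a := by decide +kernel
set_option synthInstance.maxSize 2000 in
theorem u2 : ∀ a < 8, ∀ b < 8, ∀ c < 8, (∀ x ∈ [8 * a, 8 * b, 8 * c, 8 * a ^^^ 8 * b, 8 * a ^^^ 8 * c,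
    8 * b ^^^ 8 * c, 8 * a ^^^ 8 * b ^^^ 8 * c], x ≠ 0) → ix a b c < 168 ∧
      ok 9 (tab9.getD (ix a b c) []) (tab9.getD (iy a b c) []) = true ∧ lin (tab9.getD (ix a b c) []) 8 &&& 56 = 8 * a ∧
      lin (tab9.getD (ix a b c) []) 16 &&& 56 = 8 * b ∧ lin (tab9.getD (ix a b c) []) 32 &&& 56 = 8 * c := by
  decide +kernel
theorem u3 : ([idn 9, xb].all fun x => tab9.all fun t => y9.all fun y =>
    !([8, 16, 32].all fun j => Nat.beq ((lin x (lin t (lin y j)) ^^^ j) &&& 56) 0) || t == idn 9) = true := by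
  decide +kernel
theorem u4 : ∀ x ∈ [idn 9, xb], ∀ y ∈ y9, cm (cm x (cm (idn 9) y)) (cm x (cm (idn 9) y)) = idn 9 ∧
    ∀ w ∈ [1, 2, 4], lin (cm x (cm (idn 9) y)) w = w := by decide +kernel
theorem u5 : ∀ t ∈ tab9, cm (idn 9) (cm t (idn 9)) = t := by decide +kernel
theorem u6 : ∀ x < 512, x = 0 ∨ ∃ j ∈ [1, 2, 4, 8, 16, 32, 64, 128, 256], x ^^^ j < x := by decide +kernel
theorem u7 : ∀ y ∈ y9, (∀ y' ∈ y9, cm y y' = cm y' y) ∧ cm y y = idn 9 ∧
    ∀ j ∈ [8, 16, 32], (lin y j ^^^ j) &&& 56 = 0 := by decide +kernel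
theorem u8 : ∀ v < 512, (∀ l ∈ g9.take 3, lin l v = v) → v < 8 := by decide +kernel

theorem mem_prods {s t : List (List ℕ)} {l : List ℕ} : l ∈ prods s t ↔ ∃ x ∈ s, ∃ y ∈ t, cm x y = l := by
  simp [prods]

theorem gen9 {P : Subgroup (BV 9)} (h : ∀ j ∈ [1, 2, 4, 8, 16, 32, 64, 128, 256], bv 9 j ∈ P) (v : BV 9) : v ∈ P := by
  refine forall_bv (P := (· ∈ P)) (fun x => ?_) v
  induction x using Nat.strong_induction_on with
  | _ x ih =>
    intro hx
    rcases u6 x hx with rfl | ⟨j, hj, e⟩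
    · rw [bv_zero]; exact one_mem _
    · rw [← Nat.xor_xor_cancel_right x j, bv_xor]
      exact mul_mem (ih _ e (e.trans hx)) (h j hj)

/-- two maps preserving `V₆` that agree on a basis of the quotient -/
theorem agree {g k : Au 9} (hg : ∀ v ∈ V6, g v ∈ V6) (hk : ∀ v ∈ V6, k v ∈ V6)
    (e : ∀ j ∈ [8, 16, 32], (lin (cd g) j ^^^ lin (cd k) j) &&& 56 = 0) (v : BV 9) : g v * k v ∈ V6 := by
  refine gen9 (P := V6.comap (g.toMonoidHom * k.toMonoidHom)) (fun j hj => ?_) v
  change g _ * k _ ∈ V6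
  rcases (by decide : ∀ j ∈ [1, 2, 4, 8, 16, 32, 64, 128, 256], j < 2 ^ 9 ∧ (j ∈ [8, 16, 32] ∨ j &&& 56 = 0)) j hj with
    ⟨l, f | f⟩
  · rw [mem_V6, val_mul, app, app, val_bv l]
    exact e j f
  · have : bv 9 j ∈ V6 := by rwa [mem_V6, val_bv l]
    exact mul_mem (hg _ this) (hk _ this)

theorem A_fix {v : BV 9} (h : ∀ a ∈ A9, a v = v) : v.1 < 8 := u8 v.1 v.2 fun l hl => by
  have := congrArg (·.1) (h (mk 9 l) (subset_closure ⟨l, hl, rfl⟩))
  simp only [app] at this
  rwa [cd_g9 l (List.mem_append_left _ (List.mem_of_mem_take hl))] at this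

theorem A_sq {a : Au 9} (ha : a ∈ A9) : a * a = 1 := by
  rw [cd_eq_iff, cd_mul, cd_one]; exact (u7 _ (mem_A9.1 ha)).2.1

theorem A_comm : IsMulCommutative A9 := ⟨⟨fun a b => Subtype.ext (by
  rw [coe_mul, coe_mul, cd_eq_iff, cd_mul, cd_mul]; exact (u7 _ (mem_A9.1 a.2)).1 _ (mem_A9.1 b.2))⟩⟩

theorem A_nc : ¬ IsCyclic A9 := fun ⟨⟨g, hg⟩⟩ => by
  have k : ∀ a ∈ A9, a = 1 ∨ a = g.1 := fun a ha => by
    obtain ⟨m, e⟩ := hg ⟨a, ha⟩
    have e' : g.1 ^ m = a := congrArg Subtype.val e
    have s : g.1 ^ (2 : ℤ) = 1 := by rw [zpow_two, A_sq g.2]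
    rcases Int.even_or_odd' m with ⟨j, rfl | rfl⟩
    · exact .inl (by rw [← e', zpow_mul, s, one_zpow])
    · exact .inr (by rw [← e', zpow_add_one, zpow_mul, s, one_zpow, one_mul])
  have k' : ∀ l ∈ g9.take 3, l = idn 9 ∨ l = cd g.1 := fun l hl => by
    have := k (mk 9 l) (subset_closure ⟨l, hl, rfl⟩)
    rwa [cd_eq_iff, cd_eq_iff (h := g.1), cd_one, cd_g9 l (List.mem_append_left _ (List.mem_of_mem_take hl))] at this
  have a := (k' [1, 2, 4, 9, 16, 32, 66, 132, 256] (by decide)).resolve_left (by decide)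
  have b := (k' [1, 2, 4, 8, 18, 32, 65, 128, 260] (by decide)).resolve_left (by decide)
  exact absurd (a.trans b.symm) (by decide)

variable {b : Bool} {Γ : Subgroup (Au 9)}

/-- elements of `G9` acting trivially on `F / V₆` -/
theorem ker_G9 {g : Au 9} (hg : g ∈ G9 b) (e : ∀ v, g v * v ∈ V6) : g * g = 1 ∧ g ∈ Fx 9 [1, 2, 4] := by
  obtain ⟨x, hx, _, hm, f⟩ := mem_prods.1 (mem_G9.1 hg)
  obtain ⟨t, ht, y, hy, rfl⟩ := mem_prods.1 hm
  have hx' : x ∈ [idn 9, xb] := by
    cases b
    · exact List.mem_cons.2 (.inl (List.mem_singleton.1 hx))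
    · exact hx
  have := List.all_eq_true.1 (List.all_eq_true.1 (List.all_eq_true.1 u3 x hx') t ht) y hy
  rw [Bool.or_eq_true, Bool.not_eq_true', beq_iff_eq] at this
  obtain rfl : t = idn 9 := this.resolve_left (by
    rw [Bool.not_eq_false, List.all_eq_true]
    intro j hj
    have := e (bv 9 j)
    rw [mem_V6, val_mul, app, val_bv ((by decide : ∀ j ∈ [8, 16, 32], j < 2 ^ 9) j hj), ← f, lin_cm, lin_cm] at this
    exact Nat.beq_eq ▸ this)
  have := u4 x hx' y hy
  rw [f] at this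
  exact ⟨by rw [cd_eq_iff, cd_mul, cd_one]; exact this.1, fun w hw =>
    (fx_iff ((by decide : ∀ x ∈ [1, 2, 4], x < 2 ^ 9) w hw)).2 (this.2 w hw)⟩

theorem levi (hV : ∀ g ∈ Γ, ∀ v ∈ V6, g v ∈ V6) (le : G9 b ≤ Γ) {g : Au 9} (hg : g ∈ Γ) :
    ∃ k ∈ G9 b, ∀ v, g v * k v ∈ V6 := by
  have n : ∀ x < 2 ^ 9, x &&& 56 ≠ 0 → lin (cd g) x &&& 56 ≠ 0 := fun x hx e f => e (by
    have := hV _ (inv_mem hg) (g (bv 9 x)) (by rwa [mem_V6, app, val_bv hx])
    rwa [show g⁻¹ (g (bv 9 x)) = bv 9 x from g.symm_apply_apply _, mem_V6, val_bv hx] at this)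
  obtain ⟨a, ha, e1⟩ := u1 _ (lin_lt (cd_lt g) 8)
  obtain ⟨b', hb, e2⟩ := u1 _ (lin_lt (cd_lt g) 16)
  obtain ⟨c, hc, e3⟩ := u1 _ (lin_lt (cd_lt g) 32)
  have n1 := n 8 (by norm_num) (by decide)
  have n2 := n 16 (by norm_num) (by decide)
  have n3 := n 32 (by norm_num) (by decide)
  have n4 := n (8 ^^^ 16) (by decide) (by decide)
  have n5 := n (8 ^^^ 32) (by decide) (by decide)
  have n6 := n (16 ^^^ 32) (by decide) (by decide)
  have n7 := n (8 ^^^ 16 ^^^ 32) (by decide) (by decide)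
  simp only [lin_xor, Nat.and_xor_distrib_right, e1, e2, e3] at n1 n2 n3 n4 n5 n6 n7
  obtain ⟨i, o, f1, f2, f3⟩ := u2 a ha b' hb c hc (by
    simp only [List.forall_mem_cons]
    exact ⟨n1, n2, n3, n4, n5, n6, n7, by simp⟩)
  have m : tab9.getD (ix a b' c) [] ∈ tab9 := by
    rw [List.getD_eq_getElem _ _ (show _ < tab9.length from i)]
    exact List.getElem_mem _
  generalize tab9.getD (ix a b' c) [] = t at o f1 f2 f3 m
  have e := cd_mk _ o
  have k : mk 9 t ∈ G9 b := mem_G9.2 (by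
    rw [e]
    exact mem_prods.2 ⟨_, List.mem_cons_self, _, mem_prods.2 ⟨t, m, idn 9, by decide, rfl⟩, u5 t m⟩)
  refine ⟨_, k, agree (hV g hg) (hV _ (le k)) fun j hj => ?_⟩
  simp only [List.mem_cons, List.not_mem_nil, or_false] at hj
  rcases hj with rfl | rfl | rfl <;> simp only [Nat.and_xor_distrib_right, e, e1, e2, e3, f1, f2, f3, Nat.xor_self]

theorem main (h : H9 b Γ) (hV : ∀ g ∈ Γ, ∀ v ∈ V6, g v ∈ V6) : Γ ≤ St 9 8 := by
  let K : Subgroup (Au 9) := sg (fun g => g ∈ Γ ∧ ∀ v, g v * v ∈ V6) ⟨one_mem _, fun v => by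
    rw [MulAut.one_apply, bv_sq]; exact one_mem _⟩ fun g k hg hk => ⟨mul_mem hg.1 hk.1, fun v => by
      have := mul_mem (hg.2 (k v)) (hk.2 v)
      rwa [mul_assoc, ← mul_assoc (k v), bv_sq, one_mul] at this⟩
  have AG : A9 ≤ G9 b := (A9_T b).trans (T9_G b)
  have AK : A9 ≤ K := fun a ha => ⟨h.le (AG ha), agree (k := 1) (hV a (h.le (AG ha))) (fun _ h => h) fun j hj => by
    rw [cd_one, lin_idn ((by decide : ∀ j ∈ [8, 16, 32], j < 2 ^ 9) j hj)]
    exact (u7 _ (mem_A9.1 ha)).2.2 j hj⟩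
  obtain ⟨θ, t1, t2⟩ := H94.U20.burnside_odd (A := G9 b ⊓ K) (Y := K) inf_le_right
    (fun a ha => (ker_G9 ha.1 ha.2.2).1) fun g hg e => ⟨h.nW ⟨hg.1, fun x hx => .inl (by
      have := A_fix (v := g (bv 9 x)) fun a ha => by
        have m := H94.U20.mem_cn.1 (e.ge (mem_inf.2 ⟨AG ha, AK ha⟩))
        have := congrArg g (fx_W (ker_G9 m.1 m.2.2).2 hx)
        simpa using this
      rwa [app, val_bv (by omega)] at this)⟩, hg⟩
  have le : θ ≤ St 9 8 := H2.le_of_forall_centralizer_le A_comm A_nc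
    (fun a ha => mem_normalizer_fintype fun t ht => (t1 _).2
      ⟨mul_mem (mul_mem (AK ha) ((t1 t).1 ht).1) (inv_mem (AK ha)), by
        rw [← MulAut.conj_apply, MulEquiv.orderOf_eq]; exact ((t1 t).1 ht).2⟩)
    (by
      have : Fact (Nat.Prime 2) := ⟨Nat.prime_two⟩
      obtain ⟨k, e⟩ := IsPGroup.iff_card.1 ((isP_T9 b).to_le (A9_T b))
      rw [e]
      exact (Nat.coprime_two_left.2 (odd_card fun t ht => ((t1 t).1 ht).2)).pow_left k)
    fun a ha a1 g hg => cy9 ha a1 (mem_centralizer_singleton_iff.1 hg.2)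
  intro g hg
  obtain ⟨k, hk, e⟩ := levi hV h.le hg
  obtain ⟨t, ht, a, ha, f⟩ := t2 (k⁻¹ * g) ⟨mul_mem (inv_mem (h.le hk)) hg, fun v => by
    simpa using hV _ (inv_mem (h.le hk)) _ (e v)⟩
  rw [inv_mul_eq_iff_eq_mul.1 f]
  exact mul_mem (G9_W b hk) (mul_mem (le ht) (G9_W b ha.1))

end H12.E64.PD

namespace H12.E64

open Subgroup Cfsg H69 H45 Gold
open scoped commutatorElement

variable {b : Bool} {Γ : Subgroup (Au 9)}

theorem H9.v6 (h : H9 b Γ) (hV : ∀ g ∈ Γ, ∀ x < 512, x &&& 56 = 0 → lin (cd g) x &&& 56 = 0) :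
    Γ ≤ St 9 8 :=
  PD.main h fun g hg v hv => by rw [PD.mem_V6, app]; exact hV g hg v.1 v.2 hv

end H12.E64
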