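import Cfsg.Agent.Lib.E64.RY1
import Cfsg.Agent.Lib.E64.NOF
import Cfsg.Agent.Lib.E64.P9B
import Cfsg.Agent.Lib.E64.P9C
import Cfsg.Agent.Lib.E64.P9D

/-! Fusion in `F` (see blueprint/E64/README.md) -/

set_option autoImplicit false

namespace H12.E64

open Subgroup Cfsg H69 H45 Gold
open scoped commutatorElement

variable {G : Type*} [Group G] [Finite G] {c : Fr G} {b : Bool} {S : Subgroup G}

namespace Fr

theorem AB.x_FR (c : Fr G) : c.F ≤ c.R := c.R_eq ▸ le_sup_right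

theorem AB.x_RS (h : c.AB b S) : c.R ≤ S := c.R_T.trans h.TS

theorem AB.x_cS (h : c.AB b S) : S ⊓ 𝐂(c.F) ≤ c.F := fun z hz =>
  h.cF z hz.2 (h.SR hz.1) (h.isP.to_le (sup_le h.x_RS (zpowers_le.2 hz.1)))

theorem AB.h9 (h : c.AB b S) : H9 b (AutG c.f ⊤) := by
  have n : c.R ≤ 𝐍(c.F) := h.x_RS.trans h.SN
  have e : AutG c.f c.R = A9 := by
    rw [c.R_eq, F, autG_sup c.f_inj (le_trans (c.R_eq ▸ le_sup_left) n) le_normalizer, c.aut_A, autG_range c.f_inj,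
      sup_bot_eq]
  refine ⟨h.le, le_trans ?_ h.nR⟩
  rw [← e]
  exact (lift_norm c.f_inj (h.isP.to_le h.x_RS) (AB.x_FR c) n fun z a a' p => AB.x_FR c (h.cF z a a' p)).2

theorem AB.wc (h : c.AB b S) : ∀ g, c.F ^ᶜ g ≤ S → g ∈ 𝐍(c.F) :=
  wc_of_noff c.f_inj h.SN h.x_cS (h.aut ▸ noff9 b)

theorem AB.syl (h : c.AB b S) : IsSylowIn 2 S ⊤ := by
  refine syl_top c.f_inj h.isP ((AB.x_FR c).trans h.x_RS) h.wc (h.aut ▸ h.h9.self) fun z a n p => ?_
  refine h.x_RS (AB.x_FR c (h.cF z a (mem_normalizer_fintype fun r hr => ?_)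
    (p.to_le (sup_le_sup_right h.x_RS _))))
  have k : z * r * z⁻¹ * r⁻¹ ∈ c.F := h.x_cS ⟨S.mul_mem (conj_mem_of_mem_normalizer n (h.x_RS hr))
    (S.inv_mem (h.x_RS hr)), by
    have := mul_mem a (conj_mem_of_mem_normalizer (normalizer_le_normalizer_centralizer _ (h.SN (h.x_RS hr)))
      (inv_mem a))
    simp only [mul_assoc] at this ⊢
    exact this⟩
  simpa using c.R.mul_mem (AB.x_FR c k) hr

theorem AB.fus (h : c.AB b S) {v : ℕ} (hv : v < 512) (ha : IsConj c.a (c.fl v)) : v < 8 := by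
  obtain ⟨g, e⟩ := isConj_iff.1 ha
  obtain ⟨k, -, n, e'⟩ := wc_fus h.syl ((AB.x_FR c).trans h.x_RS) h.wc (mem_top g) e
  obtain ⟨γ, a⟩ := exists_act c.f_inj n
  have m : γ ∈ AutG c.f ⊤ := mem_autG.2 ⟨k, mem_top k, a⟩
  have l : lin (cd γ) 1 < 2 ^ 9 := lin_lt (cd_lt γ) 1
  have f : lin (cd γ) 1 = v := (bv_eq l hv).1 (c.f_inj ((a.bv (by norm_num)).symm.trans e'))
  rcases cnt9 ((G9_le b).trans h.le) with k | ⟨δ, m', k⟩ | k
  · exact f ▸ k γ m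
  · exact absurd k (h.h9.no_d δ m')
  · exact f ▸ (h.h9.v6 k m 1 (by norm_num)).resolve_right (by norm_num)

end Fr

end H12.E64
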