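import Cfsg.Agent.Lib.E64.Defs

/-! Words in coded generators, and table driven checks. -/

set_option autoImplicit false

namespace H12.E64.Wd

open Subgroup

/-- the code of a word; the letters are the digits `1, …, 7` in base `8` -/
def wd (n : ℕ) (s : List (List ℕ)) : ℕ → ℕ → List ℕ
  | 0, _ => idn n
  | f + 1, w => bif Nat.beq w 0 then idn n else cm (s.getD (w % 8 - 1) (idn n)) (wd n s f (w / 8))

/-- the image of a vector under a word -/
def aw (n : ℕ) (s : List (List ℕ)) : ℕ → ℕ → ℕ → ℕ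
  | 0, _, x => x
  | f + 1, w, x => bif Nat.beq w 0 then x else lin (s.getD (w % 8 - 1) (idn n)) (aw n s f (w / 8) x)

/-- a check along two lists -/
def al2 {α β : Type} (p : α → β → Bool) : List α → List β → Bool
  | [], _ => true
  | _ :: _, [] => false
  | a :: l, b :: t => p a b && al2 p l t

/-- the entry `i` of a table of `b`-bit numbers -/
def gt (T b i : ℕ) : ℕ := T >>> (b * i) % 2 ^ b

theorem eqns_wd : True := by
  have := @wd.eq_1
  have := @wd.eq_2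
  have := @wd.eq_def
  have := @aw.eq_1
  have := @aw.eq_2
  have := @aw.eq_def
  have := @al2.eq_1
  have := @al2.eq_2
  have := @al2.eq_3
  have := @al2.eq_def
  have := @gt.eq_1
  trivial

variable {n : ℕ} {s : List (List ℕ)}

theorem al2_ex {α β : Type} {p : α → β → Bool} : ∀ {l : List α} {t : List β}, al2 p l t = true →
    ∀ a ∈ l, ∃ b ∈ t, p a b = true
  | [], _, _, _, h => by simp at h
  | _ :: _, [], h, _, _ => by simp [al2] at h
  | a :: l, b :: t, h, x, hx => by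
    rw [al2, Bool.and_eq_true] at h
    rcases List.mem_cons.1 hx with rfl | hx
    · exact ⟨b, List.mem_cons_self, h.1⟩
    · obtain ⟨y, hy, e⟩ := al2_ex h.2 x hx
      exact ⟨y, List.mem_cons_of_mem _ hy, e⟩

theorem mk_mem {l : List ℕ} (h : l ∈ s) : mk n l ∈ cl n s := subset_closure ⟨l, h, rfl⟩

theorem cl_le {H : Subgroup (Au n)} (h : ∀ l ∈ s, mk n l ∈ H) : cl n s ≤ H :=
  (closure_le _).2 fun _ ⟨l, hl, e⟩ => e ▸ h l hl

theorem cl_mono {t : List (List ℕ)} (h : s ⊆ t) : cl n s ≤ cl n t := cl_le fun _ hl => mk_mem (h hl)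

theorem getD_mem (hs : ∀ l ∈ s, cd (mk n l) = l) (i : ℕ) : ∃ g ∈ cl n s, cd g = s.getD i (idn n) := by
  rcases lt_or_ge i s.length with h | h
  · rw [List.getD_eq_getElem _ _ h]
    exact ⟨_, mk_mem (List.getElem_mem h), hs _ (List.getElem_mem h)⟩
  · rw [List.getD_eq_default _ _ h]
    exact ⟨1, one_mem _, cd_one⟩

theorem wd_mem (hs : ∀ l ∈ s, cd (mk n l) = l) : ∀ f w, ∃ g ∈ cl n s, cd g = wd n s f w
  | 0, _ => ⟨1, one_mem _, cd_one⟩
  | f + 1, w => by
    rw [wd]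
    cases Nat.beq w 0
    · obtain ⟨g, hg, e⟩ := getD_mem hs (w % 8 - 1)
      obtain ⟨k, hk, e'⟩ := wd_mem hs f (w / 8)
      exact ⟨g * k, mul_mem hg hk, by rw [cd_mul, e, e']; rfl⟩
    · exact ⟨1, one_mem _, cd_one⟩

theorem mem_of_wd (hs : ∀ l ∈ s, cd (mk n l) = l) {g : Au n} {f w : ℕ} (h : cd g = wd n s f w) : g ∈ cl n s := by
  obtain ⟨k, hk, e⟩ := wd_mem hs f w
  rwa [cd_inj (h.trans e.symm)]

theorem aw_mem (hs : ∀ l ∈ s, cd (mk n l) = l) {x : ℕ} (hx : x < 2 ^ n) :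
    ∀ f w, ∃ g ∈ cl n s, lin (cd g) x = aw n s f w x
  | 0, _ => ⟨1, one_mem _, by rw [cd_one, lin_idn hx]; rfl⟩
  | f + 1, w => by
    rw [aw]
    cases Nat.beq w 0
    · obtain ⟨g, hg, e⟩ := getD_mem hs (w % 8 - 1)
      obtain ⟨k, hk, e'⟩ := aw_mem hs hx f (w / 8)
      exact ⟨g * k, mul_mem hg hk, by rw [cd_mul, lin_cm, e, e']; rfl⟩
    · exact ⟨1, one_mem _, by rw [cd_one, lin_idn hx]; rfl⟩

theorem cd_cols (g : Au n) : cd g = (idn n).map (lin (cd g)) := by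
  have := cd_mul g 1
  rwa [mul_one, cd_one] at this

theorem lin_cd_lt (g : Au n) (x : ℕ) : lin (cd g) x < 2 ^ n := lin_lt (cd_lt g) x

theorem lin_inv (g : Au n) {x : ℕ} (hx : x < 2 ^ n) : lin (cd g⁻¹) (lin (cd g) x) = x := by
  rw [← lin_cm, ← cd_mul, inv_mul_cancel, cd_one, lin_idn hx]

theorem lin_inv' (g : Au n) {x : ℕ} (hx : x < 2 ^ n) : lin (cd g) (lin (cd g⁻¹) x) = x := by
  rw [← lin_cm, ← cd_mul, mul_inv_cancel, cd_one, lin_idn hx]

theorem lin_eq_zero (g : Au n) {x : ℕ} (hx : x < 2 ^ n) (h : lin (cd g) x = 0) : x = 0 := by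
  rw [← lin_inv g hx, h, lin_zero]

end H12.E64.Wd
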