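import Cfsg.Agent.Lib.E64.MB
import Cfsg.Agent.Lib.E64.Wd

/-! Involutions of `T0` (see blueprint/E64/README.md) -/

set_option autoImplicit false

namespace H12.E64

open Subgroup Cfsg H69 H45 Gold Wd
open scoped commutatorElement

namespace MI

def kc (e : ℕ) : List ℕ := cm (tvc (e % 64)) (cm (tvc (e / 64 % 64)) (tvc (e / 4096 % 64)))
def gc (s : List ℕ) (u : ℕ) : List ℕ := cm (lvc s) (ffc (8 * u))
def ck (s : List ℕ) (u : ℕ) (E : List ℕ) : Bool :=
  lin (gc s u) 64 == 64 && (cm (gc s u) (gc s u) != idn 7 ||
    (E.all fun e => cm (kc e) (gc s u) == cm (ffc (e / 262144 % 512)) (kc e)) &&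
    (List.range 64).all fun t => lin (gc s u) t != t || E.any fun e => lin (kc e) t < 8)
def tb : List (List (List ℕ)) :=
  [[[0, 132104, 148552, 152712, 136392, 160777, 144457, 140425, 156873], [2097152, 2229248, 2237440, 2170880,
  2244608, 2293760], [4194304, 4325888, 4329984, 4231168, 4341760, 4358144], [6291456, 6422528, 6438912],
  [8388608, 8454656, 8458752, 8425472, 8462336, 8486912], [10485760, 10551296, 10559488], [12582912, 12615680,
  12619776], [14680064], [16777216, 16908288, 16924672], [18874368, 19005440, 19021824], [20971520, 21102592,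
  21118976], [23068672, 23201280, 23205376, 23171072, 23216128, 23298048], [25165824], [27262976], [29360128],
  [31457280, 31555584, 31559680], [33554432, 33619968, 33628160], [35651584, 35717120, 35725312], [37748736],
  [39845888], [41943040, 42008576, 42016768], [44040192, 44205056, 44213248, 44113920, 44208128, 44269568],
  [46137344], [48234496, 48398336, 48402432], [50331648, 50528256, 50536448], [52428800, 52625408, 52633600],
  [54525952], [56623104], [58720256], [60817408], [62914560, 63143936, 63148032], [65011712], [67108864,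
  67141632, 67145728], [69206016], [71303168, 71335936, 71340032], [73400320], [75497472, 75530240, 75534336],
  [77594624], [79691776, 79888896, 79892992, 79728640, 79896576, 79921152], [81788928, 81985536, 81993728],
  [83886080, 84049920, 84054016], [85983232], [88080384, 88244224, 88248320], [90177536], [92274688],
  [94371840, 94601216, 94605312], [96468992], [98566144], [100663296, 100761600, 100765696], [102760448],
  [104857600], [106954752, 107184128, 107188224], [109051904, 109150208, 109154304], [111149056], [113246208],
  [115343360], [117440512, 117669888, 117673984], [119537664], [121634816], [123731968, 123830272, 123834368],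
  [125829120], [127926272, 128090112, 128094208], [130023424, 130220032, 130228224], [132120576, 132285952,
  132290048, 132294208, 132298304]], [[33701888, 33702912, 33703040], [35799040, 35800064, 35800192],
  [37896192], [39993344], [], [], [], [], [50479104, 33711104, 33711232], [52576256, 35808256, 35808384],
  [54673408], [56770560], [], [], [], [], [35782656, 35783680, 35783808], [33685504, 33686528, 33686656],
  [39976960], [37879808], [], [], [], [], [52559872, 35791872, 35792000], [50462720, 33694720, 33694848],
  [56754176], [54657024], [], [], [], [], [], [], [], [], [], [], [], [], [], [], [], [], [], [], [], [], [],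
  [], [], [], [], [], [], [], [], [], [], [], [], [], [], []], [[67256320, 67256832, 67256896], [69353472],
  [71450624, 71451136, 71451200], [73547776], [], [], [], [], [84033536, 67260928, 67260992], [86130688],
  [88227840, 71455232, 71455296], [90324992], [], [], [], [], [], [], [], [], [], [], [], [], [], [], [], [],
  [], [], [], [], [71434240, 71434752, 71434816], [73531392], [67239936, 67240448, 67240512], [69337088], [],
  [], [], [], [88211456, 71438848, 71438912], [90308608], [84017152, 67244544, 67244608], [86114304], [], [],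
  [], [], [], [], [], [], [], [], [], [], [], [], [], [], [], [], [], []], [[100810752, 100812288, 100812352],
  [102907904], [105005056], [107102208, 123885056, 123885120], [], [], [], [], [117587968, 100816384,
  100816448], [119685120], [121782272], [123879424, 123880960, 123881024], [], [], [], [], [], [], [], [], [],
  [], [], [], [], [], [], [], [], [], [], [], [], [], [], [], [], [], [], [], [], [], [], [], [], [], [], [],
  [123863040, 123864576, 123864640], [121765888], [119668736], [117571584, 100800000, 100800064], [], [], [],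
  [], [107085824, 123868672, 123868736], [104988672], [102891520], [100794368, 100795904, 100795968], [], [],
  [], []], [[16850944, 16909440, 16925824], [18948096, 19006592, 19022976], [], [], [25239552], [27336704],
  [], [], [18939904, 19006464, 19022848], [16842752, 16909312, 16925696], [], [], [27328512], [25231360], [],
  [], [50405376, 50472064, 50488448], [52502528, 52569216, 52585600], [], [], [58793984], [60891136], [], [],
  [52494336, 52569088, 52585472], [50397184, 50471936, 50488320], [], [], [60882944], [58785792], [], [], [],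
  [], [], [], [], [], [], [], [], [], [], [], [], [], [], [], [], [], [], [], [], [], [], [], [], [], [], [],
  [], [], [], []], [[16982016, 16917504, 50480256], [19079168, 19014656, 52577408], [], [], [], [], [], [],
  [19070976, 52577280, 19014784], [16973824, 50480128, 16917632], [], [], [], [], [], [], [35848192, 19031040,
  52561024], [33751040, 16933888, 50463872], [], [], [], [], [], [], [33759232, 50463744, 16934016],
  [35856384, 52560896, 19031168], [], [], [], [], [], [], [], [], [], [], [], [], [96673792], [98770944], [],
  [], [], [], [], [], [98762752], [96665600], [], [], [], [], [], [], [115539968], [113442816], [], [], [],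
  [], [], [], [113451008], [115548160]], [[], [], [], [], [], [], [], [], [], [], [], [], [], [], [], [], [],
  [], [], [], [], [], [], [], [], [], [], [], [], [], [], [], [], [], [], [], [], [], [], [], [], [], [], [],
  [], [], [], [], [], [], [], [], [], [], [], [], [], [], [], [], [], [], [], []], [[], [], [], [], [], [],
  [], [], [], [], [], [], [], [], [], [], [], [], [], [], [], [], [], [], [], [], [], [], [], [], [], [], [],
  [], [], [], [], [], [], [], [], [], [], [], [], [], [], [], [], [], [], [], [], [], [], [], [], [], [], [],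
  [], [], [], []]]

theorem eqns_mi : True := by
  have := @kc.eq_1
  have := @gc.eq_1
  have := @ck.eq_1
  have := @tb.eq_1
  trivial

theorem chk : al2 (fun s r => al2 (ck s) (List.range 64) r) (gl3.take 8) tb = true := by decide +kernel

theorem kc_mem (e : ℕ) : ∃ k ∈ M0, cd k = kc e :=
  have h : ∀ x, x % 64 < 64 := fun x => Nat.mod_lt _ (by norm_num)
  ⟨tv (e % 64) * (tv (e / 64 % 64) * tv (e / 4096 % 64)),
    mul_mem (tv_mem (h _)) (mul_mem (tv_mem (h _)) (tv_mem (h _))),
    by rw [cd_mul, cd_mul, cd_tv _ (h _), cd_tv _ (h _), cd_tv _ (h _), kc]⟩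

theorem dec {m : Au 7} (hm : m ∈ T0) : ∃ t < 64, ∃ s ∈ gl3.take 8, ∃ u < 64, m = tau t * (lv s * ff (8 * u)) := by
  obtain ⟨s, hs, r, hr, rfl⟩ := mem_T0 hm
  obtain ⟨y, hy, v, hv, rfl⟩ := mem_R0.1 hr
  have e : v = v % 8 ^^^ 8 * (v / 8) := (by decide +kernel : ∀ v < 512, v = v % 8 ^^^ 8 * (v / 8)) v hv
  have h1 : 8 * y ^^^ v % 8 < 64 := Nat.xor_lt_two_pow (n := 6) (by omega) (by omega)
  obtain ⟨h2, h3⟩ := cj_tau (mem_inf.1 (lv_mem (List.mem_of_mem_take hs))).1 h1
  refine ⟨_, h2, s, hs, v / 8, by omega, ?_⟩
  rw [← h3, tau_mul (by omega) (by omega), tau_ff _ (by omega : v % 8 < 8)]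
  conv_lhs => rw [e, ff_mul (by omega) (by omega)]
  group

end MI

open MI

theorem inv_conj {m : Au 7} (hm : m ∈ T0) (h : m * m = 1) : ∃ g ∈ M0, g * m * g⁻¹ ∈ F0 := by
  obtain ⟨t, ht, s, hs, u, hu, rfl⟩ := dec hm
  obtain ⟨r, -, hr⟩ := al2_ex chk s hs
  obtain ⟨E, -, hE⟩ := al2_ex hr u (List.mem_range.2 hu)
  have hs' := List.mem_of_mem_take hs
  have hg : lv s * ff (8 * u) ∈ M0 :=
    mul_mem (mem_inf.1 (lv_mem hs')).1 (mem_inf.1 (F0_R (ff_mem (by omega)))).1
  have cg : cd (lv s * ff (8 * u)) = gc s u := by rw [cd_mul, cd_lv s hs', cd_ff _ (by omega), gc]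
  generalize lv s * ff (8 * u) = g at *
  rw [MI.ck.eq_1] at hE
  simp only [Bool.and_eq_true, Bool.or_eq_true, beq_iff_eq, bne_iff_ne, List.all_eq_true, List.any_eq_true,
    List.mem_range, decide_eq_true_eq, ← cg] at hE
  obtain ⟨h64, hE⟩ := hE
  obtain ⟨h2, h3⟩ := cj_tau hg ht
  have h4 : tau (t ^^^ lin (cd g) t) * (g * g) = 1 := by
    rw [tau_mul ht h2, ← h3, ← h]; group
  have h5 : t ^^^ lin (cd g) t < 64 := Nat.xor_lt_two_pow (n := 6) ht h2
  have h6 : t ^^^ lin (cd g) t = 0 := by
    have := congrArg (fun k => lin (cd k) 64) h4
    simp only [cd_mul, lin_cm, h64, cd_one, cd_tau _ h5] at this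
    exact (by decide +kernel : ∀ v < 64, lin (tauc v) 64 = lin (idn 7) 64 → v = 0) _ h5 this
  have h7 : tau 0 = 1 := by rw [cd_eq_iff, cd_tau 0 (by norm_num), cd_one]; decide
  rw [h6, h7, one_mul, cd_eq_iff, cd_mul, cd_one] at h4
  obtain ⟨h8, h9⟩ := hE.resolve_left fun c => c h4
  obtain ⟨e, he, h10⟩ := (h9 t ht).resolve_left fun c => c (Nat.xor_eq_zero_iff.1 h6).symm
  obtain ⟨k, hk, ek⟩ := kc_mem e
  have h11 : e / 262144 % 512 < 512 := Nat.mod_lt _ (by norm_num)
  have h12 : k * g = ff (e / 262144 % 512) * k := by
    rw [cd_eq_iff, cd_mul, cd_mul, ek, cd_ff _ h11]; exact h8 e he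
  refine ⟨k, hk, ?_⟩
  have h13 : k * (tau t * g) * k⁻¹ = k * tau t * k⁻¹ * (k * g * k⁻¹) := by group
  rw [h13, (cj_tau hk ht).2, h12, mul_inv_cancel_right, ek, tau_ff _ h10]
  exact mul_mem (ff_mem (by omega)) (ff_mem h11)

end H12.E64
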