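import Mathlib

/-! Bit vectors under exclusive or, and their automorphisms coded by lists of columns. -/

set_option autoImplicit false

namespace H12.E64

/-- numbers below `2 ^ n` under exclusive or -/
def BV (n : ℕ) : Type := Fin (2 ^ n)

instance (n : ℕ) : Fintype (BV n) := inferInstanceAs (Fintype (Fin (2 ^ n)))
instance (n : ℕ) : DecidableEq (BV n) := inferInstanceAs (DecidableEq (Fin (2 ^ n)))

instance (n : ℕ) : CommGroup (BV n) where
  mul a b := ⟨a.1 ^^^ b.1, Nat.xor_lt_two_pow a.2 b.2⟩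
  one := ⟨0, Nat.two_pow_pos n⟩
  inv a := a
  mul_assoc a b c := Fin.ext (Nat.xor_assoc _ _ _)
  one_mul a := Fin.ext (Nat.zero_xor _)
  mul_one a := Fin.ext (Nat.xor_zero _)
  inv_mul_cancel a := Fin.ext (Nat.xor_self _)
  mul_comm a b := Fin.ext (Nat.xor_comm _ _)

/-- the vector with code `x` -/
def bv (n x : ℕ) : BV n := ⟨x % 2 ^ n, Nat.mod_lt _ (Nat.two_pow_pos n)⟩

abbrev Au (n : ℕ) := MulAut (BV n)

/-- the linear map with columns `l` -/
def lin : List ℕ → ℕ → ℕ
  | [], _ => 0
  | c :: l, x => x % 2 * c ^^^ lin l (x / 2)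

/-- the code of a composite -/
def cm (l m : List ℕ) : List ℕ := m.map (lin l)
/-- the code of the identity -/
def idn (n : ℕ) : List ℕ := (List.range n).map (2 ^ ·)
/-- the code of an automorphism -/
def cd {n : ℕ} (g : Au n) : List ℕ := (List.range n).map fun i => (g (bv n (2 ^ i))).1
/-- `l'` is a left inverse of the code `l` -/
def ok (n : ℕ) (l l' : List ℕ) : Bool := l.length == n && l.all (· < 2 ^ n) && cm l' l == idn n
/-- the code `l` has trivial kernel -/
def oki (n : ℕ) (l : List ℕ) : Bool :=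
  l.length == n && l.all (· < 2 ^ n) && (List.range (2 ^ n)).all fun x => x == 0 || lin l x != 0

open Classical in
/-- the automorphism with code `l` -/
noncomputable def mk (n : ℕ) (l : List ℕ) : Au n := if h : ∃ g : Au n, cd g = l then h.choose else 1

theorem eqns_bv : True := by
  have := @BV.eq_1
  have := @bv.eq_1
  have := @lin.eq_1
  have := @lin.eq_2
  have := @lin.eq_def
  have := @cm.eq_1
  have := @idn.eq_1
  have := @cd.eq_1
  have := @ok.eq_1
  have := @oki.eq_1
  have := @mk.eq_1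
  trivial

variable {n : ℕ}

theorem BV.ext {a b : BV n} (h : a.1 = b.1) : a = b := Fin.ext h
theorem BV.lt (a : BV n) : a.1 < 2 ^ n := a.2
theorem val_mul (a b : BV n) : (a * b).1 = a.1 ^^^ b.1 := rfl
theorem val_one : (1 : BV n).1 = 0 := rfl
theorem bv_inv (a : BV n) : a⁻¹ = a := rfl
theorem bv_sq (a : BV n) : a * a = 1 := inv_mul_cancel a
theorem val_bv {x : ℕ} (h : x < 2 ^ n) : (bv n x).1 = x := Nat.mod_eq_of_lt h
theorem bv_val (a : BV n) : bv n a.1 = a := Fin.ext (val_bv a.2)
theorem bv_zero : bv n 0 = 1 := Fin.ext (Nat.zero_mod _)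
theorem bv_xor (x y : ℕ) : bv n (x ^^^ y) = bv n x * bv n y := Fin.ext Nat.xor_mod_two_pow
theorem card_BV : Nat.card (BV n) = 2 ^ n := Nat.card_fin _
theorem bv_eq {x y : ℕ} (hx : x < 2 ^ n) (hy : y < 2 ^ n) : bv n x = bv n y ↔ x = y :=
  ⟨fun h => by rw [← val_bv hx, h, val_bv hy], fun h => h ▸ rfl⟩
theorem forall_bv {P : BV n → Prop} (h : ∀ x < 2 ^ n, P (bv n x)) (a : BV n) : P a := bv_val a ▸ h a.1 a.2

theorem lin_zero : ∀ l, lin l 0 = 0
  | [] => rfl
  | c :: l => by simp [lin, lin_zero l]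

theorem lin_xor : ∀ l x y, lin l (x ^^^ y) = lin l x ^^^ lin l y
  | [], _, _ => by simp [lin]
  | c :: l, x, y => by
    have e : (x ^^^ y) % 2 * c = x % 2 * c ^^^ y % 2 * c := by
      have := @Nat.xor_mod_two_pow x y 1
      rw [pow_one] at this
      rw [this]
      rcases Nat.mod_two_eq_zero_or_one x with h | h <;> rcases Nat.mod_two_eq_zero_or_one y with k | k <;>
        simp [h, k]
    rw [lin, lin, lin, Nat.xor_div_two, lin_xor l, e]
    ac_rfl

theorem lin_lt : ∀ {l : List ℕ}, (∀ c ∈ l, c < 2 ^ n) → ∀ x, lin l x < 2 ^ n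
  | [], _, _ => Nat.two_pow_pos n
  | c :: l, h, x => by
    refine Nat.xor_lt_two_pow ?_ (lin_lt (fun d hd => h d (List.mem_cons_of_mem _ hd)) _)
    rcases Nat.mod_two_eq_zero_or_one x with k | k <;> rw [k]
    · simp
    · simpa using h c List.mem_cons_self

theorem lin_cm : ∀ (l m : List ℕ) (x : ℕ), lin (cm l m) x = lin l (lin m x)
  | l, [], _ => (lin_zero l).symm
  | l, c :: m, x => by
    have := lin_cm l m (x / 2)
    rw [cm] at this
    rw [cm, List.map_cons, lin, lin, lin_xor, this]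
    rcases Nat.mod_two_eq_zero_or_one x with k | k <;> simp [k, lin_zero]

theorem lin_range (φ : ℕ → ℕ) (h0 : φ 0 = 0) (h : ∀ x y, φ (x ^^^ y) = φ x ^^^ φ y) :
    ∀ k j x, x < 2 ^ k → lin ((List.range k).map fun i => φ (2 ^ (i + j))) x = φ (x * 2 ^ j)
  | 0, j, x, hx => by
    obtain rfl : x = 0 := by omega
    simp [lin, h0]
  | k + 1, j, x, hx => by
    have := lin_range φ h0 h k (j + 1) (x / 2) (by omega)
    rw [List.range_succ_eq_map, List.map_cons, List.map_map, lin]
    have e : ((fun i => φ (2 ^ (i + j))) ∘ Nat.succ) = fun i => φ (2 ^ (i + (j + 1))) := by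
      ext i; simp only [Function.comp, Nat.succ_eq_add_one]; rw [add_right_comm, add_assoc]
    rw [e, this, zero_add]
    have e2 : x * 2 ^ j = x % 2 * 2 ^ j ^^^ x / 2 * 2 ^ (j + 1) := by
      rw [pow_succ', ← mul_assoc, ← Nat.shiftLeft_eq, ← Nat.shiftLeft_eq, ← Nat.shiftLeft_eq,
        ← Nat.shiftLeft_xor_distrib]
      congr 1
      refine Nat.eq_of_testBit_eq fun i => ?_
      cases i with
      | zero => rcases Nat.mod_two_eq_zero_or_one x with k | k <;> simp [k]
      | succ i =>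
        rw [Nat.testBit_xor, Nat.testBit_succ, Nat.testBit_succ, Nat.testBit_succ,
          show x % 2 / 2 = 0 by omega, show x / 2 * 2 / 2 = x / 2 by omega]
        simp
    rw [e2, h]
    rcases Nat.mod_two_eq_zero_or_one x with k | k <;> simp [k, h0]

theorem lin_idn {x : ℕ} (hx : x < 2 ^ n) : lin (idn n) x = x := by
  simpa [idn] using lin_range id rfl (fun _ _ => rfl) n 0 x hx

theorem app (g : Au n) (a : BV n) : (g a).1 = lin (cd g) a.1 := by
  have := lin_range (fun x => (g (bv n x)).1) (by simp [bv_zero, val_one])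
    (fun x y => by simp only [bv_xor, map_mul, val_mul]) n 0 a.1 a.2
  simp only [add_zero, pow_zero, mul_one, bv_val] at this
  exact this.symm

theorem app_bv (g : Au n) {x : ℕ} (hx : x < 2 ^ n) : g (bv n x) = bv n (lin (cd g) x) := by
  have := app g (bv n x)
  rw [val_bv hx] at this
  rw [← this, bv_val]

theorem cd_length (g : Au n) : (cd g).length = n := by simp [cd]

theorem cd_lt (g : Au n) : ∀ c ∈ cd g, c < 2 ^ n := by
  simp only [cd, List.mem_map]
  rintro _ ⟨i, -, rfl⟩
  exact BV.lt _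

theorem cd_inj {g h : Au n} (e : cd g = cd h) : g = h :=
  MulEquiv.ext fun a => BV.ext (by rw [app, app, e])

theorem cd_eq_iff {g h : Au n} : g = h ↔ cd g = cd h := ⟨fun e => e ▸ rfl, cd_inj⟩

theorem cd_mul (g h : Au n) : cd (g * h) = cm (cd g) (cd h) := by
  rw [cm, cd, cd, cd, List.map_map]
  exact List.map_congr_left fun i _ => app g _

theorem cd_one : cd (1 : Au n) = idn n :=
  List.map_congr_left fun _ hi => val_bv (Nat.pow_lt_pow_right (by norm_num) (List.mem_range.1 hi))

theorem lin_two_pow : ∀ (l : List ℕ) (i : ℕ) (h : i < l.length), lin l (2 ^ i) = l[i]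
  | c :: l, 0, _ => by simp [lin, lin_zero]
  | c :: l, i + 1, h => by
    rw [lin, show 2 ^ (i + 1) % 2 = 0 by omega, show 2 ^ (i + 1) / 2 = 2 ^ i by omega,
      lin_two_pow l i (by simpa using h)]
    simp

theorem cd_of {g : Au n} {l : List ℕ} (hl : l.length = n) (h : ∀ x < 2 ^ n, (g (bv n x)).1 = lin l x) :
    cd g = l := by
  refine List.ext_getElem (by rw [cd_length, hl]) fun i h1 h2 => ?_
  simp only [cd, List.getElem_map, List.getElem_range]
  rw [h _ (Nat.pow_lt_pow_right (by norm_num) (hl ▸ h2)), lin_two_pow]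

theorem cd_mk_of {l : List ℕ} (hl : l.length = n) (hb : ∀ c ∈ l, c < 2 ^ n)
    (hi : ∀ x < 2 ^ n, lin l x = 0 → x = 0) : cd (mk n l) = l := by
  let f : BV n →* BV n := MonoidHom.mk' (fun a => ⟨lin l a.1, lin_lt hb _⟩) fun a b => BV.ext (lin_xor l _ _)
  have inj : Function.Injective f := (injective_iff_map_eq_one f).2 fun a ha =>
    BV.ext (hi a.1 a.2 (congrArg Fin.val ha))
  have h : ∃ g : Au n, cd g = l := ⟨MulEquiv.ofBijective f (Finite.injective_iff_bijective.1 inj),
    cd_of hl fun x hx => congrArg (lin l) (val_bv hx)⟩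
  rw [mk, dif_pos h]
  exact h.choose_spec

theorem cd_mk {l : List ℕ} (l' : List ℕ) (h : ok n l l' = true) : cd (mk n l) = l := by
  simp only [ok, Bool.and_eq_true, beq_iff_eq, List.all_eq_true, decide_eq_true_eq] at h
  exact cd_mk_of h.1.1 h.1.2 fun x hx e => by rw [← lin_idn hx, ← h.2, lin_cm, e, lin_zero]

theorem cd_mki {l : List ℕ} (h : oki n l = true) : cd (mk n l) = l := by
  simp only [oki, Bool.and_eq_true, beq_iff_eq, List.all_eq_true, decide_eq_true_eq, List.mem_range,
    Bool.or_eq_true, bne_iff_ne] at h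
  exact cd_mk_of h.1.1 h.1.2 fun x hx e => (h.2 x hx).resolve_right fun c => c e

theorem mk_cd (g : Au n) : mk n (cd g) = g := by
  have h : ∃ k : Au n, cd k = cd g := ⟨g, rfl⟩
  rw [mk, dif_pos h]
  exact cd_inj h.choose_spec

theorem cd_inv {g : Au n} {l : List ℕ} (h : ok n l (cd g) = true) : cd g⁻¹ = l := by
  have e := cd_mk _ h
  simp only [ok, Bool.and_eq_true, beq_iff_eq] at h
  rw [← e, ← cd_eq_iff, inv_eq_iff_mul_eq_one, cd_eq_iff, cd_mul, e, h.2, cd_one]

/-- a submonoid of a finite group is a subgroup -/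
def sg {X : Type*} [Group X] [Finite X] (p : X → Prop) (h1 : p 1) (hm : ∀ a b, p a → p b → p (a * b)) :
    Subgroup X :=
  let S : Submonoid X := ⟨⟨{x | p x}, fun ha hb => hm _ _ ha hb⟩, h1⟩
  { S with inv_mem' := fun {x} hx =>
      (Submonoid.powers_le.2 hx) (mem_powers_iff_mem_zpowers.2 (inv_mem (Subgroup.mem_zpowers x))) }

theorem mem_sg {X : Type*} [Group X] [Finite X] {p : X → Prop} {h1 : p 1} {hm : ∀ a b, p a → p b → p (a * b)}
    {x : X} : x ∈ sg p h1 hm ↔ p x := Iff.rfl

/-- a list of codes closed under the generators contains the codes of the generated subgroup -/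
theorem mem_of_closed {s : List (List ℕ)} (hs : ∀ l ∈ s, cd (mk n l) = l) {P : List ℕ → Prop} (h1 : P (idn n))
    (h : ∀ l ∈ s, ∀ m, P m → P (cm l m)) {g : Au n} (hg : g ∈ Subgroup.closure {x | ∃ l ∈ s, x = mk n l}) :
    P (cd g) := by
  have : ∀ k : Au n, P (cd k) → P (cd (g * k)) := by
    refine (Subgroup.closure_le (sg (fun g => ∀ k : Au n, P (cd k) → P (cd (g * k))) (by simp)
      fun a b ha hb k hk => by rw [mul_assoc]; exact ha _ (hb k hk))).2 ?_ hg
    rintro _ ⟨l, hl, rfl⟩ k hk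
    rw [cd_mul, hs l hl]
    exact h l hl _ hk
  simpa using this 1 (cd_one (n := n) ▸ h1)

theorem eqns_bv2 : True := by
  have := @sg.eq_1.{0}
  trivial

end H12.E64
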