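import Cfsg.Agent.Lib.E64.Defs

/-! The configurations with an element exchanging `A` and `A'` (these replace `Sw`, `Ga`, `Cf`). -/

set_option autoImplicit false

namespace H12.E64

open Subgroup H69 Gold

variable {G : Type*} [Group G]

namespace Fr

variable (c : Fr G)

/-- an element exchanging `A` and `A'` -/
structure Sx (x : G) : Prop where
  nR : x ∈ 𝐍(c.R)
  nT : x ∈ 𝐍(c.T)
  out : x ∉ c.N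
  two : ∀ y ∈ 𝐍(c.R), y ∈ c.N ∨ x * y ∈ c.N
  TR : c.T ≤ 𝐍(c.R ⊔ zpowers x)
  sur : ∀ m ∈ P0, ∃ n ∈ c.N, n ∈ 𝐍(c.R) ∧ n ∈ 𝐍(c.R ⊔ zpowers x) ∧ c.π n = m
  cos : ∀ n ∈ c.N, n ∈ 𝐍(c.R) → n ∈ 𝐍(c.R ⊔ zpowers x) → ∃ v, n * x * n⁻¹ = x * c.f v
  sq : ∃ w < 8, x * x = c.fl w
  swp : ∀ v < 64, ∃ w < 8, x * c.al v * x⁻¹ = c.al v * c.fl (dl (v / 8) ^^^ w)
  cW : ∀ v < 512, ∃ w < 8, x * c.fl v * x⁻¹ = c.fl (v ^^^ w) ∧ (v < 8 → w = 0)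

/-- the case `E = 2¹⁰` -/
structure Gx (b : Bool) (e : BV 10 →* G) : Prop where
  inj : Function.Injective e
  ef : ∀ v < 512, e (bv 10 v) = c.fl v
  nR : e (bv 10 512) ∈ 𝐍(c.R)
  two : ∀ y ∈ 𝐍(c.R), y ∈ c.N ∨ e (bv 10 512) * y ∈ c.N
  TE : c.T ≤ 𝐍(e.range)
  nT : e.range ≤ 𝐍(c.T)
  ex : ∀ n ∈ c.N, n ∈ 𝐍(c.R) → n ∈ 𝐍(e.range) → ∃ g ∈ L0 b, Act e n g
  sur : L0 b ≤ AutG e (c.N ⊓ 𝐍(c.R))
  aT : AutG e c.T = T10 b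
  aA : AutG e c.A = A10

/-- the final configuration -/
structure Cg (e : BV 10 →* G) (S : Subgroup G) : Prop where
  ga : c.Gx true e
  syl : IsSylowIn 2 S ⊤
  TS : c.T ≤ S
  ES : e.range ≤ S
  SN : S ≤ 𝐍(e.range)
  aut : AutG e S = S10
  cE : S ⊓ 𝐂(e.range) ≤ e.range
  l1 : L1 ≤ AutG e ⊤
  pX : ∀ g ∈ AutG e ⊤, ∀ v < 1024, inX v = true → inX (lin (cd g) v) = true
  wc : ∀ g, e.range ^ᶜ g ≤ S → g ∈ 𝐍(e.range)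

end Fr

end H12.E64
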