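import Cfsg.Agent.Lib.E64.Defs

/-! Automisers of elementary abelian subgroups (see blueprint/E64/README.md) -/

set_option autoImplicit false

namespace H12.E64

open Subgroup Cfsg H69 H45 Gold
open scoped commutatorElement

variable {G : Type*} [Group G] {n : ℕ} {f : BV n →* G}

theorem Act.one : Act f 1 1 := fun v => by simp
theorem Act.mul {g h : G} {γ δ : Au n} (a : Act f g γ) (b : Act f h δ) : Act f (g * h) (γ * δ) :=
  fun v => by rw [MulAut.mul_apply, ← a, ← b]; group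
theorem Act.inv {g : G} {γ : Au n} (a : Act f g γ) : Act f g⁻¹ γ⁻¹ := fun v => by
  have := a (γ⁻¹ v)
  rw [MulAut.apply_inv_self] at this
  rw [← this]
  group
theorem Act.nrm {g : G} {γ : Au n} (a : Act f g γ) : g ∈ 𝐍(f.range) :=
  mem_normalizer_iff.2 fun x => ⟨by
    rintro ⟨v, rfl⟩
    exact ⟨_, (a v).symm⟩, by
    rintro ⟨v, hv⟩
    refine ⟨γ⁻¹ v, ?_⟩
    rw [← a.inv v, hv]
    group⟩
theorem Act.uniq (hf : Function.Injective f) {g : G} {γ δ : Au n} (a : Act f g γ) (b : Act f g δ) : γ = δ :=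
  MulEquiv.ext fun v => hf ((a v).symm.trans (b v))
theorem Act.bv {g : G} {γ : Au n} (a : Act f g γ) {x : ℕ} (hx : x < 2 ^ n) :
    g * f (bv n x) * g⁻¹ = f (bv n (lin (cd γ) x)) := by rw [a, app_bv γ hx]

theorem Gen.hom_ext {φ ψ : BV n →* G} (h : ∀ i < n, φ (bv n (2 ^ i)) = ψ (bv n (2 ^ i))) (v : BV n) :
    φ v = ψ v := by
  have k : ∀ k ≤ n, ∀ x < 2 ^ k, φ (bv n x) = ψ (bv n x) := by
    intro k
    induction k with
    | zero =>
      intro _ x hx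
      obtain rfl : x = 0 := by omega
      simp [bv_zero]
    | succ k ih =>
      intro hk x hx
      rcases lt_or_ge x (2 ^ k) with h1 | h1
      · exact ih (by omega) x h1
      have h2 : x ^^^ 2 ^ k < 2 ^ k := Nat.lt_pow_two_of_testBit _ fun i hi => by
        rw [Nat.testBit_xor, Nat.testBit_two_pow]
        rcases hi.eq_or_lt with rfl | hi
        · simp [Nat.testBit_of_two_pow_le_and_two_pow_add_one_gt h1 hx]
        · simp [Nat.testBit_lt_two_pow (hx.trans_le (Nat.pow_le_pow_right two_pos hi)), hi.ne]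
      have e : x = (x ^^^ 2 ^ k) ^^^ 2 ^ k := by simp
      rw [e, bv_xor, map_mul, map_mul, ih (by omega) _ h2, h k (by omega)]
  simpa [bv_val] using k n le_rfl v.1 v.2

theorem act_of_basis {g : G} {γ : Au n}
    (h : ∀ i < n, g * f (bv n (2 ^ i)) * g⁻¹ = f (bv n (lin (cd γ) (2 ^ i)))) : Act f g γ :=
  Gen.hom_ext (φ := (MulAut.conj g).toMonoidHom.comp f) (ψ := f.comp γ.toMonoidHom) fun i hi => by
    have := h i hi
    rw [← app_bv γ (Nat.pow_lt_pow_right one_lt_two hi)] at this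
    exact this
theorem act_one_iff {g : G} : Act f g 1 ↔ g ∈ 𝐂(f.range) :=
  ⟨fun a => mem_centralizer_iff.2 (by
    rintro _ ⟨v, rfl⟩
    exact (mul_inv_eq_iff_eq_mul.1 (a v)).symm),
    fun h v => mul_inv_eq_iff_eq_mul.2 (mem_centralizer_iff.1 h _ ⟨v, rfl⟩).symm⟩
theorem Act.cent {g h : G} {γ : Au n} (a : Act f g γ) (b : Act f h γ) : g⁻¹ * h ∈ 𝐂(f.range) :=
  act_one_iff.1 (inv_mul_cancel γ ▸ a.inv.mul b)
theorem exists_act (hf : Function.Injective f) {g : G} (hg : g ∈ 𝐍(f.range)) : ∃ γ, Act f g γ := by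
  let e := MonoidHom.ofInjective hf
  refine ⟨e.trans ((f.range.normalizerMonoidHom ⟨g, hg⟩).trans e.symm), fun v => ?_⟩
  rw [MulEquiv.trans_apply, MulEquiv.trans_apply, MonoidHom.apply_ofInjective_symm]
  rfl
theorem mem_autG {H : Subgroup G} {γ : Au n} : γ ∈ AutG f H ↔ ∃ g ∈ H, Act f g γ := mem_sg
theorem autG_mono {H K : Subgroup G} (h : H ≤ K) : AutG f H ≤ AutG f K := fun _ hγ =>
  let ⟨g, hg, a⟩ := mem_autG.1 hγ
  mem_autG.2 ⟨g, h hg, a⟩

namespace Gen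

/-- the action of the normaliser -/
noncomputable def rho (hf : Function.Injective f) : 𝐍(f.range) →* Au n :=
  MonoidHom.mk' (fun g => (exists_act hf g.2).choose) fun g h =>
    (exists_act hf (g * h).2).choose_spec.uniq hf
      ((exists_act hf g.2).choose_spec.mul (exists_act hf h.2).choose_spec)

theorem rho_auto : True := by
  have := @rho.eq_1.{0}
  trivial

theorem act_rho (hf : Function.Injective f) (g : 𝐍(f.range)) : Act f g (rho hf g) :=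
  (exists_act hf g.2).choose_spec

theorem autG_eq (hf : Function.Injective f) (H : Subgroup G) :
    AutG f H = (H.subgroupOf 𝐍(f.range)).map (rho hf) := by
  ext γ
  rw [mem_autG]
  exact ⟨fun ⟨g, hg, a⟩ => ⟨⟨g, a.nrm⟩, hg, (act_rho hf ⟨g, a.nrm⟩).uniq hf a⟩,
    fun ⟨g, hg, e⟩ => ⟨g, hg, e ▸ act_rho hf g⟩⟩

theorem range_le : f.range ≤ 𝐂(f.range) := by
  rintro _ ⟨v, rfl⟩ _ ⟨w, rfl⟩
  rw [← map_mul, mul_comm, map_mul]

theorem nrm {H : Subgroup G} {g : G} {γ : Au n} (a : Act f g γ) (hg : g ∈ 𝐍(H)) : γ ∈ 𝐍(AutG f H) :=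
  mem_normalizer_of_cj_le (by
    rintro _ ⟨δ, hδ, rfl⟩
    obtain ⟨h, hh, b⟩ := mem_autG.1 hδ
    exact mem_autG.2 ⟨_, conj_mem_of_mem_normalizer hg hh, (a.mul b).mul a.inv⟩)

theorem card_range (hf : Function.Injective f) : Nat.card f.range = 2 ^ n := by
  rw [← Nat.card_congr (MonoidHom.ofInjective hf).toEquiv, card_BV]

theorem card_eq (hf : Function.Injective f) {S : Subgroup G} (hS : S ≤ 𝐍(f.range)) :
    Nat.card S = Nat.card (S ⊓ 𝐂(f.range) : Subgroup G) * Nat.card (AutG f S) := by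
  let φ : S →* Au n := (rho hf).comp (inclusion hS)
  have e1 : φ.range = AutG f S := by
    ext γ
    rw [mem_autG]
    exact ⟨fun ⟨g, e⟩ => ⟨g, g.2, e ▸ act_rho hf (inclusion hS g)⟩,
      fun ⟨g, hg, a⟩ => ⟨⟨g, hg⟩, (act_rho hf ⟨g, hS hg⟩).uniq hf a⟩⟩
  have e2 : φ.ker = (S ⊓ 𝐂(f.range)).subgroupOf S := by
    ext g
    rw [MonoidHom.mem_ker, mem_subgroupOf, mem_inf, ← act_one_iff]
    exact ⟨fun e => ⟨g.2, e ▸ act_rho hf (inclusion hS g)⟩,
      fun a => (act_rho hf (inclusion hS g)).uniq hf a.2⟩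
  rw [← card_mul_index φ.ker, index_ker, e1, e2,
    Nat.card_congr (subgroupOfEquivOfLe inf_le_left).toEquiv]

end Gen

open Gen

theorem autG_sup (hf : Function.Injective f) {H K : Subgroup G} (hH : H ≤ 𝐍(f.range)) (hK : K ≤ 𝐍(f.range)) :
    AutG f (H ⊔ K) = AutG f H ⊔ AutG f K := by
  rw [autG_eq hf, autG_eq hf, autG_eq hf, subgroupOf_sup hH hK, Subgroup.map_sup]
theorem autG_range (hf : Function.Injective f) : AutG f f.range = ⊥ :=
  eq_bot_iff.2 fun _ hγ =>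
    let ⟨_, hg, a⟩ := mem_autG.1 hγ
    a.uniq hf (act_one_iff.2 (range_le hg))
theorem autG_nrm {L : Subgroup G} (hL : L.Normal) : AutG f ⊤ ≤ 𝐍(AutG f L) := fun _ hγ =>
  let ⟨_, hg, a⟩ := mem_autG.1 hγ
  nrm a (normal_iff_top_le_normalizer.1 hL hg)
theorem isP_range : IsPGroup 2 f.range := by
  rintro ⟨_, v, rfl⟩
  refine ⟨1, Subtype.ext ?_⟩
  show f v ^ 2 ^ 1 = 1
  rw [pow_one, pow_two, ← map_mul, bv_sq, map_one]

variable [Finite G]

theorem card_autG (hf : Function.Injective f) {S : Subgroup G} (hS : S ≤ 𝐍(f.range)) (hF : f.range ≤ S)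
    (hc : S ⊓ 𝐂(f.range) ≤ f.range) : Nat.card S = 2 ^ n * Nat.card (AutG f S) := by
  rw [card_eq hf hS, le_antisymm hc (le_inf hF range_le), card_range hf]
theorem syl_autG (hf : Function.Injective f) {S H : Subgroup G} (hS : IsSylowIn 2 S H) (hH : H ≤ 𝐍(f.range)) :
    IsSylowIn 2 (AutG f S) (AutG f H) := by
  rw [autG_eq hf, autG_eq hf]
  exact (hS.subgroupOf hH).map _
/-- the Frattini argument for `R C(F)` -/
theorem lift_norm (hf : Function.Injective f) {R : Subgroup G} (pR : IsPGroup 2 R) (hF : f.range ≤ R)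
    (hR : R ≤ 𝐍(f.range))
    (hc : ∀ z ∈ 𝐂(f.range), z ∈ 𝐍(R) → IsPGroup 2 (R ⊔ zpowers z : Subgroup G) → z ∈ R) :
    IsSylowIn 2 R (R ⊔ 𝐂(f.range)) ∧ AutG f ⊤ ⊓ 𝐍(AutG f R) ≤ AutG f 𝐍(R) := by
  have _ := hF
  have dec : ∀ x ∈ R ⊔ 𝐂(f.range), ∃ r ∈ R, ∃ c ∈ 𝐂(f.range), x = r * c := fun x =>
    (mem_sup_of_le_normalizer_right (le_normalizer_centralizer hR)).1
  have syl : IsSylowIn 2 R (R ⊔ 𝐂(f.range)) := ⟨le_sup_left, pR, fun R' h1 h2 h3 => by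
    by_contra hne
    obtain ⟨z, hz, hz'⟩ := SetLike.exists_of_lt (lt_inf_normalizer_of_lt h3 (lt_of_le_of_ne h1 (Ne.symm hne)))
    obtain ⟨r, hr, c, hc', rfl⟩ := dec z (h2 hz.1)
    exact hz' (mul_mem hr (hc c hc' ((mul_mem_cancel_left (le_normalizer hr)).1 hz.2)
      (h3.to_le (sup_le h1 (zpowers_le.2 ((mul_mem_cancel_left (h1 hr)).1 hz.1))))))⟩
  refine ⟨syl, fun γ hγ => ?_⟩
  obtain ⟨g, -, a⟩ := mem_autG.1 hγ.1
  have hg : g ∈ 𝐍(R ⊔ 𝐂(f.range)) := mem_normalizer_of_cj_le (by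
    rintro _ ⟨x, hx, rfl⟩
    obtain ⟨r, hr, c, hc', rfl⟩ := dec x hx
    obtain ⟨ρ, b⟩ := exists_act hf (hR hr)
    obtain ⟨r', hr', b'⟩ := mem_autG.1 (conj_mem_of_mem_normalizer hγ.2 (mem_autG.2 ⟨r, hr, b⟩))
    have k := b'.cent (mul_one ρ ▸ (a.mul (b.mul (act_one_iff.2 hc'))).mul a.inv)
    exact (mul_mem_cancel_left (inv_mem (mem_sup_left hr'))).1 (mem_sup_right k))
  obtain ⟨x, hx, y, hy, rfl⟩ := syl.frattini' hg
  obtain ⟨r, hr, c, hc', rfl⟩ := dec y hy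
  refine mem_autG.2 ⟨x * r, mul_mem hx (le_normalizer hr), ?_⟩
  have := a.mul (act_one_iff.2 (inv_mem hc'))
  rwa [mul_one, ← mul_assoc, mul_inv_cancel_right] at this
theorem wc_of_noff (hf : Function.Injective f) {S : Subgroup G} (hS : S ≤ 𝐍(f.range))
    (hc : S ⊓ 𝐂(f.range) ≤ f.range)
    (no : ∀ B ≤ AutG f S, (∀ b ∈ B, b * b = 1) → ∀ U : Subgroup (BV n), (∀ b ∈ B, ∀ u ∈ U, b u = u) →
    2 ^ n ≤ Nat.card B * Nat.card U → B = ⊥)
    (g : G) (hg : f.range ^ᶜ g ≤ S) : g ∈ 𝐍(f.range) := by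
  have h0 := no (AutG f (f.range ^ᶜ g)) (autG_mono hg) (fun b hb => ?_) ((f.range ^ᶜ g).comap f)
    (fun b hb u hu => ?_) ?_
  · refine mem_normalizer_of_cj_le fun x hx => hc ⟨hg hx, ?_⟩
    obtain ⟨γ, a⟩ := exists_act hf (hS (hg hx))
    have e : γ = 1 := mem_bot.1 (h0 ▸ mem_autG.2 ⟨x, hx, a⟩)
    exact act_one_iff.1 (e ▸ a)
  · obtain ⟨x, hx, a⟩ := mem_autG.1 hb
    obtain ⟨_, ⟨v, rfl⟩, rfl⟩ := mem_cj'.1 hx
    have e : g * f v * g⁻¹ * (g * f v * g⁻¹) = 1 := by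
      rw [conj_mul, ← map_mul, bv_sq, map_one, mul_one, mul_inv_cancel]
    exact (e ▸ a.mul a).uniq hf Act.one
  · obtain ⟨x, hx, a⟩ := mem_autG.1 hb
    refine hf ((a u).symm.trans (mul_inv_eq_iff_eq_mul.2 ?_))
    have k : f.range ^ᶜ g ≤ 𝐂(f.range ^ᶜ g) := cj_centralizer f.range g ▸ cj_mono g range_le
    exact (k hx _ hu).symm
  · rw [← card_range hf, ← card_cj f.range g, card_eq hf (hg.trans hS), mul_comm,
      ← card_map_of_injective hf]
    refine Nat.mul_le_mul_left _ (card_le_of_le fun x hx => ?_)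
    obtain ⟨v, rfl⟩ := hc ⟨hg hx.1, hx.2⟩
    exact ⟨v, hx.1, rfl⟩
theorem syl_top (hf : Function.Injective f) {S : Subgroup G} (pS : IsPGroup 2 S) (hF : f.range ≤ S)
    (wc : ∀ g, f.range ^ᶜ g ≤ S → g ∈ 𝐍(f.range)) (self : AutG f ⊤ ⊓ 𝐍(AutG f S) ≤ AutG f S)
    (hc : ∀ z ∈ 𝐂(f.range), z ∈ 𝐍(S) → IsPGroup 2 (S ⊔ zpowers z : Subgroup G) → z ∈ S) :
    IsSylowIn 2 S ⊤ := ⟨le_top, pS, fun R h1 _ h3 => by
  by_contra hne
  obtain ⟨g, hg, hg'⟩ := SetLike.exists_of_lt (lt_inf_normalizer_of_lt h3 (lt_of_le_of_ne h1 (Ne.symm hne)))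
  obtain ⟨γ, a⟩ := exists_act hf (wc g (cj_le_of_mem_normalizer hF hg.2))
  obtain ⟨s, hs, b⟩ := mem_autG.1 (self ⟨mem_autG.2 ⟨g, mem_top g, a⟩, nrm a hg.2⟩)
  exact hg' ((mul_mem_cancel_left (inv_mem hs)).1 (hc _ (b.cent a)
    (mul_mem (inv_mem (le_normalizer hs)) hg.2)
    (h3.to_le (sup_le h1 (zpowers_le.2 (mul_mem (inv_mem (h1 hs)) hg.1))))))⟩
/-- the normaliser of a weakly closed abelian subgroup controls its fusion -/
theorem wc_fus {S L : Subgroup G} (hS : IsSylowIn 2 S L) (hF : f.range ≤ S)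
    (wc : ∀ g, f.range ^ᶜ g ≤ S → g ∈ 𝐍(f.range)) {g : G} (hg : g ∈ L) {u v : BV n} (h : g * f u * g⁻¹ = f v) :
    ∃ k ∈ L, k ∈ 𝐍(f.range) ∧ k * f u * k⁻¹ = f v := by
  have c : ∀ w, f.range ≤ 𝐂[f w] := fun w => range_le.trans (centralizer_le (by simp))
  obtain ⟨P, hP, hFP⟩ := exists_isSylowIn_le (isP_range (f := f)) (le_inf (hF.trans hS.le) (c v))
  obtain ⟨k, hk, h1⟩ := hP.exists_cj_le (isPGroup_cj (isP_range (f := f)) g)
    (le_inf (cj_le_of_mem (hF.trans hS.le) hg) (h ▸ cj_centralizer_singleton (f u) g ▸ cj_mono g (c u)))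
  obtain ⟨m, -, h2⟩ := hS.exists_cj_le hP.isP (hP.le.trans inf_le_left)
  have h3 := wc m ((cj_mono m hFP).trans h2)
  have h4 := wc (m * (k * g)) (by
    rw [← cj_cj, ← cj_cj]
    exact (cj_mono m h1).trans h2)
  refine ⟨k * g, mul_mem hk.1 hg, (mul_mem_cancel_left h3).1 h4, ?_⟩
  calc k * g * f u * (k * g)⁻¹ = k * (g * f u * g⁻¹) * k⁻¹ := by group
    _ = _ := by rw [h, mem_cent1_iff.1 hk.2, mul_inv_cancel_right]

end H12.E64
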