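import Cfsg.Agent.Lib.E64.MB
import Cfsg.Agent.Lib.F42.MD1a

/-! `M0` and the symplectic group (see blueprint/E64/README.md) -/

set_option autoImplicit false

namespace H12.E64

open Subgroup Cfsg H69 H45 Gold
open scoped commutatorElement

namespace MS

open H29.F42 hiding om ff tv
open H29.F42.MD1 Matrix

theorem lm (g h : Au 7) (x : ℕ) : lin (cd (g * h)) x = lin (cd g) (lin (cd h) x) := by rw [cd_mul, lin_cm]

theorem lin_append : ∀ (l m : List ℕ) (x : ℕ), x < 2 ^ l.length → lin (l ++ m) x = lin l x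
  | [], m, x, h => by
    obtain rfl : x = 0 := by simpa using h
    rw [lin_zero, lin_zero]
  | c :: l, m, x, h => by
    rw [List.cons_append, lin, lin, lin_append l m _ (by rw [List.length_cons] at h; omega)]

theorem ext6 {f h : ℕ → W} (hf : ∀ x y, f (x ^^^ y) = f x + f y) (hh : ∀ x y, h (x ^^^ y) = h x + h y)
    (e : ∀ i < 6, f (2 ^ i) = h (2 ^ i)) : ∀ x < 64, f x = h x := by
  have z : ∀ {f : ℕ → W}, (∀ x y, f (x ^^^ y) = f x + f y) → f 0 = 0 := fun h => by simpa using h 0 0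
  intro a
  induction a using Nat.strong_induction_on with
  | _ a ih =>
    intro ha
    rcases (show ∀ a < 64, a = 0 ∨ ∃ j < 6, a ^^^ 2 ^ j < a by decide +kernel) a ha with rfl | ⟨j, hj, k⟩
    · rw [z hf, z hh]
    · rw [← Nat.xor_xor_cancel_right a (2 ^ j), hf, hh, ih _ k (by omega), e j hj]

theorem split : ∀ x < 2 ^ 7, x < 64 ∨ ∃ y < 64, x = y ^^^ 64 := by decide +kernel

/-- `m` is the linear extension of `g` -/
def Rp (g : Sp) (m : Au 7) : Prop :=
  lin (cd m) 64 = 64 ∧ ∀ x < 64, lin (cd m) x < 64 ∧ ac g (dc x) = dc (lin (cd m) x)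

theorem eqns_ms : True := by
  have := @Rp.eq_1
  trivial

variable {g h : Sp} {m n : Au 7}

theorem ex_rp (g : Sp) : ∃ m, Rp g m := by
  choose φ a b using ex_dc g
  let l := (List.range 6).map fun i => φ (2 ^ i)
  have hl : ∀ c ∈ l, c < 2 ^ 6 := fun c hc => by
    obtain ⟨i, -, rfl⟩ := List.mem_map.1 hc
    exact a _
  have ll : l.length = 6 := by simp [l]
  have k1 : ∀ x < 64, lin (l ++ [64]) x < 64 := fun x hx => by
    rw [lin_append _ _ _ (by rwa [ll])]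
    exact lin_lt hl x
  have k2 : ∀ x < 64, ac g (dc x) = dc (lin (l ++ [64]) x) :=
    ext6 (fun x y => by rw [dc_xor, ac_add]) (fun x y => by rw [lin_xor, dc_xor]) fun i hi => by
      rw [lin_append _ _ _ (by rw [ll]; exact Nat.pow_lt_pow_right (by norm_num) hi), lin_two_pow _ _ (ll ▸ hi), b]
      simp [l]
  have k3 : lin (l ++ [64]) 64 = 64 := by
    rw [show lin (l ++ [64]) 64 = lin (l ++ [64]) (2 ^ 6) from rfl, lin_two_pow _ _ (by simp [ll])]
    simp [ll]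
  have e : cd (mk 7 (l ++ [64])) = l ++ [64] := cd_mk_of (by simp [ll]) (fun c hc => by
    rcases List.mem_append.1 hc with h | h
    · have := hl c h; omega
    · rw [List.mem_singleton.1 h]; norm_num) fun x hx e => by
    rcases split x hx with h | ⟨y, h, rfl⟩
    · exact dc_inj h (by norm_num) (ac_inj g (by rw [k2 x h, e, ac_dc0]))
    · rw [lin_xor, k3, Nat.xor_eq_zero_iff] at e
      exact absurd (k1 y h) (by omega)
  exact ⟨mk 7 (l ++ [64]), by rw [Rp, e]; exact ⟨k3, fun x hx => ⟨k1 x hx, k2 x hx⟩⟩⟩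

theorem Rp.uniq (a : Rp g m) (b : Rp g n) : m = n := by
  have k : ∀ x < 64, lin (cd m) x = lin (cd n) x := fun x hx =>
    dc_inj (a.2 x hx).1 (b.2 x hx).1 ((a.2 x hx).2.symm.trans (b.2 x hx).2)
  refine MulEquiv.ext fun v => BV.ext ?_
  rw [app, app]
  rcases split _ v.lt with h | ⟨y, h, e⟩
  · exact k _ h
  · rw [e, lin_xor, lin_xor, k y h, a.1, b.1]

theorem Rp.mul (a : Rp g m) (b : Rp h n) : Rp (g * h) (m * n) :=
  ⟨by rw [lm, b.1, a.1], fun x hx => by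
    rw [lm, ac_mul, (b.2 x hx).2]
    exact a.2 _ (b.2 x hx).1⟩

theorem Rp.inj (a : Rp g m) (b : Rp h m) : g = h := ac_extN fun x hx => (a.2 x hx).2.trans (b.2 x hx).2.symm

theorem Rp.mem (a : Rp g m) : m ∈ M0 := ⟨fun x hx => (a.2 x hx).1, fun x hx y hy =>
  omN_eq hx hy (a.2 x hx).1 (a.2 y hy).1 (a.2 x hx).2 (a.2 y hy).2⟩

theorem ex_sp (hm : m ∈ M0) (h : lin (cd m) 64 = 64) : ∃ g, Rp g m := by
  choose ec a b using dc_surj
  have hx : ∀ u v, ec (u + v) = ec u ^^^ ec v := fun u v =>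
    dc_inj (a _) (xor_lt (a _) (a _)) (by rw [dc_xor, b, b, b])
  let f : W →+ W := AddMonoidHom.mk' (fun w => dc (lin (cd m) (ec w))) fun u v => by rw [hx, lin_xor, dc_xor]
  let A := LinearMap.toMatrix' (f.toZModLinearMap 2)
  have hA : ∀ w, A *ᵥ w = dc (lin (cd m) (ec w)) := fun w => by
    rw [← toLin'_apply, toLin'_toMatrix']
    rfl
  have o : ∀ u v, H29.F42.om (A *ᵥ u) (A *ᵥ v) = H29.F42.om u v := fun u v => by
    rw [hA, hA, om_dc _ (hm.1 _ (a u)) _ (hm.1 _ (a v)), ← b u, ← b v, om_dc _ (a u) _ (a v), b u, b v]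
    exact congrArg (cond · 1 0) (hm.2 _ (a u) _ (a v))
  refine ⟨⟨A, SymplecticGroup.mem_iff'.2 (Matrix.ext fun i j => ?_)⟩, h, fun x hx => ⟨hm.1 x hx, ?_⟩⟩
  · have := o (Pi.single i 1) (Pi.single j 1)
    rw [om_J, om_J, mulVec_mulVec, dotProduct_mulVec, vecMul_mulVec, ← dotProduct_mulVec, ← Matrix.mul_assoc] at this
    simpa using this
  · rw [ac, hA, dc_inj (a _) hx (b _)]

theorem A0_M : A0 ≤ M0 := A0_R.trans inf_le_left

theorem f_tau : ∀ v < 64, lin (tauc v) (64 ^^^ v) = 64 ∧ lin (tauc v) 64 = 64 ^^^ v ∧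
    cm (tauc v) (tauc v) = idn 7 := by decide +kernel

theorem tauM {v : ℕ} (h : v < 64) : tau v ∈ M0 := A0_M (tau_mem h)

theorem lt6 (v : BV 6) : v.1 < 64 := v.lt

theorem tauh_app (v : BV 6) : tauh v = tau v.1 := by rw [tauh, MonoidHom.mk'_apply]

theorem dec (hm : m ∈ M0) : ∃ g n, Rp g n ∧ ∃ v < 64, m = tau v * n := by
  obtain ⟨v, hv, e⟩ := (split _ (lin_lt (cd_lt m) 64)).resolve_left fun c => by
    have := (inv_mem hm).1 _ c
    rw [← lm, inv_mul_cancel, cd_one, lin_idn (by norm_num)] at this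
    omega
  obtain ⟨g, a⟩ := ex_sp (mul_mem (A0_M (tau_mem hv)) hm) (by
    rw [lm, e, cd_tau v hv, Nat.xor_comm, (f_tau v hv).1])
  refine ⟨g, _, a, v, hv, ?_⟩
  rw [← mul_assoc, show tau v * tau v = 1 by rw [cd_eq_iff, cd_mul, cd_tau v hv, cd_one, (f_tau v hv).2.2], one_mul]

end MS

open MS

open H29.F42 in
theorem exists_sp : ∃ l : Sp →* Au 7, Function.Injective l ∧ (∀ g, l g ∈ M0) ∧ (∀ g, lin (cd (l g)) 64 = 64) ∧
    (∀ g, ∀ x < 64, ac g (MD1.dc x) = MD1.dc (lin (cd (l g)) x)) ∧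
    ∀ m ∈ M0, ∃ g, ∃ v < 64, m = tau v * l g := by
  choose f hf using ex_rp
  refine ⟨MonoidHom.mk' f fun a b => (hf _).uniq ((hf a).mul (hf b)), fun a b e => (hf a).inj ?_, fun g => (hf g).mem,
    fun g => (hf g).1, fun g x hx => ((hf g).2 x hx).2, fun m hm => ?_⟩
  · rw [show f a = f b from e]
    exact hf b
  · obtain ⟨g, n, a, v, hv, e⟩ := dec hm
    exact ⟨g, v, hv, by rw [e, a.uniq (hf g)]; rfl⟩

theorem card_M0 : Nat.card M0 = 64 * 1451520 := by
  obtain ⟨l, i, a, b, -, c⟩ := exists_sp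
  have := Nat.card_eq_of_bijective (fun p : BV 6 × H29.F42.Sp =>
    (⟨tau p.1.1 * l p.2, mul_mem (tauM (lt6 p.1)) (a _)⟩ : M0)) ⟨fun p q e => ?_, fun m => ?_⟩
  · rw [← this, Nat.card_prod, card_BV, H29.F42.sp_card]
    rfl
  · simp only [Subtype.mk.injEq] at e
    have e' := congrArg (fun m => lin (cd m) 64) e
    simp only [lm, b, cd_tau _ (lt6 p.1), cd_tau _ (lt6 q.1), (f_tau _ (lt6 p.1)).2.1, (f_tau _ (lt6 q.1)).2.1,
      Nat.xor_right_inj] at e'
    rw [e', mul_right_inj] at e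
    exact Prod.ext (BV.ext e') (i e)
  · obtain ⟨g, v, hv, e⟩ := c m m.2
    exact ⟨(⟨v, hv⟩, g), Subtype.ext e.symm⟩

theorem syl_T0 : IsSylowIn 2 T0 M0 := by
  have le : T0 ≤ M0 := inf_le_left.trans inf_le_left
  refine isSylowIn_of_not_dvd_relIndex isP_T0 le ?_
  have := (T0.subgroupOf M0).card_mul_index
  rw [Nat.card_congr (subgroupOfEquivOfLe le).toEquiv, card_T0, card_M0] at this
  unfold relIndex
  omega

theorem nrm_M0 {K : Subgroup (Au 7)} (hK : K ≤ M0) (hn : M0 ≤ 𝐍(K)) : K ≤ A0 ∨ A0 ⊔ K = M0 := by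
  obtain ⟨l, -, a, -, -, c⟩ := exists_sp
  have nA : M0 ≤ 𝐍(A0) := fun m hm => mem_normalizer_fintype (by
    rintro _ ⟨v, rfl⟩
    obtain ⟨h, e⟩ := cj_tau hm (lt6 v)
    rw [tauh_app, e]
    exact tau_mem h)
  have nJ : ((A0 ⊔ K).comap l).Normal := ⟨fun x hx g => by
    rw [mem_comap, map_mul, map_mul, map_inv]
    exact (mem_normalizer_iff.1 (normalizer_inf_normalizer_le_normalizer_sup _ _ ⟨nA (a g), hn (a g)⟩) _).1 hx⟩
  haveI := H29.F42.sp_simple
  refine nJ.eq_bot_or_eq_top.imp (fun e k hk => ?_) fun e => le_antisymm (sup_le A0_M hK) fun m hm => ?_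
  · obtain ⟨g, v, hv, f⟩ := c k (hK hk)
    have : g ∈ (A0 ⊔ K).comap l := by
      rw [mem_comap, ← mul_mem_cancel_left (mem_sup_left (tau_mem hv)), ← f]
      exact mem_sup_right hk
    rw [e, mem_bot] at this
    rw [f, this, map_one, mul_one]
    exact tau_mem hv
  · obtain ⟨g, v, hv, rfl⟩ := c m hm
    exact mul_mem (mem_sup_left (tau_mem hv)) (show g ∈ (A0 ⊔ K).comap l from e ▸ mem_top g)

theorem tr_M0 {v : ℕ} (h : v < 64) (h0 : v ≠ 0) : ∃ m ∈ M0, lin (cd m) 1 = v := by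
  obtain ⟨u, hu, e⟩ := (show ∀ v < 64, v ≠ 0 → ∃ u < 64, lin (tvc (u ^^^ v)) (lin (tvc (u ^^^ 1)) 1) = v by
    decide +kernel) v h h0
  have a := Nat.xor_lt_two_pow (n := 6) hu h
  have b := Nat.xor_lt_two_pow (n := 6) hu (show 1 < 64 by norm_num)
  exact ⟨_, mul_mem (tv_mem a) (tv_mem b), by rw [lm, cd_tv _ a, cd_tv _ b, e]⟩

end H12.E64
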