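import Cfsg.Agent.Lib.E64.MA
import Cfsg.Agent.Lib.E64.MS
import Cfsg.Agent.Lib.E64.Gen
import Cfsg.Agent.Lib.E64.Def2

/-! Basic facts on the frame (see blueprint/E64/README.md) -/

set_option autoImplicit false
set_option linter.unusedSectionVars false

namespace H12.E64

open Subgroup Cfsg H69 H45 Gold
open scoped commutatorElement

theorem bas_T0_M0 : T0 ≤ M0 := fun _ h => h.1.1
theorem bas_T0_P0 : T0 ≤ P0 := fun _ h => h.1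
theorem bas_A0_T : A0 ≤ T0 := A0_R.trans R0_T
theorem bas_F0_T : F0 ≤ T0 := F0_R.trans R0_T
theorem bas_tauh {v : ℕ} (h : v < 64) : tauh (bv 6 v) = tau v := by
  rw [tauh, MonoidHom.mk'_apply, val_bv (n := 6) h]
theorem bas_ffh {v : ℕ} (h : v < 512) : ffh (bv 9 v) = ff v := by
  rw [ffh, MonoidHom.mk'_apply, val_bv (n := 9) h]

theorem bas_y0 {v : ℕ} (hv : v < 128) (h : v &&& 36 = 0) :
    tv 36 * (tau 32 * ff v) * (tv 36)⁻¹ = ff (4 ^^^ v) := by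
  have h4 : 4 ^^^ v < 512 := Nat.xor_lt_two_pow (n := 9) (by norm_num) (by omega)
  rw [mul_inv_eq_iff_eq_mul, cd_eq_iff, cd_mul, cd_mul, cd_mul, cd_tv 36 (by norm_num), cd_tau 32 (by norm_num),
    cd_ff v (by omega), cd_ff _ h4]
  exact (by decide +kernel : ∀ v < 128, v &&& 36 = 0 →
    cm (tvc 36) (cm (tauc 32) (ffc v)) = cm (ffc (4 ^^^ v)) (tvc 36)) v hv h

theorem bas_ff8 : ff 8 ∉ A0 := fun h => by
  have := mem_A0.1 h 8 (by norm_num)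
  rw [cd_ff 8 (by norm_num)] at this
  exact absurd this (by decide +kernel)

variable {G : Type*} [Group G] (c : Fr G)

namespace Fr

theorem π_one : c.π 1 = 1 := by
  have := c.π_mul 1 (one_mem _) 1 (one_mem _)
  rw [mul_one] at this
  exact mul_eq_left.1 this.symm
theorem π_inv {n : G} (hn : n ∈ c.N) : c.π n⁻¹ = (c.π n)⁻¹ := by
  apply eq_inv_of_mul_eq_one_left
  rw [← c.π_mul _ (inv_mem hn) _ hn, inv_mul_cancel, c.π_one]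
theorem π_cj {n m : G} (hn : n ∈ c.N) (hm : m ∈ c.N) : c.π (n * m * n⁻¹) = c.π n * c.π m * (c.π n)⁻¹ := by
  rw [c.π_mul _ (mul_mem hn hm) _ (inv_mem hn), c.π_mul _ hn _ hm, c.π_inv hn]
theorem ι_one : c.ι 1 = 1 := by
  have := c.ι_mul 1 (one_mem _) 1 (one_mem _)
  rw [mul_one] at this
  exact mul_eq_left.1 this.symm
theorem ι_inv {t : Au 7} (ht : t ∈ T0) : c.ι t⁻¹ = (c.ι t)⁻¹ := by
  apply eq_inv_of_mul_eq_one_left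
  rw [← c.ι_mul _ (inv_mem ht) _ ht, inv_mul_cancel, c.ι_one]
theorem bas_ι_cj {s t : Au 7} (hs : s ∈ T0) (ht : t ∈ T0) : c.ι (s * t * s⁻¹) = c.ι s * c.ι t * (c.ι s)⁻¹ := by
  rw [c.ι_mul _ (mul_mem hs ht) _ (inv_mem hs), c.ι_mul _ hs _ ht, c.ι_inv hs]
theorem ι_inj {s t : Au 7} (hs : s ∈ T0) (ht : t ∈ T0) (h : c.ι s = c.ι t) : s = t := by
  rw [← c.π_ι s hs, h, c.π_ι t ht]
theorem mem_im {B : Subgroup (Au 7)} (hB : B ≤ T0) {g : G} : g ∈ c.im B ↔ ∃ b ∈ B, c.ι b = g := by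
  constructor
  · intro h
    induction h using closure_induction with
    | mem x hx =>
      obtain ⟨b, hb, -, rfl⟩ := hx
      exact ⟨b, hb, rfl⟩
    | one => exact ⟨1, one_mem _, c.ι_one⟩
    | mul x y _ _ hx hy =>
      obtain ⟨b, hb, rfl⟩ := hx
      obtain ⟨b', hb', rfl⟩ := hy
      exact ⟨b * b', mul_mem hb hb', c.ι_mul _ (hB hb) _ (hB hb')⟩
    | inv x _ hx =>
      obtain ⟨b, hb, rfl⟩ := hx
      exact ⟨b⁻¹, inv_mem hb, c.ι_inv (hB hb)⟩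
  · rintro ⟨b, hb, rfl⟩
    exact subset_closure ⟨b, hb, hB hb, rfl⟩
theorem ι_mem_im {B : Subgroup (Au 7)} (hB : B ≤ T0) {t : Au 7} (ht : t ∈ T0) : c.ι t ∈ c.im B ↔ t ∈ B := by
  rw [c.mem_im hB]
  exact ⟨fun ⟨b, hb, e⟩ => c.ι_inj (hB hb) ht e ▸ hb, fun h => ⟨t, h, rfl⟩⟩
theorem im_mono {B B' : Subgroup (Au 7)} (h : B ≤ B') : c.im B ≤ c.im B' :=
  closure_mono fun _ ⟨b, hb, e⟩ => ⟨b, h hb, e⟩
theorem im_nrm {B B' : Subgroup (Au 7)} (hB : B ≤ T0) (hB' : B' ≤ T0) (h : B' ≤ 𝐍(B)) : c.im B' ≤ 𝐍(c.im B) := by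
  refine le_normalizer_of_cj_le fun g hg x hx => ?_
  obtain ⟨b', hb', rfl⟩ := (c.mem_im hB').1 hg
  obtain ⟨a, ha, rfl⟩ := mem_cj'.1 hx
  obtain ⟨b, hb, rfl⟩ := (c.mem_im hB).1 ha
  rw [← c.bas_ι_cj (hB' hb') (hB hb)]
  exact (c.mem_im hB).2 ⟨_, conj_mem_of_mem_normalizer (h hb') hb, rfl⟩
theorem T_N : c.T ≤ c.N := fun g hg => by
  obtain ⟨b, hb, rfl⟩ := (c.mem_im le_rfl).1 hg
  exact c.ι_mem b hb
theorem bas_ι_T {t : Au 7} (ht : t ∈ T0) : c.ι t ∈ c.T := (c.mem_im le_rfl).2 ⟨t, ht, rfl⟩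
theorem A_eq : c.A = c.im A0 := by
  ext g
  rw [c.mem_im bas_A0_T]
  constructor
  · rintro ⟨v, rfl⟩
    exact ⟨tauh v, ⟨v, rfl⟩, (c.α_eq v).symm⟩
  · rintro ⟨_, ⟨v, rfl⟩, rfl⟩
    exact ⟨v, c.α_eq v⟩
theorem F_eq : c.F = c.im F0 := by
  ext g
  rw [c.mem_im bas_F0_T]
  constructor
  · rintro ⟨v, rfl⟩
    exact ⟨ffh v, ⟨v, rfl⟩, (c.f_eq v).symm⟩
  · rintro ⟨_, ⟨v, rfl⟩, rfl⟩
    exact ⟨v, c.f_eq v⟩
theorem bas_A_R : c.A ≤ c.R := c.A_eq ▸ c.im_mono A0_R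
theorem bas_F_R : c.F ≤ c.R := c.F_eq ▸ c.im_mono F0_R
theorem R_eq : c.R = c.A ⊔ c.F := by
  refine le_antisymm (fun g hg => ?_) (sup_le c.bas_A_R c.bas_F_R)
  obtain ⟨b, hb, rfl⟩ := (c.mem_im R0_T).1 hg
  obtain ⟨y, hy, v, hv, rfl⟩ := mem_R0.1 hb
  have h1 := tau_mem (v := 8 * y) (by omega)
  have h2 := ff_mem hv
  rw [c.ι_mul _ (bas_A0_T h1) _ (bas_F0_T h2), c.A_eq, c.F_eq]
  exact mul_mem_sup ((c.mem_im bas_A0_T).2 ⟨_, h1, rfl⟩) ((c.mem_im bas_F0_T).2 ⟨_, h2, rfl⟩)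
theorem R_T : c.R ≤ c.T := c.im_mono R0_T
theorem T_nR : c.T ≤ 𝐍(c.R) := c.im_nrm R0_T le_rfl fun _ ht => (nR0 (bas_T0_M0 ht)).2 (bas_T0_P0 ht)
theorem α_inj : Function.Injective c.α := fun u v h =>
  tauh_inj (c.ι_inj (bas_A0_T ⟨u, rfl⟩) (bas_A0_T ⟨v, rfl⟩) (by rw [← c.α_eq, ← c.α_eq, h]))
theorem f_inj : Function.Injective c.f := fun u v h =>
  ffh_inj (c.ι_inj (bas_F0_T ⟨u, rfl⟩) (bas_F0_T ⟨v, rfl⟩) (by rw [← c.f_eq, ← c.f_eq, h]))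
theorem al_eq {v : ℕ} (h : v < 64) : c.al v = c.ι (tau v) := by
  rw [al, c.α_eq, bas_tauh h]
theorem fl_eq {v : ℕ} (h : v < 512) : c.fl v = c.ι (ff v) := by
  rw [fl, c.f_eq, bas_ffh h]
theorem al_fl {w : ℕ} (h : w < 8) : c.al w = c.fl w := by
  rw [c.al_eq (by omega), c.fl_eq (by omega), tau_ff w h]
theorem al_xor (v w : ℕ) : c.al (v ^^^ w) = c.al v * c.al w := by
  rw [al, bv_xor, map_mul, al, al]
theorem fl_xor (v w : ℕ) : c.fl (v ^^^ w) = c.fl v * c.fl w := by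
  rw [fl, bv_xor, map_mul, fl, fl]
theorem al_mem (v : ℕ) : c.al v ∈ c.A := ⟨_, rfl⟩
theorem fl_mem (v : ℕ) : c.fl v ∈ c.F := ⟨_, rfl⟩
theorem mem_R {g : G} : g ∈ c.R ↔ ∃ y < 8, ∃ v < 512, g = c.al (8 * y) * c.fl v := by
  constructor
  · intro hg
    obtain ⟨b, hb, rfl⟩ := (c.mem_im R0_T).1 hg
    obtain ⟨y, hy, v, hv, rfl⟩ := mem_R0.1 hb
    refine ⟨y, hy, v, hv, ?_⟩
    rw [c.al_eq (by omega), c.fl_eq hv, c.ι_mul _ (bas_A0_T (tau_mem (by omega))) _ (bas_F0_T (ff_mem hv))]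
  · rintro ⟨y, -, v, -, rfl⟩
    exact mul_mem (c.bas_A_R (c.al_mem _)) (c.bas_F_R (c.fl_mem _))
theorem cj_ι {n : G} (hn : n ∈ c.N) {t : Au 7} (ht : t ∈ T0) (h : n * c.ι t * n⁻¹ ∈ c.T) :
    c.π n * t * (c.π n)⁻¹ ∈ T0 ∧ n * c.ι t * n⁻¹ = c.ι (c.π n * t * (c.π n)⁻¹) := by
  obtain ⟨s, hs, e⟩ := (c.mem_im le_rfl).1 h
  have : c.π n * t * (c.π n)⁻¹ = s := by
    rw [← c.π_ι s hs, e, c.π_cj hn (c.ι_mem t ht), c.π_ι t ht]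
  rw [this]
  exact ⟨hs, e.symm⟩
theorem bas_N_nA {n : G} (hn : n ∈ c.N) : n ∈ 𝐍(c.A) := by
  rw [c.hN] at hn
  exact hn
theorem cj_al {n : G} (hn : n ∈ c.N) {v : ℕ} (h : v < 64) :
    n * c.al v * n⁻¹ = c.al (lin (cd (c.π n)) v) := by
  have h1 := c.R_T (c.bas_A_R (conj_mem_of_mem_normalizer (c.bas_N_nA hn) (c.al_mem v)))
  obtain ⟨h2, h3⟩ := cj_tau (c.π_mem n hn) h
  rw [c.al_eq h] at h1 ⊢
  rw [(c.cj_ι hn (bas_A0_T (tau_mem h)) h1).2, h3, c.al_eq h2]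
theorem nR_π {n : G} (hn : n ∈ c.N) (h : n ∈ 𝐍(c.R)) : c.π n ∈ P0 := by
  refine (nR0 (c.π_mem n hn)).1 (mem_normalizer_of_cj_le fun x hx => ?_)
  obtain ⟨r, hr, rfl⟩ := mem_cj'.1 hx
  have h1 := conj_mem_of_mem_normalizer h ((c.mem_im R0_T).2 ⟨r, hr, rfl⟩)
  obtain ⟨h2, h3⟩ := c.cj_ι hn (R0_T hr) (c.R_T h1)
  rw [h3] at h1
  exact (c.ι_mem_im R0_T h2).1 h1
theorem act_f {n : G} (hn : n ∈ c.N) (h : n ∈ 𝐍(c.R)) {γ : Au 9} (a : Act ffh (c.π n) γ) : Act c.f n γ := by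
  intro v
  have h1 := c.R_T (conj_mem_of_mem_normalizer h (c.bas_F_R ⟨v, rfl⟩))
  rw [c.f_eq] at h1
  rw [c.f_eq, c.f_eq, (c.cj_ι hn (bas_F0_T ⟨v, rfl⟩) h1).2, a v]
theorem bas_act_f' {n : G} (hn : n ∈ c.N) (h : n ∈ 𝐍(c.R)) {γ : Au 9} (a : Act c.f n γ) : Act ffh (c.π n) γ := by
  obtain ⟨δ, b⟩ := exists_act ffh_inj (P0_nF (c.nR_π hn h))
  rwa [a.uniq c.f_inj (c.act_f hn h b)]
theorem bas_aut_im {B : Subgroup (Au 7)} (hB : B ≤ T0) : AutG c.f (c.im B) = AutG ffh B := by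
  ext γ
  rw [mem_autG, mem_autG]
  constructor
  · rintro ⟨g, hg, a⟩
    obtain ⟨t, ht, rfl⟩ := (c.mem_im hB).1 hg
    have := c.bas_act_f' (c.ι_mem t (hB ht)) (c.T_nR (c.bas_ι_T (hB ht))) a
    rw [c.π_ι t (hB ht)] at this
    exact ⟨t, ht, this⟩
  · rintro ⟨t, ht, a⟩
    refine ⟨c.ι t, (c.mem_im hB).2 ⟨t, ht, rfl⟩, c.act_f (c.ι_mem t (hB ht)) (c.T_nR (c.bas_ι_T (hB ht))) ?_⟩
    rwa [c.π_ι t (hB ht)]
theorem aut_T : AutG c.f c.T = T9 false := (c.bas_aut_im le_rfl).trans aut_T0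
theorem aut_A : AutG c.f c.A = A9 := by
  rw [c.A_eq, c.bas_aut_im bas_A0_T, aut_A0]

theorem bas_π_pow {n : G} (hn : n ∈ c.N) (k : ℕ) : c.π (n ^ k) = c.π n ^ k := by
  induction k with
  | zero => rw [pow_zero, pow_zero, c.π_one]
  | succ k ih => rw [pow_succ, pow_succ, c.π_mul _ (pow_mem hn k) _ hn, ih]

/-- the image of `N ∩ L` under `π` -/
theorem bas_exists_img (L : Subgroup G) : ∃ K : Subgroup (Au 7), ∀ m, m ∈ K ↔ ∃ n ∈ c.N, n ∈ L ∧ c.π n = m :=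
  ⟨{ carrier := {m | ∃ n ∈ c.N, n ∈ L ∧ c.π n = m}
     one_mem' := ⟨1, one_mem _, one_mem _, c.π_one⟩
     mul_mem' := by
      rintro _ _ ⟨a, ha, la, rfl⟩ ⟨b, hb, lb, rfl⟩
      exact ⟨a * b, mul_mem ha hb, mul_mem la lb, c.π_mul a ha b hb⟩
     inv_mem' := by
      rintro _ ⟨a, ha, la, rfl⟩
      exact ⟨a⁻¹, inv_mem ha, inv_mem la, c.π_inv ha⟩ }, fun _ => Iff.rfl⟩

/-- the preimage of `B` under `π` -/
theorem bas_exists_pre (B : Subgroup (Au 7)) : ∃ Y : Subgroup G, ∀ g, g ∈ Y ↔ g ∈ c.N ∧ c.π g ∈ B :=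
  ⟨{ carrier := {g | g ∈ c.N ∧ c.π g ∈ B}
     one_mem' := ⟨one_mem _, by rw [c.π_one]; exact one_mem _⟩
     mul_mem' := fun {a b} ha hb => ⟨mul_mem ha.1 hb.1, by rw [c.π_mul a ha.1 b hb.1]; exact mul_mem ha.2 hb.2⟩
     inv_mem' := fun {a} ha => ⟨inv_mem ha.1, by rw [c.π_inv ha.1]; exact inv_mem ha.2⟩ }, fun _ => Iff.rfl⟩

variable [Finite G]

theorem card_im {B : Subgroup (Au 7)} (hB : B ≤ T0) : Nat.card (c.im B) = Nat.card B := by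
  refine (Nat.card_congr (Equiv.ofBijective
    (fun b : B => (⟨c.ι b, (c.mem_im hB).2 ⟨b, b.2, rfl⟩⟩ : c.im B)) ⟨fun a b h => ?_, fun g => ?_⟩)).symm
  · exact Subtype.ext (c.ι_inj (hB a.2) (hB b.2) (congrArg Subtype.val h))
  · obtain ⟨b, hb, e⟩ := (c.mem_im hB).1 g.2
    exact ⟨⟨b, hb⟩, Subtype.ext e⟩
theorem isP_T : IsPGroup 2 c.T := IsPGroup.of_card ((c.card_im le_rfl).trans card_T0)
theorem eq_of_π {X : Subgroup G} (hX : IsPGroup 2 X) {a b : G} (ha : a ∈ c.N) (hb : b ∈ c.N) (aX : a ∈ X)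
    (bX : b ∈ X) (h : c.π a = c.π b) : a = b := by
  have h1 : c.π (a⁻¹ * b) = 1 := by rw [c.π_mul _ (inv_mem ha) _ hb, c.π_inv ha, h, inv_mul_cancel]
  exact inv_mul_eq_one.1 ((El2.of_mem hX (mul_mem (inv_mem aX) bX)).eq_one
    (c.π_odd _ (mul_mem (inv_mem ha) hb) h1))
theorem sylT : IsSylowIn 2 c.T c.N := by
  refine ⟨c.T_N, c.isP_T, fun X h1 h2 h3 => le_antisymm (fun x hx => ?_) h1⟩
  obtain ⟨K, hK⟩ := c.bas_exists_img X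
  have k1 : T0 ≤ K := fun t ht => (hK t).2 ⟨c.ι t, c.ι_mem t ht, h1 (c.bas_ι_T ht), c.π_ι t ht⟩
  have k2 : K ≤ M0 := fun m hm => by
    obtain ⟨n, hn, -, rfl⟩ := (hK m).1 hm
    exact c.π_mem n hn
  have k3 : IsPGroup 2 K := isPGroup_iff_mem.2 fun m hm => by
    obtain ⟨n, hn, nX, rfl⟩ := (hK m).1 hm
    obtain ⟨k, hk⟩ := isPGroup_iff_mem.1 h3 n nX
    exact ⟨k, by rw [← c.bas_π_pow hn, hk, c.π_one]⟩
  have k4 : c.π x ∈ T0 := syl_T0.max K k1 k2 k3 ▸ (hK _).2 ⟨x, h2 hx, hx, rfl⟩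
  rw [c.eq_of_π h3 (h2 hx) (c.ι_mem _ k4) hx (h1 (c.bas_ι_T k4)) (c.π_ι _ k4).symm]
  exact c.bas_ι_T k4
/-- conjugacy in `M0` lifts -/
theorem lift {L : Subgroup G} (hT : c.T ≤ L) {m : Au 7} (hm : ∃ n ∈ c.N, n ∈ L ∧ c.π n = m) {B : Subgroup (Au 7)}
    (hB : B ≤ T0) (h : ∀ b ∈ B, m * b * m⁻¹ ∈ T0) :
    ∃ n ∈ c.N, n ∈ L ∧ c.π n = m ∧ ∀ b ∈ B, n * c.ι b * n⁻¹ = c.ι (m * b * m⁻¹) := by
  obtain ⟨n0, hn0, ln0, rfl⟩ := hm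
  have hB' : B ^ᶜ c.π n0 ≤ T0 := fun x hx => by
    obtain ⟨b, hb, rfl⟩ := mem_cj'.1 hx
    exact h b hb
  obtain ⟨Y, hY⟩ := c.bas_exists_pre (B ^ᶜ c.π n0)
  have sT : c.im (B ^ᶜ c.π n0) ≤ c.T := c.im_mono hB'
  have syl : IsSylowIn 2 (c.im (B ^ᶜ c.π n0)) (L ⊓ Y) := by
    refine ⟨le_inf (sT.trans hT) fun g hg => ?_, c.isP_T.to_le sT,
      fun X h1 h2 h3 => le_antisymm (fun x hx => ?_) h1⟩
    · obtain ⟨b, hb, rfl⟩ := (c.mem_im hB').1 hg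
      exact (hY _).2 ⟨c.ι_mem b (hB' hb), by rwa [c.π_ι b (hB' hb)]⟩
    · obtain ⟨x1, x2⟩ := (hY x).1 (h2 hx).2
      have k := (c.mem_im hB').2 ⟨_, x2, rfl⟩
      rwa [c.eq_of_π h3 x1 (c.ι_mem _ (hB' x2)) hx (h1 k) (c.π_ι _ (hB' x2)).symm]
  have le1 : c.im B ^ᶜ n0 ≤ L ⊓ Y := fun x hx => by
    obtain ⟨a, ha, rfl⟩ := mem_cj'.1 hx
    obtain ⟨b, hb, rfl⟩ := (c.mem_im hB).1 ha
    have k := c.ι_mem b (hB hb)
    refine mem_inf.2 ⟨mul_mem (mul_mem ln0 (hT (c.bas_ι_T (hB hb)))) (inv_mem ln0),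
      (hY _).2 ⟨mul_mem (mul_mem hn0 k) (inv_mem hn0), ?_⟩⟩
    rw [c.π_cj hn0 k, c.π_ι b (hB hb)]
    exact cj_mem _ hb
  obtain ⟨y, ⟨yL, yY⟩, hy⟩ := syl.exists_cj_le (isPGroup_cj (c.isP_T.to_le (c.im_mono hB)) n0) le1
  obtain ⟨yN, yB⟩ := (hY y).1 yY
  have tT := c.bas_ι_T (hB' yB)
  have nN : (c.ι (c.π y))⁻¹ * y * n0 ∈ c.N := mul_mem (mul_mem (inv_mem (c.T_N tT)) yN) hn0
  have e : c.π ((c.ι (c.π y))⁻¹ * y * n0) = c.π n0 := by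
    rw [c.π_mul _ (mul_mem (inv_mem (c.T_N tT)) yN) _ hn0, c.π_mul _ (inv_mem (c.T_N tT)) _ yN,
      c.π_inv (c.T_N tT), c.π_ι _ (hB' yB), inv_mul_cancel, one_mul]
  refine ⟨_, nN, mul_mem (mul_mem (inv_mem (hT tT)) yL) ln0, e, fun b hb => ?_⟩
  have k := sT (hy (cj_mem y (cj_mem n0 ((c.mem_im hB).2 ⟨b, hb, rfl⟩))))
  have k2 := mul_mem (mul_mem (inv_mem tT) k) tT
  rw [(c.cj_ι nN (hB hb) (by convert k2 using 1; group)).2, e]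
theorem lift_P {m : Au 7} (hm : m ∈ P0) : ∃ n ∈ c.N, n ∈ 𝐍(c.R) ∧ c.π n = m := by
  have h1 := (nR0 hm.1).2 hm
  obtain ⟨n0, hn0, e0⟩ := c.π_surj m hm.1
  obtain ⟨n, hn, -, e, h⟩ := c.lift (L := ⊤) le_top ⟨n0, hn0, trivial, e0⟩ R0_T
    fun b hb => R0_T (conj_mem_of_mem_normalizer h1 hb)
  refine ⟨n, hn, mem_normalizer_of_cj_le fun x hx => ?_, e⟩
  obtain ⟨a, ha, rfl⟩ := mem_cj'.1 hx
  obtain ⟨b, hb, rfl⟩ := (c.mem_im R0_T).1 ha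
  rw [h b hb]
  exact (c.mem_im R0_T).2 ⟨_, conj_mem_of_mem_normalizer h1 hb, rfl⟩
theorem aut_P : AutG c.f (c.N ⊓ 𝐍(c.R)) = G9 false := by
  rw [← aut_P0]
  ext γ
  rw [mem_autG, mem_autG]
  constructor
  · rintro ⟨n, ⟨hn, h⟩, a⟩
    exact ⟨c.π n, c.nR_π hn h, c.bas_act_f' hn h a⟩
  · rintro ⟨m, hm, a⟩
    obtain ⟨n, hn, h, rfl⟩ := c.lift_P hm
    exact ⟨n, ⟨hn, h⟩, c.act_f hn h a⟩
theorem ker_R {n : G} (hn : n ∈ c.N) (h : n ∈ 𝐍(c.R)) (h1 : c.π n = 1) : n ∈ 𝐂(c.R) := by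
  refine mem_centralizer_iff_commute.2 fun r hr => ?_
  have k := c.R_T (conj_mem_of_mem_normalizer h hr)
  obtain ⟨b, hb, rfl⟩ := (c.mem_im R0_T).1 hr
  have := (c.cj_ι hn (R0_T hb) k).2
  rw [h1, one_mul, inv_one, mul_one] at this
  exact (mul_inv_eq_iff_eq_mul.1 this).symm
theorem cF_N {z : G} (hz : z ∈ c.N) (h : z ∈ 𝐂(c.F)) (p : IsPGroup 2 (c.R ⊔ zpowers z : Subgroup G)) :
    z ∈ c.F := by
  have h1 : c.π z ∈ F0 := cent_F0 (c.π_mem z hz) fun v hv => by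
    have t := bas_F0_T (ff_mem hv)
    have e := mem_centralizer_iff_commute.1 h _ (c.fl_mem v)
    rw [c.fl_eq hv] at e
    rw [← c.π_ι _ t, ← c.π_mul _ hz _ (c.ι_mem _ t), ← e, c.π_mul _ (c.ι_mem _ t) _ hz]
  have t := bas_F0_T h1
  have h2 : c.ι (c.π z) ∈ c.F := c.F_eq ▸ (c.mem_im bas_F0_T).2 ⟨_, h1, rfl⟩
  rwa [c.eq_of_π p hz (c.ι_mem _ t) (mem_sup_right (mem_zpowers z)) (mem_sup_left (c.bas_F_R h2)) (c.π_ι _ t).symm]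
theorem cA_two {z : G} (h : z ∈ 𝐂(c.A)) (p : El2 z) : z ∈ c.A := by
  have hA : z ∈ 𝐍(c.A) := centralizer_le_normalizer _ h
  have hz : z ∈ c.N := by
    rw [c.hN]
    exact hA
  have h1 : c.π z ∈ A0 := cent_A0 (c.π_mem z hz) fun v hv => by
    have t := bas_A0_T (tau_mem hv)
    have e := mem_centralizer_iff_commute.1 h _ (c.al_mem v)
    rw [c.al_eq hv] at e
    rw [← c.π_ι _ t, ← c.π_mul _ hz _ (c.ι_mem _ t), ← e, c.π_mul _ (c.ι_mem _ t) _ hz]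
  have t := bas_A0_T h1
  have h2 : c.ι (c.π z) ∈ c.A := c.A_eq ▸ (c.mem_im bas_A0_T).2 ⟨_, h1, rfl⟩
  have q : IsPGroup 2 (c.A ⊔ zpowers z : Subgroup G) :=
    isPGroup_sup_of_le_normalizer_left (c.isP_T.to_le (c.bas_A_R.trans c.R_T)) p.isPGroup (zpowers_le.2 hA)
  rwa [c.eq_of_π q hz (c.ι_mem _ t) (mem_sup_right (mem_zpowers z)) (mem_sup_left h2) (c.π_ι _ t).symm]
theorem conj_al {L : Subgroup G} (hL : ∀ m ∈ M0, ∃ n ∈ c.N, n ∈ L ∧ c.π n = m) {v : ℕ} (h : v < 64) (h0 : v ≠ 0) :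
    ∃ n ∈ c.N, n ∈ L ∧ n * c.a * n⁻¹ = c.al v := by
  obtain ⟨m, hm, e⟩ := tr_M0 h h0
  obtain ⟨n, hn, nL, rfl⟩ := hL m hm
  exact ⟨n, hn, nL, by rw [a, ← c.al_fl (by norm_num), c.cj_al hn (by norm_num), e]⟩
/-- a normal subgroup containing `T` covers `M0` -/
theorem big_N {L : Subgroup G} (hL : L.Normal) (hT : c.T ≤ L) : ∀ m ∈ M0, ∃ n ∈ c.N, n ∈ L ∧ c.π n = m := by
  obtain ⟨K, hK⟩ := c.bas_exists_img L
  have k1 : T0 ≤ K := fun t ht => (hK t).2 ⟨c.ι t, c.ι_mem t ht, hT (c.bas_ι_T ht), c.π_ι t ht⟩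
  have k2 : K ≤ M0 := fun m hm => by
    obtain ⟨n, hn, -, rfl⟩ := (hK m).1 hm
    exact c.π_mem n hn
  have k3 : M0 ≤ 𝐍(K) := le_normalizer_of_cj_le fun g hg x hx => by
    obtain ⟨m, hm, rfl⟩ := mem_cj'.1 hx
    obtain ⟨n, hn, nL, rfl⟩ := (hK m).1 hm
    obtain ⟨k, hk, rfl⟩ := c.π_surj g hg
    exact (hK _).2 ⟨k * n * k⁻¹, mul_mem (mul_mem hk hn) (inv_mem hk), hL.conj_mem n nL k, c.π_cj hk hn⟩
  rcases nrm_M0 k2 k3 with k | k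
  · exact absurd (k (k1 (bas_F0_T (ff_mem (by norm_num))))) bas_ff8
  · intro m hm
    rw [← k, sup_eq_right.2 (bas_A0_T.trans k1)] at hm
    exact (hK m).1 hm
theorem y0_conj {L : Subgroup G} (hL : L.Normal) (hT : c.T ≤ L) {v : ℕ} (hv : v < 128) (h : v &&& 36 = 0) :
    ∃ n ∈ c.N, n ∈ L ∧ n * (c.al 32 * c.fl v) * n⁻¹ = c.fl (4 ^^^ v) := by
  have h4 : 4 ^^^ v < 512 := Nat.xor_lt_two_pow (n := 9) (by norm_num) (by omega)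
  have t1 := bas_A0_T (tau_mem (v := 32) (by norm_num))
  have t2 := bas_F0_T (ff_mem (v := v) (by omega))
  obtain ⟨n, hn, nL, -, k⟩ := c.lift hT (c.big_N hL hT _ (tv_mem (v := 36) (by norm_num)))
    (B := zpowers (tau 32 * ff v)) (zpowers_le.2 (mul_mem t1 t2)) fun b hb => by
      obtain ⟨j, rfl⟩ := mem_zpowers_iff.1 hb
      rw [← conj_zpow, bas_y0 hv h]
      exact zpow_mem (bas_F0_T (ff_mem h4)) j
  refine ⟨n, hn, nL, ?_⟩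
  rw [c.al_eq (by norm_num), c.fl_eq (by omega), ← c.ι_mul _ t1 _ t2, k _ (mem_zpowers _), bas_y0 hv h, c.fl_eq h4]

end Fr

end H12.E64
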