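import Cfsg.Agent.Lib.E64.M10
import Cfsg.Agent.Lib.E64.Wd

/-! The image of `Q` in the Sylow subgroup of `M₂₂`; hexads (see blueprint/E64/README.md) -/

set_option autoImplicit false

namespace H12.E64

open Subgroup Cfsg H69 H45 Gold
open scoped commutatorElement

/-- acts trivially on `(Q ∩ E) / Z` -/
def InQ (s : Au 10) : Prop := ∀ v ∈ [2, 4, 64, 128], lin (cd s) v ^^^ v ∈ [0, 1, 8, 9]
/-- the action of `qb` on `E` -/
def qe : List (List ℕ) :=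
  [[1, 2, 4, 8, 18, 32, 65, 128, 260, 647], [1, 3, 4, 8, 88, 32, 64, 128, 384, 581],
  [1, 2, 4, 8, 18, 32, 65, 128, 260, 647], [1, 3, 4, 8, 88, 32, 64, 128, 384, 581],
  [1, 2, 4, 8, 16, 36, 64, 129, 258, 581], [1, 2, 5, 8, 16, 168, 64, 128, 320, 707],
  [1, 2, 4, 8, 16, 36, 64, 129, 258, 581], [1, 2, 5, 8, 16, 168, 64, 128, 320, 707]]

theorem eqns_msq : True := by
  have := @InQ.eq_1
  have := @qe.eq_1
  trivial

namespace MSQ

/-- the Boolean version of `InQ` -/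
def inq (l : List ℕ) : Bool := [2, 4, 64, 128].all fun v => [0, 1, 8, 9].contains (lin l v ^^^ v)
/-- words for the image of `Q` -/
def qw : List ℕ := [0, 1, 2, 5, 6, 10, 13, 14, 21, 22, 46, 85, 86, 110, 174, 686]
/-- the image of `Q` -/
def q16 : List (List ℕ) :=
  [[1, 2, 4, 8, 16, 32, 64, 128, 256, 512], [1, 2, 4, 8, 18, 32, 65, 128, 260, 647],
  [1, 3, 4, 8, 88, 32, 64, 128, 384, 581], [1, 2, 4, 8, 16, 36, 64, 129, 258, 581],
  [1, 2, 5, 8, 16, 168, 64, 128, 320, 707], [1, 3, 4, 8, 91, 32, 65, 128, 388, 707],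
  [1, 2, 4, 8, 18, 36, 65, 129, 262, 707], [1, 2, 5, 8, 18, 168, 65, 128, 325, 581],
  [1, 3, 4, 8, 88, 36, 64, 129, 387, 512], [1, 3, 5, 8, 88, 168, 64, 128, 448, 647],
  [1, 2, 5, 8, 16, 173, 64, 129, 322, 647], [1, 3, 4, 8, 91, 36, 65, 129, 391, 647],
  [1, 3, 5, 8, 91, 168, 65, 128, 453, 512], [1, 2, 5, 8, 18, 173, 65, 129, 327, 512],
  [1, 3, 5, 8, 88, 173, 64, 129, 451, 707], [1, 3, 5, 8, 91, 173, 65, 129, 454, 581]]

theorem eqns_msq2 : True := by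
  have := @inq.eq_1
  have := @qw.eq_1
  have := @q16.eq_1
  trivial

theorem inq_iff {s : Au 10} : InQ s ↔ inq (cd s) = true := by simp [InQ, inq]

theorem f1 : (s10.all fun l => (!inq l || q16.elem l) && lin l 1 == 1 && (lin l 8 == 8 || lin l 8 == 9) &&
    (inq l || (idn 10).any fun v => (lin l v ^^^ v) &&& 816 != 0)) = true := by decide +kernel
theorem f2 : q16 = qw.map (Wd.wd 10 qe 5) := by decide +kernel
theorem f3 : (qe.all fun l => q16.all fun m => q16.elem (cm l m)) = true := by decide +kernel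
theorem f4 : (q16.all fun l => inq l && cm l l == idn 10 && lin l 8 == 8 &&
    (List.range 1024).all fun v => (lin l v ^^^ v) &&& 816 == 0) = true := by decide +kernel
theorem f5 : (s10.all fun l => inq l || cm l l != idn 10 || lin l 8 != 8 ||
    (List.range 1024).all fun v => lin l v ^^^ v != 1) = true := by decide +kernel
theorem f6 : (q16.all fun l => (List.range 1024).all fun v => v &&& 816 == 0 || lin l v ^^^ v != 1 ||
    Om.any fun p => p != 8 && p != 9 && lin l p == p && (v ^^^ p) &&& 816 == 0 &&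
      !([0, 1, 8, 9].contains (v ^^^ p))) = true := by decide +kernel
theorem f7 : (qe.all fun l => oki 10 l && (t10 true).elem l) = true := by decide +kernel
theorem f8 : ∀ p ∈ Om, ((p ^^^ 16) &&& 816 = 0 → p ∈ [16, 18, 88, 91]) ∧
    ((p ^^^ 32) &&& 816 = 0 → p ∈ [32, 36, 168, 173]) ∧ ((p ^^^ 304) &&& 816 = 0 → p ∈ [304, 310, 504, 511]) ∧
    ((p ^^^ 18) &&& 816 = 0 → p ∈ [16, 18, 88, 91]) ∧
    ((p ^^^ 36) &&& 816 = 0 → p ∈ [32, 36, 168, 173]) ∧ ((p ^^^ 310) &&& 816 = 0 → p ∈ [304, 310, 504, 511]) := by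
  decide +kernel
theorem f9 : ∀ a ∈ [16, 18, 88, 91], ∀ b ∈ [16, 18, 88, 91], a ^^^ b ≠ 0 → ∀ c ∈ [32, 36, 168, 173],
    ∀ d ∈ [32, 36, 168, 173], c ^^^ d ≠ 0 → ∀ u ∈ [304, 310, 504, 511], ∀ v ∈ [304, 310, 504, 511],
    a ^^^ b ^^^ (c ^^^ d) = u ^^^ v → a ^^^ b ^^^ 2 ∈ [0, 1] := by decide +kernel

theorem f10 : ((List.range 1024).all fun v => !inX v || !inX (v ^^^ 1) || Om.elem (v ^^^ 8) || Om.elem (v ^^^ 9) ||
    v &&& 816 == 0) = true := by decide +kernel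

theorem g1 {s : Au 10} (hs : s ∈ S10) : (InQ s → cd s ∈ q16) ∧ lin (cd s) 1 = 1 ∧
    (lin (cd s) 8 = 8 ∨ lin (cd s) 8 = 9) ∧ (InQ s ∨ ∃ v ∈ idn 10, (lin (cd s) v ^^^ v) &&& 816 ≠ 0) := by
  have := List.all_eq_true.1 f1 _ (mem_S10.1 hs)
  simp only [Bool.and_eq_true, Bool.or_eq_true, beq_iff_eq, List.any_eq_true, bne_iff_ne, List.elem_eq_mem,
    decide_eq_true_eq, Bool.not_eq_true', ← inq_iff] at this
  refine ⟨fun h => this.1.1.1.resolve_left ?_, this.1.1.2, this.1.2, this.2⟩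
  rw [inq_iff.1 h]
  simp

theorem g4 {l : List ℕ} (h : l ∈ q16) : inq l = true ∧ cm l l = idn 10 ∧ lin l 8 = 8 ∧
    ∀ v < 1024, (lin l v ^^^ v) &&& 816 = 0 := by
  have := List.all_eq_true.1 f4 _ h
  simp only [Bool.and_eq_true, beq_iff_eq, List.all_eq_true, List.mem_range] at this
  exact ⟨this.1.1.1, this.1.1.2, this.1.2, this.2⟩

end MSQ

open MSQ

theorem cd_qe : ∀ l ∈ qe, cd (mk 10 l) = l ∧ mk 10 l ∈ T10 true := fun l hl => by
  have := List.all_eq_true.1 f7 l hl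
  rw [Bool.and_eq_true, List.elem_eq_mem, decide_eq_true_eq] at this
  exact ⟨cd_mki this.1, by rw [mem_T10, cd_mki this.1]; exact this.2⟩
theorem inQ_iff {s : Au 10} (hs : s ∈ S10) : InQ s ↔ s ∈ cl 10 qe := by
  refine ⟨fun h => ?_, fun h => inq_iff.2 (g4 ?_).1⟩
  · have := (g1 hs).1 h
    rw [f2] at this
    obtain ⟨w, -, e⟩ := List.mem_map.1 this
    exact Wd.mem_of_wd (fun l hl => (cd_qe l hl).1) e.symm
  · refine mem_of_closed (fun l hl => (cd_qe l hl).1) (P := (· ∈ q16)) (by decide) (fun l hl m hm => ?_) h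
    simpa using List.all_eq_true.1 (List.all_eq_true.1 f3 l hl) m hm
theorem s_a {s : Au 10} (hs : s ∈ S10) : lin (cd s) 1 = 1 ∧ (lin (cd s) 8 = 8 ∨ lin (cd s) 8 = 9) :=
  ⟨(g1 hs).2.1, (g1 hs).2.2.1⟩
theorem s_in {s : Au 10} (hs : s ∈ S10) (ss : s * s = 1) (h8 : lin (cd s) 8 = 8) {v : ℕ} (hv : v < 1024)
    (h : lin (cd s) v ^^^ v = 1) : InQ s := by
  have := List.all_eq_true.1 f5 _ (mem_S10.1 hs)
  rw [← cd_mul, ss, cd_one, h8] at this
  simp only [bne_self_eq_false, Bool.or_false, Bool.or_eq_true, List.all_eq_true, List.mem_range, bne_iff_ne] at this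
  exact inq_iff.2 (this.resolve_right fun k => k v hv h)
theorem s_out {s : Au 10} (hs : s ∈ S10) (h : ¬ InQ s) : ∃ v < 1024, (lin (cd s) v ^^^ v) &&& 816 ≠ 0 := by
  obtain ⟨v, hv, e⟩ := (g1 hs).2.2.2.resolve_left h
  exact ⟨v, (by decide : ∀ v ∈ idn 10, v < 1024) v hv, e⟩
theorem s_q {s : Au 10} (hs : s ∈ S10) (h : InQ s) :
    s * s = 1 ∧ lin (cd s) 8 = 8 ∧ ∀ v < 1024, (lin (cd s) v ^^^ v) &&& 816 = 0 := by
  have := g4 ((g1 hs).1 h)
  exact ⟨by rw [cd_eq_iff, cd_mul, cd_one, this.2.1], this.2.2⟩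
theorem s_four {s : Au 10} (hs : s ∈ S10) (h : InQ s) {v : ℕ} (hv : v < 1024) (h1 : lin (cd s) v ^^^ v = 1)
    (h2 : v &&& 816 ≠ 0) : ∃ p ∈ Om, p ≠ 8 ∧ p ≠ 9 ∧ lin (cd s) p = p ∧ (v ^^^ p) &&& 816 = 0 ∧
      v ^^^ p ∉ [0, 1, 8, 9] := by
  have := List.all_eq_true.1 (List.all_eq_true.1 f6 _ ((g1 hs).1 h)) v (List.mem_range.2 hv)
  simp only [Bool.or_eq_true, beq_iff_eq, bne_iff_ne, List.any_eq_true, Bool.and_eq_true, Bool.not_eq_true',
    List.contains_eq_mem, decide_eq_false_iff_not] at this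
  obtain ⟨p, hp, k⟩ := this.resolve_left fun k => k.elim h2 fun k => k h1
  exact ⟨p, hp, k.1.1.1.1, k.1.1.1.2, k.1.1.2, k.1.2, k.2⟩
theorem pat_E : ∀ v < 1024, inX v = true → inX (v ^^^ 1) = true → v ^^^ 8 ∉ Om → v ^^^ 9 ∉ Om →
    v &&& 816 = 0 := fun v hv a b c d => by
  have := List.all_eq_true.1 f10 v (List.mem_range.2 hv)
  simpa [a, b, c, d] using this
theorem om_pair : ∀ p ∈ Om, p ^^^ 1 ∈ Om → p = 8 ∨ p = 9 := by decide +kernel
theorem om_Q : ∀ p ∈ Om, p &&& 816 = 0 → p = 8 ∨ p = 9 := by decide +kernel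
set_option linter.unusedVariables false in
/-- no automorphism preserving the points acts on `(Q ∩ E) / Z` without fixed points and trivially on `E / (Q ∩ E)` -/
theorem hexad {g : Au 10} (hΩ : ∀ p ∈ Om, lin (cd g) p ∈ Om) (h8 : lin (cd g) 8 = 8) (h9 : lin (cd g) 9 = 9)
    (hq : ∀ v < 1024, (lin (cd g) v ^^^ v) &&& 816 = 0) : lin (cd g) 2 ^^^ 2 ∈ [0, 1] := by
  have e2 : lin (cd g) 2 = lin (cd g) 16 ^^^ lin (cd g) 18 := lin_xor _ 16 18
  have e4 : lin (cd g) 4 = lin (cd g) 32 ^^^ lin (cd g) 36 := lin_xor _ 32 36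
  have e6 : lin (cd g) 6 = lin (cd g) 304 ^^^ lin (cd g) 310 := lin_xor _ 304 310
  have e7 : lin (cd g) 6 = lin (cd g) 2 ^^^ lin (cd g) 4 := lin_xor _ 2 4
  rw [e2]
  refine f9 _ ((f8 _ (hΩ 16 (by decide))).1 (hq _ (by norm_num)))
    _ ((f8 _ (hΩ 18 (by decide))).2.2.2.1 (hq _ (by norm_num))) (fun h => ?_)
    _ ((f8 _ (hΩ 32 (by decide))).2.1 (hq _ (by norm_num)))
    _ ((f8 _ (hΩ 36 (by decide))).2.2.2.2.1 (hq _ (by norm_num))) (fun h => ?_)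
    _ ((f8 _ (hΩ 304 (by decide))).2.2.1 (hq _ (by norm_num)))
    _ ((f8 _ (hΩ 310 (by decide))).2.2.2.2.2 (hq _ (by norm_num))) (by rw [← e2, ← e4, ← e6, e7])
  · exact absurd (Wd.lin_eq_zero g (by norm_num) (e2.trans h)) (by norm_num)
  · exact absurd (Wd.lin_eq_zero g (by norm_num) (e4.trans h)) (by norm_num)

end H12.E64
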