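import Cfsg.Agent.Lib.E64.P10A
import Cfsg.Agent.Lib.E64.Wd

/-! The points, the element `ξ`, and the Sylow subgroup (see blueprint/E64/README.md) -/

set_option autoImplicit false

namespace H12.E64

open Subgroup Cfsg H69 H45 Gold Wd
open scoped commutatorElement

theorem om_iff : ∀ v < 1024, (v ∈ Om ↔ v ≠ 0 ∧ ∀ x < 1024, inX x = true → inX (x ^^^ v) = false) := by
  have h1 : (Om.all fun v => v != 0 && (List.range 1024).all fun x => !inX x || !inX (x ^^^ v)) = true := by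
    decide +kernel
  have h2 : ((List.range 1024).all fun v => Om.contains v || v == 0 ||
      [1, 48, 124, 186, 246, 68, 130, 206, 25, 261, 363, 423, 414, 2].any fun x =>
        x < 1024 && inX x && inX (x ^^^ v)) = true := by decide +kernel
  simp only [List.all_eq_true, Bool.and_eq_true, bne_iff_ne, List.mem_range, Bool.or_eq_true, Bool.not_eq_true',
    List.contains_iff_mem, beq_iff_eq, List.any_eq_true, decide_eq_true_eq] at h1 h2
  refine fun v hv => ⟨fun h => ⟨(h1 v h).1, fun x hx k => ((h1 v h).2 x hx).resolve_left (by simp [k])⟩,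
    fun h => ?_⟩
  rcases h2 v hv with (k | k) | ⟨x, -, ⟨k1, k2⟩, k3⟩
  · exact k
  · exact absurd k h.1
  · exact absurd (h.2 x k1 k2) (by simp [k3])

theorem om_inv {g : Au 10} (hX : ∀ v < 1024, inX v = true → inX (lin (cd g) v) = true) :
    (∀ v < 1024, inX (lin (cd g) v) = inX v) ∧ ∀ v < 1024, (lin (cd g) v ∈ Om ↔ v ∈ Om) := by
  have hi : ∀ v < 1024, inX v = true → inX (lin (cd g⁻¹) v) = true :=
    (sg (fun g : Au 10 => ∀ v < 1024, inX v = true → inX (lin (cd g) v) = true)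
      (fun v hv h => by rwa [cd_one, lin_idn (n := 10) hv]) fun a b ha hb v hv h => by
        rw [cd_mul, lin_cm]; exact ha _ (lin_cd_lt b v) (hb v hv h)).inv_mem hX
  have h1 : ∀ v < 1024, inX (lin (cd g) v) = inX v := fun v hv =>
    Bool.eq_iff_iff.2 ⟨fun h => by have := hi _ (lin_cd_lt g v) h; rwa [lin_inv (n := 10) g hv] at this, hX v hv⟩
  refine ⟨h1, fun v hv => ?_⟩
  rw [om_iff v hv, om_iff _ (lin_cd_lt g v)]
  refine and_congr ⟨fun h c => h (by rw [c, lin_zero]), fun h c => h (lin_eq_zero (n := 10) g hv c)⟩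
    ⟨fun h x hx k => ?_, fun h x hx k => ?_⟩
  · rw [← h1 _ (Nat.xor_lt_two_pow (n := 10) hx hv), lin_xor]
    exact h _ (lin_cd_lt g x) (hX x hx k)
  · have := h _ (lin_cd_lt g⁻¹ x) (hi x hx k)
    rwa [← h1 _ (Nat.xor_lt_two_pow (n := 10) (lin_cd_lt g⁻¹ x) hv), lin_xor, lin_inv' (n := 10) g hx] at this

theorem xi_eq {ξ : Au 10} (hx : IsXi true ξ) (hX : ∀ v < 1024, inX v = true → inX (lin (cd ξ) v) = true) :
    ξ = mk 10 xic := by
  have hp := ((om_inv hX).2 32 (by norm_num)).2 (by decide)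
  have hq := ((om_inv hX).2 512 (by norm_num)).2 (by decide)
  have e := cd_cols ξ
  rw [(by decide : idn 10 = [1, 2, 4, 8, 16, 32, 64, 128, 256, 512])] at e
  simp only [IsXi, xi0, List.map, cond, List.cons.injEq, and_true] at hx
  obtain ⟨a1, a2, a3, a4, a5, a6, a7, a8⟩ := hx
  simp only [List.map, a1, a2, a3, a4, a5, a6, a7, a8] at e
  generalize lin (cd ξ) 32 = p at *
  generalize lin (cd ξ) 512 = q at *
  have h : (Om.all fun p => Om.all fun q => [1, 2, 69, 8, 16, p, 64, 203, 273, q] == xic ||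
      [554, 567, 488, 588].any fun x => x < 1024 && inX x && !inX (lin [1, 2, 69, 8, 16, p, 64, 203, 273, q] x)) =
      true := by decide +kernel
  simp only [List.all_eq_true, Bool.and_eq_true, Bool.or_eq_true, Bool.not_eq_true', beq_iff_eq,
    List.any_eq_true, decide_eq_true_eq] at h
  rcases h p hp q hq with k | ⟨x, -, ⟨k1, k2⟩, k3⟩
  · rw [cd_eq_iff, e, k, cd_g10 true xic (by decide)]
  · have := hX x k1 k2
    rw [e, k3] at this
    exact absurd this (by decide)

namespace P10D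

theorem cen_S {z : Au 10} (hz : z ∈ S10) (h : ∀ s ∈ S10, z * s = s * z) : z = 1 ∨ z = y0 := by
  have k : (s10.all fun c => c == idn 10 || c == [1, 2, 4, 8, 16, 36, 64, 129, 258, 581] ||
    ((g10 true).take 5 ++ [xic]).any fun l => cm c l != cm l c) = true := by decide +kernel
  simp only [List.all_eq_true, Bool.or_eq_true, beq_iff_eq, List.any_eq_true, bne_iff_ne] at k
  rcases k _ (mem_S10.1 hz) with (k | k) | ⟨l, hl, k⟩
  · exact Or.inl (by rw [cd_eq_iff, k, cd_one])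
  · exact Or.inr (by rw [cd_eq_iff, k, cd_y0])
  · have := h _ (mk_mem hl)
    rw [cd_eq_iff, cd_mul, cd_mul, cd_g10 true l ((by decide : ∀ l ∈ (g10 true).take 5 ++ [xic],
      l ∈ g10 true ++ [xic]) l hl)] at this
    exact absurd this k

theorem y0_cen : ∀ s ∈ S10, y0 * s = s * y0 := by
  intro s hs
  have k : (s10.all fun c => cm [1, 2, 4, 8, 16, 36, 64, 129, 258, 581] c ==
    cm c [1, 2, 4, 8, 16, 36, 64, 129, 258, 581]) = true := by decide +kernel
  rw [cd_eq_iff, cd_mul, cd_mul, cd_y0]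
  exact beq_iff_eq.1 (List.all_eq_true.1 k _ (mem_S10.1 hs))

theorem y0_S : y0 ∈ S10 := T10_S (A10_T true y0_mem)

variable {g : Au 10}

theorem cj_S (hg : g ∈ 𝐍(S10)) {s : Au 10} (hs : s ∈ S10) : g⁻¹ * s * g ∈ S10 := by
  simpa using (mem_normalizer_iff.1 (inv_mem hg) s).1 hs

theorem com_y0 (hg : g ∈ 𝐍(S10)) : g * y0 = y0 * g := by
  rcases cen_S (cj_S hg y0_S) fun s hs => by
    have := y0_cen _ ((mem_normalizer_iff.1 hg s).1 hs)
    calc g⁻¹ * y0 * g * s = g⁻¹ * (y0 * (g * s * g⁻¹)) * g := by group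
      _ = _ := by rw [this]; group with h | h
  · have : y0 = 1 := by
      calc y0 = g * (g⁻¹ * y0 * g) * g⁻¹ := by group
        _ = 1 := by rw [h]; group
    rw [this, mul_one, one_mul]
  · conv_lhs => rw [← h]
    group

theorem pD (hg : g ∈ 𝐍(S10)) : ∀ v ∈ [0, 1, 2, 3, 4, 5, 6, 7, 64, 65, 66, 67, 68, 69, 70, 71],
    lin (cd g) v ∈ [0, 1, 2, 3, 4, 5, 6, 7, 64, 65, 66, 67, 68, 69, 70, 71] := by
  intro v hv
  obtain ⟨u, -, e⟩ := al2_ex (p := fun v u => v == lin [1, 2, 4, 8, 16, 36, 64, 129, 258, 581] u ^^^ u)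
    (t := [0, 128, 256, 384, 32, 160, 288, 416, 672, 544, 928, 800, 640, 512, 896, 768]) (by decide +kernel) v hv
  have k : ((List.range 1024).all fun u => [0, 1, 2, 3, 4, 5, 6, 7, 64, 65, 66, 67, 68, 69, 70, 71].contains
    (lin [1, 2, 4, 8, 16, 36, 64, 129, 258, 581] u ^^^ u)) = true := by decide +kernel
  have k' := List.all_eq_true.1 k _ (List.mem_range.2 (lin_cd_lt g u))
  rw [beq_iff_eq.1 e, lin_xor, ← cd_y0, ← lin_cm, ← cd_mul, com_y0 hg, cd_mul, lin_cm, cd_y0]
  exact List.contains_iff_mem.1 k'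

theorem step (hg : g ∈ 𝐍(S10)) {L L' : List ℕ} (hL : ∀ v ∈ L, lin (cd g) v ∈ L)
    (h1 : (L'.all fun v => [0, 1, 2, 3, 4, 5, 6, 7, 64, 65, 66, 67, 68, 69, 70, 71].contains v &&
      s10.all fun c => L.contains (lin c v ^^^ v)) = true)
    (h2 : ([0, 1, 2, 3, 4, 5, 6, 7, 64, 65, 66, 67, 68, 69, 70, 71].all fun v => L'.contains v ||
      s10.any fun c => !L.contains (lin c v ^^^ v)) = true) : ∀ v ∈ L', lin (cd g) v ∈ L' := by
  intro v hv
  have h3 := Bool.and_eq_true_iff.1 (List.all_eq_true.1 h1 v hv)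
  refine List.contains_iff_mem.1 ((Bool.or_eq_true_iff.1 (List.all_eq_true.1 h2 _
    (pD hg v (List.contains_iff_mem.1 h3.1)))).resolve_right fun k => ?_)
  obtain ⟨c, hc, k⟩ := List.any_eq_true.1 k
  obtain ⟨s, hs, rfl⟩ := M10.isS.2 c hc
  have := hL _ (List.contains_iff_mem.1 (List.all_eq_true.1 h3.2 _ (mem_S10.1 (cj_S hg hs))))
  rw [lin_xor, ← lin_cm, ← cd_mul, (by group : g * (g⁻¹ * s * g) = s * g), cd_mul, lin_cm] at this
  rw [List.contains_iff_mem.2 this] at k
  exact absurd k (by decide)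

end P10D

open P10D

theorem H10.self {Λ : Subgroup (Au 10)} (h : H10 true Λ) (hS : S10 ≤ Λ) : Λ ⊓ 𝐍(S10) ≤ S10 := by
  intro g hg'
  obtain ⟨hΛ, hg⟩ := mem_inf.1 hg'
  have q0 : ∀ v ∈ [0], lin (cd g) v ∈ [0] := by simp [lin_zero]
  have q1 := step hg (L' := [0, 1]) q0 (by decide +kernel) (by decide +kernel)
  have q2 := step hg (L' := [0, 1, 2, 3]) q1 (by decide +kernel) (by decide +kernel)
  have q3 := step hg (L' := [0, 1, 2, 3, 64, 65, 66, 67]) q2 (by decide +kernel) (by decide +kernel)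
  have k : ([0, 1].all fun a => [0, 1, 2, 3].all fun b =>
      [0, 1, 2, 3, 4, 5, 6, 7, 64, 65, 66, 67, 68, 69, 70, 71].all fun d => [0, 1, 2, 3, 64, 65, 66, 67].all fun c =>
      ((List.range 16).any fun x => lin [1, 2, 4, 64] x != 0 && lin [1, 2, 4, 64] x < 1024 &&
        lin [a, b, d, c] x == 0) || (s10.map fun s => cm s [1, 2, 4, 64]).contains [a, b, d, c]) = true := by
    decide +kernel
  simp only [List.all_eq_true, Bool.or_eq_true, Bool.and_eq_true, List.contains_iff_mem, List.any_eq_true,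
    bne_iff_ne, beq_iff_eq, decide_eq_true_eq, List.mem_map] at k
  rcases k _ (q1 1 (by decide)) _ (q2 2 (by decide)) _ (pD hg 4 (by decide)) _ (q3 64 (by decide)) with
    ⟨x, -, ⟨k1, k2⟩, k3⟩ | ⟨c, hc, k⟩
  · exact absurd (lin_eq_zero (n := 10) g k2 ((lin_cm _ _ _).symm.trans k3)) k1
  obtain ⟨s, hs, rfl⟩ := M10.isS.2 c hc
  simp only [cm, List.map, List.cons.injEq, and_true] at k
  have hf : s⁻¹ * g ∈ Fx 10 [1, 2, 4, 64] := by
    refine (M9G.mem_Fx (by decide)).2 fun x hx => ?_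
    have : lin (cd g) x = lin (cd s) x := by
      simp only [List.mem_cons, List.not_mem_nil, or_false] at hx
      rcases hx with rfl | rfl | rfl | rfl <;> simp only [k]
    rw [cd_mul, lin_cm, this, lin_inv s ((by decide : ∀ x ∈ [1, 2, 4, 64], x < 2 ^ 10) x hx)]
  have : s⁻¹ * g ∈ S10 := by
    rcases h.cD (mul_mem (inv_mem (hS hs)) hΛ) hf with e | e <;> rw [e]
    exacts [one_mem _, y0_S]
  simpa using mul_mem hs this

end H12.E64
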