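import Cfsg.Agent.Lib.E64.GA2
import Cfsg.Agent.Lib.E64.ORB
import Cfsg.Agent.Lib.E64.P10D
import Cfsg.Agent.Lib.E64.MSQ

/-! Classes of involutions (see blueprint/E64/README.md) -/

set_option autoImplicit false
set_option linter.unusedSectionVars false

namespace H12.E64

open Subgroup Cfsg H69 H45 Gold
open scoped commutatorElement

variable {G : Type*} [Group G] [Finite G] {c : Fr G} {e : BV 10 →* G} {S : Subgroup G}

namespace CLx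

theorem t1 : ∀ v < 1024, (∀ l ∈ (g10 true).take 5, lin l v = v) → v = 0 ∨ v = 1 := by decide +kernel
theorem t2 : ∀ v < 1024, lin [1, 2, 4, 8, 16, 36, 64, 129, 258, 581] v ^^^ v = 0 → ∃ u ∈ [0, 32],
    lin [1, 2, 4, 8, 16, 36, 64, 129, 258, 581] u ^^^ v ^^^ u < 128 ∧
    (lin [1, 2, 4, 8, 16, 36, 64, 129, 258, 581] u ^^^ v ^^^ u) &&& 36 = 0 ∧
    4 ^^^ (lin [1, 2, 4, 8, 16, 36, 64, 129, 258, 581] u ^^^ v ^^^ u) ∉ Om ∧
    (inX (4 ^^^ (lin [1, 2, 4, 8, 16, 36, 64, 129, 258, 581] u ^^^ v ^^^ u)) = true ↔ v &&& 952 = 0) := by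
  decide +kernel
theorem t3 : ∀ w < 1024, w &&& 952 = 0 → lin [128, 256, 32, 0, 0, 0, 672] w < 1024 ∧
    lin [1, 2, 4, 8, 16, 36, 64, 129, 258, 581] (lin [128, 256, 32, 0, 0, 0, 672] w) ^^^
      lin [128, 256, 32, 0, 0, 0, 672] w = w := by decide +kernel

omit [Finite G] in
theorem zp_two {y a : G} (h : y * y = 1) (ha : a ∈ zpowers y) : a = 1 ∨ a = y := by
  obtain ⟨m, rfl⟩ := mem_zpowers_iff.1 ha
  have s : y ^ (2 : ℤ) = 1 := by rw [zpow_two, h]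
  rcases Int.even_or_odd' m with ⟨j, rfl | rfl⟩
  · exact .inl (by rw [zpow_mul, s, one_zpow])
  · exact .inr (by rw [zpow_add_one, zpow_mul, s, one_zpow, one_mul])

omit [Finite G] in
theorem E_cent : e.range ≤ 𝐂(e.range) := by
  rintro _ ⟨u, rfl⟩ _ ⟨v, rfl⟩
  rw [← map_mul, ← map_mul, mul_comm]

omit [Finite G] in
theorem act_E {x : G} (h : x ∈ e.range) : Act e x 1 := act_one_iff.2 (E_cent h)

omit [Finite G] in
theorem e_sq (v : BV 10) : e v * e v = 1 := by rw [← map_mul, bv_sq, map_one]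

omit [Finite G] in
theorem al_sq (v : ℕ) : c.al v * c.al v = 1 := by rw [← c.al_xor, Nat.xor_self, Fr.al, bv_zero, map_one]

omit [Finite G] in
theorem A_T : c.A ≤ c.T := le_sup_left.trans (c.R_eq.ge.trans c.R_T)

omit [Finite G] in
theorem F_T : c.F ≤ c.T := le_sup_right.trans (c.R_eq.ge.trans c.R_T)

theorem fus (h : c.Cg e S) {u v : ℕ} (hu : u < 1024) (hv : v < 1024) :
    IsConj (e (bv 10 u)) (e (bv 10 v)) ↔ ∃ g ∈ AutG e ⊤, lin (cd g) u = v := by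
  refine ⟨fun k => ?_, fun ⟨g, ⟨n, _, a⟩, f⟩ => isConj_iff.2 ⟨n, f ▸ a.bv hu⟩⟩
  obtain ⟨g, k⟩ := isConj_iff.1 k
  obtain ⟨n, -, hn, f⟩ := wc_fus h.syl h.ES h.wc (mem_top g) k
  obtain ⟨γ, a⟩ := exists_act h.ga.inj hn
  exact ⟨γ, ⟨n, mem_top _, a⟩, (bv_eq (lin_lt (cd_lt γ) u) hv).1 (h.ga.inj ((a.bv hu).symm.trans f))⟩

end CLx

open CLx

namespace Fr

theorem Cg.ea (h : c.Cg e S) : e (bv 10 1) = c.a ∧ e (bv 10 8) = c.d ∧ e (bv 10 9) = c.d * c.a :=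
  ⟨h.ga.ef 1 (by norm_num), h.ga.ef 8 (by norm_num), (h.ga.ef 9 (by norm_num)).trans (c.fl_xor 8 1)⟩

theorem Cg.card (h : c.Cg e S) : Nat.card S = 2 ^ 17 := by
  rw [card_autG h.ga.inj h.SN h.ES h.cE, h.aut, card_S10]; rfl

theorem Cg.act (h : c.Cg e S) {s : G} (hs : s ∈ S) : ∃ g ∈ S10, Act e s g :=
  let ⟨γ, a⟩ := exists_act h.ga.inj (h.SN hs)
  ⟨γ, h.aut ▸ mem_autG.2 ⟨s, hs, a⟩, a⟩

theorem Cg.mem_E (h : c.Cg e S) {s t : G} (hs : s ∈ S) (ht : t ∈ S) {g : Au 10} (a : Act e s g) (b : Act e t g) :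
    ∃ v < 1024, t = s * e (bv 10 v) := by
  obtain ⟨v, f⟩ := h.cE ⟨S.mul_mem (S.inv_mem hs) ht, a.cent b⟩
  exact ⟨v.1, v.2, by rw [bv_val, f, mul_inv_cancel_left]⟩

theorem Cg.Sa (h : c.Cg e S) : S ≤ 𝐂[c.a] := fun s hs => by
  obtain ⟨g, hg, a⟩ := h.act hs
  have := a.bv (x := 1) (by norm_num)
  rw [(s_a hg).1, h.ea.1] at this
  exact mem_centralizer_singleton_iff.2 (mul_inv_eq_iff_eq_mul.1 this)

theorem Cg.zS (h : c.Cg e S) : ∀ z ∈ S, S ≤ 𝐂[z] → z = 1 ∨ z = c.a := fun z hz k => by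
  obtain ⟨v, rfl⟩ := h.cE ⟨hz, fun x hx => mem_centralizer_singleton_iff.1 (k (h.ES hx))⟩
  have := t1 v.1 v.2 fun l hl => by
    obtain ⟨s, hs, a⟩ := mem_autG.1 (h.aut.ge (T10_S (subset_closure ⟨l, hl, rfl⟩)))
    have f := a v
    rw [mem_centralizer_singleton_iff.1 (k hs), mul_inv_cancel_right] at f
    have := congrArg (·.1) (h.ga.inj f)
    simp only [app] at this
    rw [cd_g10 true l (List.mem_append_left _ (List.mem_of_mem_take hl))] at this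
    exact this.symm
  rw [← bv_val v]
  rcases this with f | f <;> rw [f]
  exacts [.inl (by rw [bv_zero, map_one]), .inr h.ea.1]

theorem Cg.cl_a (h : c.Cg e S) {v : ℕ} (hv : v < 1024) : IsConj c.a (e (bv 10 v)) ↔ inX v = true := by
  rw [← h.ea.1, fus h (by norm_num) hv]
  exact ⟨fun ⟨g, hg, f⟩ => f ▸ h.pX g hg 1 (by norm_num) (by decide +kernel),
    fun k => let ⟨g, hg, f⟩ := orb_X v hv k; ⟨g, h.l1 hg, f⟩⟩

theorem Cg.cl_d (h : c.Cg e S) {v : ℕ} (hv : v < 1024) : IsConj c.d (e (bv 10 v)) ↔ v ∈ Om := by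
  rw [← h.ea.2.1, fus h (by norm_num) hv]
  exact ⟨fun ⟨g, hg, f⟩ => f ▸ ((om_inv (h.pX g hg)).2 8 (by norm_num)).2 (by decide),
    fun k => let ⟨g, hg, f⟩ := orb_Om v k; ⟨g, h.l1 hg, f⟩⟩

theorem Cg.big (h : c.Cg e S) {L : Subgroup G} (hL : L.Normal) (hS : S ≤ L) : L1 ≤ AutG e L :=
  ncl_L1 (h.l1.trans (autG_nrm hL)) (h.ga.aA.ge.trans (autG_mono (A_T.trans (h.TS.trans hS))))

theorem Cg.co (h : c.Cg e S) {L : Subgroup G} (hL : L.Normal) (hS : S ≤ L) {s : G} (hs : s ∈ S)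
    (h1 : s ∉ e.range) (h2 : s * s ∈ e.range) :
    ∃ n ∈ L, n ∈ 𝐍(e.range) ∧ ∃ v < 1024, n * s * n⁻¹ = c.al 32 * e (bv 10 v) := by
  have : Fact (Nat.Prime 2) := ⟨Nat.prime_two⟩
  obtain ⟨g, hg, a⟩ := h.act hs
  obtain ⟨k, hk, f⟩ := inv_S10 g hg ((a.mul a).uniq h.ga.inj (act_E h2)) fun f =>
    h1 (h.cE ⟨hs, act_one_iff.1 (f ▸ a)⟩)
  obtain ⟨n, hn, b⟩ := mem_autG.1 (h.big hL hS hk)
  have a' := (b.mul a).mul b.inv
  rw [f] at a'
  have ay := h.ga.act_y0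
  have yL : c.al 32 ∈ L := hS (h.TS (A_T (c.al_mem 32)))
  have y2 := al_sq (c := c) 32
  generalize c.al 32 = y at ay yL y2 ⊢
  have n1 : zpowers y ≤ 𝐍(e.range) := zpowers_le.2 ay.nrm
  have n2 : zpowers y ≤ 𝐍(𝐂(e.range) ⊓ L) := zpowers_le.2 (mem_normalizer_fintype fun x hx =>
    ⟨act_one_iff.1 (by simpa using (ay.mul (act_one_iff.2 hx.1)).mul ay.inv), hL.conj_mem x hx.2 y⟩)
  have EC : e.range ≤ 𝐂(e.range) ⊓ L := le_inf E_cent (h.ES.trans hS)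
  have sy : IsSylowIn 2 (zpowers y ⊔ e.range) (zpowers y ⊔ 𝐂(e.range) ⊓ L) :=
    ⟨sup_le_sup_left EC _, isPGroup_sup_of_le_normalizer_right (El2.of_mul_self y2).isPGroup isP_range n1,
      fun R r1 r2 p => le_antisymm (fun x hx => by
        obtain ⟨u, hu, w, hw, rfl⟩ := (mem_sup_of_le_normalizer_right n2).1 (r2 hx)
        exact mul_mem (mem_sup_left hu) (mem_sup_right ((h.ga.sylE.max (R ⊓ 𝐂(e.range))
          (le_inf (le_sup_right.trans r1) E_cent) inf_le_right p.to_inf_left).le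
            ⟨(R.mul_mem_cancel_left (r1 (mem_sup_left hu))).1 hx, hw.1⟩))) r1⟩
  obtain ⟨m, hm, k⟩ := sy.exists_cj_le (((El2.of_mem h.syl.isP hs).conj n).isPGroup) (zpowers_le.2 (by
    rw [← mul_inv_cancel_left y (n * s * n⁻¹)]
    exact mul_mem (mem_sup_left (mem_zpowers y)) (mem_sup_right
      ⟨ay.cent a', L.mul_mem (L.inv_mem yL) (hL.conj_mem s (hS hs) n)⟩)))
  have mN : m * n ∈ 𝐍(e.range) :=
    mul_mem (sup_le n1 (inf_le_left.trans (centralizer_le_normalizer _)) hm) b.nrm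
  refine ⟨m * n, mul_mem (sup_le (zpowers_le.2 yL) inf_le_right hm) hn, mN, ?_⟩
  obtain ⟨u, hu, _, ⟨v, rfl⟩, f⟩ := (mem_sup_of_le_normalizer_right n1).1 (k (cj_mem m (mem_zpowers _)))
  rw [show m * (n * s * n⁻¹) * m⁻¹ = m * n * s * (m * n)⁻¹ by group] at f
  rcases zp_two y2 hu with rfl | rfl
  · exact absurd ((mem_normalizer_iff.1 mN s).2 ⟨v, by rw [f, one_mul]⟩) h1
  · exact ⟨v.1, v.2, by rw [bv_val, f]⟩

theorem Cg.y0cl (h : c.Cg e S) {L : Subgroup G} (hL : L.Normal) (hS : S ≤ L) {v : ℕ} (hv : v < 1024)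
    (h2 : c.al 32 * e (bv 10 v) * (c.al 32 * e (bv 10 v)) = 1) : ∃ n ∈ L, n ∈ c.N ∧ ∃ w < 1024,
      n * (c.al 32 * e (bv 10 v)) * n⁻¹ = e (bv 10 w) ∧ w ∉ Om ∧ (inX w = true ↔ v &&& 952 = 0) := by
  have yi : (c.al 32)⁻¹ = c.al 32 := inv_eq_of_mul_eq_one_left (al_sq 32)
  have ay : ∀ x < 1024, e (bv 10 x) * c.al 32 =
      c.al 32 * e (bv 10 (lin [1, 2, 4, 8, 16, 36, 64, 129, 258, 581] x)) := fun x hx => by
    rw [← cd_y0, ← h.ga.act_y0.bv hx, yi, ← mul_assoc, ← mul_assoc, al_sq, one_mul]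
  rw [mul_assoc, ← mul_assoc (e _), ay v hv, ← mul_assoc, ← mul_assoc, al_sq, one_mul, ← map_mul, ← bv_xor,
    ← map_one e, h.ga.inj.eq_iff, ← bv_zero, bv_eq (Nat.xor_lt_two_pow (lin_lt (by decide) v) hv) (by norm_num)] at h2
  obtain ⟨u, hu, f1, f2, f3, f4⟩ := t2 v hv h2
  have u1 : u < 512 := (by decide : ∀ u ∈ [0, 32], u < 512) u hu
  have u2 : e (bv 10 u) ∈ c.T := h.ga.ef u u1 ▸ F_T (c.fl_mem u)
  obtain ⟨n, n1, n2, f⟩ := c.y0_conj hL (h.TS.trans hS) f1 f2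
  have w1 := Nat.xor_lt_two_pow (n := 7) (show 4 < 2 ^ 7 by norm_num) f1
  refine ⟨n * e (bv 10 u), mul_mem n2 (hS (h.TS u2)), mul_mem n1 (c.T_N u2), _, by omega, ?_, f3, f4⟩
  rw [h.ga.ef _ (w1.trans (by norm_num)), ← f, ← h.ga.ef _ (f1.trans (by norm_num)), bv_xor, bv_xor, map_mul, map_mul, ← mul_assoc (c.al 32),
    ← mul_assoc (c.al 32), ← ay u (by omega), mul_inv_rev, inv_eq_of_mul_eq_one_left (e_sq _)]
  group

theorem Cg.dS (h : c.Cg e S) {p : G} (hp : p ∈ S) (hd : IsConj c.d p) : ∃ v ∈ Om, p = e (bv 10 v) := by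
  by_cases k : p ∈ e.range
  · obtain ⟨v, rfl⟩ := k
    exact ⟨v.1, (h.cl_d v.2).1 (by rwa [bv_val]), by rw [bv_val]⟩
  have p2 : p * p = 1 := by
    obtain ⟨g, rfl⟩ := isConj_iff.1 hd
    rw [conj_mul, ← h.ea.2.1, e_sq, mul_one, mul_inv_cancel]
  obtain ⟨n, -, -, v, hv, f⟩ := h.co normal_top le_top hp k (p2 ▸ one_mem _)
  obtain ⟨m, -, -, w, hw, f', k', -⟩ := h.y0cl normal_top le_top hv (by rw [← f, conj_mul, p2, mul_one, mul_inv_cancel])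
  exact absurd ((h.cl_d hw).1 ((hd.trans (isConj_iff.2 ⟨n, f⟩)).trans (isConj_iff.2 ⟨m, f'⟩))) k'

theorem Cg.two_B (h : c.Cg e S) {i j : G} (hi : i ∈ S) (h1 : i ∉ e.range) (ia : IsConj c.a i) (ja : IsConj c.a j)
    (ij : i⁻¹ * j ∈ e.range) {g : Au 10} (a : Act e i g) :
    ∃ u < 1024, j = i * e (bv 10 (lin (cd g) u ^^^ u)) := by
  have sq : ∀ p, IsConj c.a p → p * p = 1 := fun p hp => by
    obtain ⟨g, rfl⟩ := isConj_iff.1 hp
    rw [conj_mul, ← h.ea.1, e_sq, mul_one, mul_inv_cancel]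
  have D : ∀ v < 1024, IsConj c.a (c.al 32 * e (bv 10 v)) → v &&& 952 = 0 := fun v hv k => by
    obtain ⟨m, -, -, w, hw, f, -, k'⟩ := h.y0cl normal_top le_top hv (sq _ k)
    exact k'.1 ((h.cl_a hw).1 (k.trans (isConj_iff.2 ⟨m, f⟩)))
  obtain ⟨n, -, hn, v, hv, f⟩ := h.co normal_top le_top hi h1 (sq i ia ▸ one_mem _)
  obtain ⟨γ, b⟩ := exists_act h.ga.inj hn
  obtain ⟨x, hx⟩ := ij
  obtain rfl : j = i * e x := by rw [hx, mul_inv_cancel_left]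
  have d1 := D v hv (f ▸ ia.trans (isConj_iff.2 ⟨n, rfl⟩))
  have d2 := D (v ^^^ (γ x).1) (Nat.xor_lt_two_pow (n := 10) hv (γ x).2) (ja.trans (isConj_iff.2 ⟨n, by
    rw [← conj_mul, f, b x, bv_xor, bv_val, map_mul, mul_assoc]⟩))
  rw [Nat.and_xor_distrib_right, d1, Nat.zero_xor] at d2
  obtain ⟨l, k⟩ := t3 _ (γ x).2 d2
  have y : γ * g * γ⁻¹ = y0 := ((b.mul a).mul b.inv).uniq h.ga.inj (by
    rw [f]; simpa using h.ga.act_y0.mul (act_E ⟨bv 10 v, rfl⟩))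
  generalize lin [128, 256, 32, 0, 0, 0, 672] (γ x).1 = u at l k
  refine ⟨(γ⁻¹ (bv 10 u)).1, BV.lt _, congrArg (fun t => i * e t) (γ.injective ?_)⟩
  rw [← bv_val (γ x), ← k, bv_xor, bv_xor, ← app, bv_val, bv_val, map_mul, ← cd_y0, ← app_bv _ l, ← y]
  simp

end Fr

end H12.E64
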