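import Cfsg.Agent.Lib.E64.M10

/-! The cocycle (see blueprint/E64/README.md) -/

set_option autoImplicit false

namespace H12.E64

open Subgroup Cfsg H69 H45 Gold
open scoped commutatorElement

/-- the image of a vector under a word -/
def cocW (L : ℕ → List ℕ) : List ℕ → ℕ → ℕ
  | [], v => v
  | i :: w, v => lin (L i) (cocW L w v)

/-- candidates for the generators `2, 3, 5` -/
def cocK (a b i : ℕ) : List ℕ := g9.getD i [] ++ [bif i == 2 then a else bif i == 3 then b else 512]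

/-- a relation on `F` -/
def cocR (u w : List ℕ) : Bool := (u ++ w).all (· < 6) &&
  (List.range 512).all fun v => cocW (g9.getD · []) u v == cocW (g9.getD · []) w v

theorem eqns_coc : True := by
  have := @cocW.eq_1
  have := @cocW.eq_2
  have := @cocW.eq_def
  have := @cocK.eq_1
  have := @cocR.eq_1
  trivial

theorem coc_take : ∀ (k : ℕ) (l : List ℕ) (v : ℕ), v < 2 ^ k → lin (l.take k) v = lin l v
  | 0, l, v, h => by
    obtain rfl : v = 0 := by omega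
    rw [lin_zero, lin_zero]
  | _ + 1, [], _, _ => rfl
  | k + 1, c :: l, v, h => by rw [List.take_succ_cons, lin, lin, coc_take k l (v / 2) (by omega)]

theorem coc_congr {L L' : ℕ → List ℕ} (v : ℕ) : ∀ {u : List ℕ}, (∀ i ∈ u, L i = L' i) → cocW L u v = cocW L' u v
  | [], _ => rfl
  | i :: u, h => by
    rw [cocW, cocW, h i List.mem_cons_self, coc_congr v fun j hj => h j (List.mem_cons_of_mem _ hj)]

theorem coc_lt : ∀ i < 6, ∀ c ∈ g9.getD i [], c < 2 ^ 9 := by decide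

theorem coc_word {Λ : Subgroup (Au 10)} {g : ℕ → Au 10}
    (hg : ∀ i < 6, g i ∈ Λ ∧ (cd (g i)).take 9 = g9.getD i []) : ∀ u : List ℕ, (∀ i ∈ u, i < 6) →
      ∃ k ∈ Λ, (∀ v < 1024, lin (cd k) v = cocW (fun i => cd (g i)) u v) ∧
        ∀ v < 512, lin (cd k) v = cocW (g9.getD · []) u v ∧ lin (cd k) v < 512
  | [], _ => ⟨1, one_mem _, fun v hv => by rw [cd_one, lin_idn hv, cocW], fun v hv => by
      rw [cd_one, lin_idn (by omega), cocW]; exact ⟨rfl, hv⟩⟩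
  | i :: u, h => by
    obtain ⟨k, hk, a, b⟩ := coc_word hg u fun j hj => h j (List.mem_cons_of_mem _ hj)
    have hi := h i List.mem_cons_self
    refine ⟨g i * k, mul_mem (hg i hi).1 hk, fun v hv => by rw [cd_mul, lin_cm, cocW, a v hv], fun v hv => ?_⟩
    rw [cd_mul, lin_cm, cocW, ← coc_take 9 _ _ (b v hv).2, (hg i hi).2, (b v hv).1]
    exact ⟨rfl, lin_lt (coc_lt i hi) _⟩

theorem coc_key {Λ : Subgroup (Au 10)} (hk : ∀ g ∈ Λ, (∀ v < 512, lin (cd g) v = v) → g = 1) {g : ℕ → Au 10}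
    (hg : ∀ i < 6, g i ∈ Λ ∧ (cd (g i)).take 9 = g9.getD i []) (u w : List ℕ) (h : cocR u w = true) :
    cocW (fun i => cd (g i)) u 512 = cocW (fun i => cd (g i)) w 512 := by
  rw [cocR, Bool.and_eq_true, List.all_eq_true, List.all_eq_true] at h
  obtain ⟨k, k1, k2, k3⟩ := coc_word hg u fun i hi => by simpa using h.1 i (List.mem_append_left _ hi)
  obtain ⟨m, m1, m2, m3⟩ := coc_word hg w fun i hi => by simpa using h.1 i (List.mem_append_right _ hi)
  have := hk (m⁻¹ * k) (mul_mem (inv_mem m1) k1) fun v hv => by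
    rw [cd_mul, lin_cm, (k3 v hv).1, beq_iff_eq.1 (h.2 v (List.mem_range.2 hv)), ← (m3 v hv).1, ← lin_cm, ← cd_mul,
      inv_mul_cancel, cd_one, lin_idn (by omega)]
  rw [← k2 512 (by norm_num), ← m2 512 (by norm_num), inv_mul_eq_one.1 this]

theorem coc_b : ((List.range 1024).all fun b => !(cocW (cocK 0 b) [3, 3] 512 == 512 &&
    cocW (cocK 0 b) [3, 5, 5, 3, 5, 5, 3, 5, 5] 512 == 512 && cocW (cocK 0 b) [3, 5, 3, 5, 3, 5, 3, 5] 512 == 512) ||
      [512, 517, 576, 581].contains b) = true := by decide +kernel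

theorem coc_a : ∀ w < 8, ∀ b ∈ [512, 517, 576, 581],
    cocW (cocK (576 ^^^ w) b) [5, 5, 2, 5, 5, 5, 5, 5] 512 =
      cocW (cocK (576 ^^^ w) b) [5, 2, 5, 5, 5, 5, 5, 5, 5, 5, 5, 5, 5, 5, 2, 5] 512 →
    cocW (cocK (576 ^^^ w) b) [3, 5, 2, 5, 5, 5, 5, 5, 5, 3] 512 =
      cocW (cocK (576 ^^^ w) b) [5, 2, 5, 5, 5, 5, 5, 5, 5, 5, 5, 5, 5, 5, 2, 5] 512 →
    ∃ c, [cocW (cocK (576 ^^^ w) b) [5, 2, 5, 5, 5, 5, 5, 5] 512, cocW (cocK (576 ^^^ w) b) [5, 5, 5, 5, 5, 5, 2, 5] 512,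
      576 ^^^ w, b, cocW (cocK (576 ^^^ w) b) [5, 5, 3, 5, 3, 5, 3] 512, 512] = (g10 c).map (·.getD 9 0) := by
  decide +kernel

theorem coc_g10 : ∀ c, ∀ i < 6, (g10 c).getD i [] = g9.getD i [] ++ [((g10 c).map (·.getD 9 0)).getD i 0] ∧
    (g10 c).getD i [] ∈ g10 c ++ [xic] := by decide

set_option linter.unusedVariables false in
theorem coc {Λ : Subgroup (Au 10)} (hF : Λ ≤ St 10 512)
    (hk : ∀ g ∈ Λ, (∀ v < 512, lin (cd g) v = v) → g = 1) (g : ℕ → Au 10)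
    (hg : ∀ i < 6, g i ∈ Λ ∧ (cd (g i)).take 9 = g9.getD i []) (hs : lin (cd (g 5)) 512 = 512)
    (hy : ∃ w < 8, lin (cd (g 2)) 512 = 576 ^^^ w) : ∃ c, ∀ i < 6, g i = mk 10 ((g10 c).getD i []) := by
  obtain ⟨w, hw, hy⟩ := hy
  have hx : ∀ i < 6, cd (g i) = g9.getD i [] ++ [lin (cd (g i)) 512] := fun i hi => by
    have l := cd_length (g i)
    rw [← (hg i hi).2, show 512 = 2 ^ 9 from rfl, lin_two_pow _ 9 (by omega), ← List.take_succ_eq_append_getElem,
      List.take_of_length_le l.le]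
  have key := coc_key hk hg
  have k1 : ∀ a b u, lin (cd (g 3)) 512 = b → (∀ i ∈ u, i = 3 ∨ i = 5 ∨ i = 2 ∧ a = 576 ^^^ w) →
      cocW (fun i => cd (g i)) u 512 = cocW (cocK a b) u 512 := fun a b u hb hu => coc_congr _ fun i hi => by
    rcases hu i hi with rfl | rfl | ⟨rfl, rfl⟩
    · rw [hx 3 (by omega), hb]; rfl
    · rw [hx 5 (by omega), hs]; rfl
    · rw [hx 2 (by omega), hy]; rfl
  obtain ⟨b, hb⟩ : ∃ b, lin (cd (g 3)) 512 = b := ⟨_, rfl⟩
  have b1 : b < 1024 := hb ▸ lin_lt (cd_lt (g 3)) 512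
  have b2 := List.all_eq_true.1 coc_b b (List.mem_range.2 b1)
  rw [← k1 0 b _ hb (by simp), ← k1 0 b _ hb (by simp), ← k1 0 b _ hb (by simp), key _ [] (by decide +kernel),
    key [3, 5, 5, 3, 5, 5, 3, 5, 5] [] (by decide +kernel), key [3, 5, 3, 5, 3, 5, 3, 5] [] (by decide +kernel)] at b2
  have b3 : b ∈ [512, 517, 576, 581] := by simpa [cocW] using b2
  obtain ⟨c, hc⟩ := coc_a w hw b b3
    (by rw [← k1 _ b _ hb (by simp), ← k1 _ b _ hb (by simp)]; exact key _ _ (by decide +kernel))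
    (by rw [← k1 _ b _ hb (by simp), ← k1 _ b _ hb (by simp)]; exact key _ _ (by decide +kernel))
  rw [← k1 _ b _ hb (by simp), ← k1 _ b _ hb (by simp), ← k1 _ b _ hb (by simp),
    ← key [0] [5, 2, 5, 5, 5, 5, 5, 5] (by decide +kernel), ← key [1] [5, 5, 5, 5, 5, 5, 2, 5] (by decide +kernel),
    ← key [4] [5, 5, 3, 5, 3, 5, 3] (by decide +kernel), ← hy, ← hb] at hc
  refine ⟨c, fun i hi => ?_⟩
  rw [cd_eq_iff, cd_g10 c _ (coc_g10 c i hi).2, (coc_g10 c i hi).1, ← hc, hx i hi]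
  interval_cases i
  any_goals rfl
  rw [hs]
  rfl

end H12.E64
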