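import Cfsg.Agent.Lib.E64.SQ
import Cfsg.Agent.Lib.Core.HallSZ

/-! The centraliser of `Q / Z` and of the unitary group (see blueprint/E64/README.md) -/

set_option autoImplicit false

namespace H12.E64

open Subgroup Cfsg H69 H45 Gold
open scoped commutatorElement

variable {G : Type*} [Group G] [Finite G] {c : Fr G} {e : BV 10 →* G} {S : Subgroup G}

theorem cx_lin {n : ℕ} {U : Subgroup (BV n)} : ∀ {l : List ℕ}, (∀ p ∈ l, bv n p ∈ U) → ∀ x, bv n (lin l x) ∈ U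
  | [], _, _ => by rw [lin, bv_zero]; exact one_mem _
  | p :: l, h, x => by
    rw [lin, bv_xor]
    refine mul_mem ?_ (cx_lin (fun q hq => h q (List.mem_cons_of_mem _ hq)) _)
    rcases Nat.mod_two_eq_zero_or_one x with k | k <;> rw [k]
    · rw [zero_mul, bv_zero]; exact one_mem _
    · rw [one_mul]; exact h p List.mem_cons_self

theorem cx_span {U : Subgroup (BV 10)} (h : ∀ p ∈ Om, bv 10 p ∈ U) (v : BV 10) : v ∈ U := by
  have := cx_lin (U := U) (l := [8, 9, 16, 18, 88, 32, 36, 168, 304, 512])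
    (fun p hp => h p (by revert p; decide)) (lin [3, 12, 96, 1, 4, 32, 21, 161, 292, 512] v.1)
  rwa [← lin_cm, show cm _ _ = idn 10 by decide +kernel, lin_idn v.lt, bv_val] at this

omit [Finite G] in
theorem cx_odd {g x : G} (ho : Odd (orderOf g)) (h : g * g * x = x * (g * g)) : g * x = x * g := by
  obtain ⟨k, hk⟩ := ho
  have e : g = (g * g) ^ (k + 1) := by
    rw [← pow_two, ← pow_mul, show 2 * (k + 1) = 2 * k + 1 + 1 by ring, pow_succ, ← hk, pow_orderOf_eq_one,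
      one_mul]
  rw [e]
  exact (Commute.pow_left h _).eq

namespace Fr

theorem cx_five (h : c.Cg e S) : c.q 5 = e (bv 10 3) := by
  have f : ∀ v < 512, ff v ∈ T0 := fun v hv => R0_T (F0_R (ff_mem hv))
  have m : q0 5 ∈ T0 := (mul_mem_cancel_right (f 1 (by norm_num))).1 (by rw [← ff_two]; exact f 2 (by norm_num))
  have e1 : c.fl 2 = c.q 5 * c.fl 1 := by
    rw [c.fl_eq (by norm_num), c.fl_eq (by norm_num), ff_two,
      c.ι_mul _ m _ (f 1 (by norm_num)), q]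
  rw [h.ga.ef 3 (by norm_num), show (3 : ℕ) = 2 ^^^ 1 from rfl, c.fl_xor, e1, mul_assoc, ← c.fl_xor,
    show (1 : ℕ) ^^^ 1 = 0 from rfl, fl, bv_zero, map_one, mul_one]

theorem cx_aq {g : G} (hg : g ∈ 𝐂(c.Q)) : c.AQ g 1 :=
  (aq_one_iff (centralizer_le_normalizer _ hg)).2 fun x hx => by
    rw [commutatorElement_eq_one_iff_mul_comm.2 (hg x hx)]; exact one_mem _

theorem cx_cQ (h : c.Cg e S) : 𝐂(c.Q) ≤ c.Q ⊔ Od 𝐂(c.Q) := by
  haveI : Fact (Nat.Prime 2) := ⟨Nat.prime_two⟩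
  have s := h.syl.inf_of_le_normalizer le_top (le_normalizer_centralizer h.S_nQ)
  have l : S ⊓ 𝐂(c.Q) ≤ c.Q := fun x hx => h.aq_S hx.1 (cx_aq hx.2)
  have z : 𝐂(c.Q) ≤ 𝐂(S ⊓ 𝐂(c.Q)) := centralizer_le l
  obtain ⟨K, k1, k2, -, k3⟩ := H3.exists_complement_in s.le (z.trans (centralizer_le_normalizer _))
    (by
      obtain ⟨k, hk⟩ := s.isP.exists_card_eq
      rw [hk]
      exact ((Nat.prime_two.coprime_iff_not_dvd).2 s.not_dvd_relIndex).pow_left k)
  exact k2.ge.trans (sup_le_sup l (le_Od k1 (fun d => s.not_dvd_relIndex (k3 ▸ d)) (k2.ge.trans (sup_le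
    ((le_centralizer_iff.1 (k1.trans z)).trans (centralizer_le_normalizer _)) le_normalizer))))

theorem cx_sq {z : G} (hz : z ∈ c.Z) : z * z = 1 := by
  simpa [q, q0_zero, c.ι_one, show q8 0 = false from rfl] using q_sq (v := 0) (by norm_num) hz

/-- the square of an element normalising `Q` centralises `Z` -/
theorem cx_Z {g : G} (hg : g ∈ 𝐍(c.Q)) : g * g ∈ 𝐂(c.Z) := by
  obtain ⟨n, a⟩ := nQ_Z hg
  refine mem_cZ.2 ⟨by rw [mul_assoc, a, ← mul_assoc, a, mul_assoc], mul_inv_eq_iff_eq_mul.1 ?_⟩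
  rw [show g * g * c.d * (g * g)⁻¹ = g * (g * c.d * g⁻¹) * g⁻¹ by group]
  rcases nZ_a n a with k | k
  · rw [k, k]
  · rw [k, ← conj_mul, k, a, mul_inv_cancel_right, mul_assoc, a_sq.1, mul_one]

theorem Cg.cV (h : c.Cg e S) {g : G} (a : c.AQ g 1) : g ∈ c.Q ⊔ Od 𝐂(c.Q) := by
  haveI : Fact (Nat.Prime 2) := ⟨Nat.prime_two⟩
  let C : Subgroup G := sg (fun x => c.AQ x 1) (aq_Q (one_mem _)) fun _ _ a b => one_mul (1 : Au 8) ▸ a.mul b
  obtain ⟨u, hu, w, hw, ou, tw, rfl⟩ := exists_parts g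
  have au : c.AQ u 1 := (zpowers_le.2 a : _ ≤ C) hu
  have aw : c.AQ w 1 := (zpowers_le.2 a : _ ≤ C) hw
  refine mul_mem (cx_cQ h fun x hx => (cx_odd ou ?_).symm) (mem_sup_left ?_)
  · have uZ : u ∈ 𝐂(c.Z) := fun z hz => (cx_odd ou (cx_Z au.1 z hz).symm).symm
    have m := inv_mem ((aq_one_iff au.1).1 au x hx)
    rw [commutatorElement_inv, commutatorElement_def] at m
    have e1 := cx_sq m
    have e2 := uZ _ m
    generalize hy : u * x * u⁻¹ * x⁻¹ = y at e1 e2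
    have e3 : u * x = y * x * u := by rw [← hy]; group
    calc u * u * x = u * y * x * u := by rw [mul_assoc, e3]; group
      _ = y * (u * x) * u := by rw [← e2]; group
      _ = y * y * x * (u * u) := by rw [e3]; group
      _ = _ := by rw [e1, one_mul]
  · obtain ⟨k, hk, le⟩ := (h.syl.mono h.S_nQ le_top).exists_cj_le tw.isPGroup (zpowers_le.2 aw.1)
    obtain ⟨μ, b⟩ := exists_aq hk
    have := h.aq_S (le (mem_cj'.2 ⟨w, mem_zpowers w, rfl⟩)) (by simpa using (b.mul aw).mul b.inv)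
    exact (mem_normalizer_iff.1 hk w).2 this

theorem Cg.cent (h : c.Cg e S) {μ : Au 8} (hμ : μ ∈ c.AutQ ⊤) (hc : ∀ k ∈ K8, μ * k = k * μ) : μ = 1 := by
  by_contra h1
  obtain ⟨w, -, a⟩ := mem_autQ.1 hμ
  let K : Subgroup G := sg (fun x => ∃ ν ∈ K8, c.AQ x ν) ⟨1, one_mem _, aq_Q (one_mem _)⟩
    fun _ _ ⟨ν, m, a⟩ ⟨ν', m', b⟩ => ⟨_, mul_mem m m', a.mul b⟩
  have QK : c.Q ≤ K := fun x hx => ⟨1, one_mem _, aq_Q hx⟩
  have EK : ∀ v, e v ∈ K := cx_span (U := K.comap e) fun p hp => by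
    by_cases h8 : p = 8
    · exact QK ((h.e_Q (by omega)).2 (by rw [h8]; rfl))
    by_cases h9 : p = 9
    · exact QK ((h.e_Q (by omega)).2 (by rw [h9]; rfl))
    exact ⟨_, ta_mem (h.aq_pt hp h8 h9).1, (h.aq_pt hp h8 h9).2⟩
  have tr : ∀ {w μ}, c.AQ w μ → (∀ k ∈ K8, μ * k = k * μ) → ∀ y ∈ K, c.AQ (w * y * w⁻¹ * y⁻¹) 1 := by
    rintro w μ a hc y ⟨ν, m, b⟩
    have := ((a.mul b).mul a.inv).mul b.inv
    rwa [hc ν m, mul_inv_cancel_right, mul_inv_cancel] at this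
  have YS : e.range ⊔ c.Q ≤ S := sup_le h.ES (Q_T.trans h.TS)
  obtain ⟨n, hn, m⟩ := H2.exists_mul_mem_normalizer (A := e.range ⊔ c.Q) (N := Od 𝐂(c.Q)) (g := w)
    ((YS.trans (le_normalizer_centralizer h.S_nQ)).trans (norm_Od _))
    ((Od_odd _).coprime (h.syl.isP.to_le YS)) (Or.inl (solv2 (h.syl.isP.to_le YS))) fun y hy => by
      have := h.cV (tr a.inv (fun k hk => (Commute.inv_left (hc k hk)).eq) y
        (sup_le (by rintro _ ⟨v, rfl⟩; exact EK v) QK hy))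
      have := mul_mem ((sup_le (le_sup_right.trans le_sup_right) le_sup_left :
        _ ≤ Od 𝐂(c.Q) ⊔ (e.range ⊔ c.Q)) this) (mem_sup_right hy)
      simpa using this
  have b := a.mul (cx_aq (Od_le _ hn))
  rw [mul_one] at b
  generalize w * n = u at m b
  obtain ⟨g, t⟩ := exists_act h.ga.inj (h.wc u ((cj_le_of_mem_normalizer le_sup_left m).trans YS))
  have t2 := t.mul t
  have b2 := b.mul b
  have z2 := cx_Z b.1
  generalize u * u = y at t2 b2 z2
  generalize g * g = γ at t2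
  have fx : ∀ v < 1024, e (bv 10 v) ∈ c.Z → lin (cd γ) v = v := fun v hv m => by
    have := t2.bv hv
    rw [← z2 _ m, mul_inv_cancel_right] at this
    exact ((bv_eq hv (lin_lt (cd_lt γ) v)).1 (h.ga.inj this)).symm
  have hx := hexad (g := γ) (fun p hp => ((om_inv (h.pX γ (mem_autG.2 ⟨y, mem_top y, t2⟩))).2 p
      (by revert p; decide)).2 hp)
    (fx 8 (by norm_num) ((h.e_Z (by norm_num)).2 (by simp))) (fx 9 (by norm_num) ((h.e_Z (by norm_num)).2 (by simp)))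
    fun v hv => h.aq_E (Nat.xor_lt_two_pow (n := 10) (lin_lt (cd_lt γ) v) hv) (by
      have := tr b2 (fun k hk => (Commute.mul_left (hc k hk) (hc k hk)).eq) _ (EK (bv 10 v))
      rwa [t2.bv hv, ← map_inv, bv_inv, ← map_mul, ← bv_xor] at this)
  obtain ⟨z, hz, e1⟩ := b2.app (v := 5) (by norm_num)
  have e2 : lin (cd γ) 3 ^^^ 3 ∈ [0, 1, 8, 9] := by
    rw [show (3 : ℕ) = 2 ^^^ 1 from rfl, lin_xor, fx 1 (by norm_num) ((h.e_Z (by norm_num)).2 (by simp)),
      show ∀ x : ℕ, x ^^^ 1 ^^^ (2 ^^^ 1) = x ^^^ 2 from fun x => by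
        rw [Nat.xor_comm 2, Nat.xor_assoc, ← Nat.xor_assoc 1, Nat.xor_self, Nat.zero_xor]]
    simp only [List.mem_cons] at hx ⊢
    tauto
  have e3 := (h.e_Z (Nat.xor_lt_two_pow (n := 10) (lin_lt (cd_lt γ) 3) (by norm_num))).2 e2
  rw [bv_xor, mul_comm, ← bv_inv (bv 10 3), map_mul, map_inv, ← t2.bv (by norm_num), ← cx_five h, e1,
    ← mul_assoc] at e3
  have e4 := q_inj (by norm_num) (lin_lt (cd_lt _) 5) ((mul_mem_cancel_right hz).1 e3)
  rw [cd_mul] at e4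
  rcases cent8 hc with k | k | k
  · exact h1 k
  all_goals rw [k] at e4; exact absurd e4 (by decide +kernel)

end Fr

end H12.E64
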