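import Cfsg.Agent.Lib.E64.BV
import Cfsg.Agent.Lib.Gold.Basic

/-! The configuration `2⁶ : Sp₆(2)`: models and structures (see blueprint/E64/README.md). -/

set_option autoImplicit false

namespace H12.E64

open Subgroup H69 Gold

/-- the subgroup generated by coded automorphisms -/
def cl (n : ℕ) (s : List (List ℕ)) : Subgroup (Au n) := closure {x | ∃ l ∈ s, x = mk n l}

/-- the automorphisms preserving the codes below `k` -/
def St (n k : ℕ) : Subgroup (Au n) := sg (fun g => ∀ x < k, lin (cd g) x < k ∨ 2 ^ n ≤ x)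
  (fun x hx => (lt_or_ge x (2 ^ n)).imp_left fun h => by rwa [cd_one, lin_idn h])
  fun a b ha hb x hx => (lt_or_ge x (2 ^ n)).imp_left fun h => by
    rw [cd_mul, lin_cm]
    exact (ha _ ((hb x hx).resolve_right h.not_ge)).resolve_right (lin_lt (cd_lt b) x).not_ge

/-- the automorphisms fixing the vectors with codes in `l` -/
def Fx (n : ℕ) (l : List ℕ) : Subgroup (Au n) := sg (fun g => ∀ x ∈ l, g (bv n x) = bv n x)
  (fun _ _ => rfl) fun a b ha hb x hx => by rw [MulAut.mul_apply, hb x hx, ha x hx]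

/-! ### the affine symplectic group on `BV 7` -/

/-- the symplectic form: bits `0, 1, 2` are `e₁, e₂, e₃`, bits `3, 4, 5` are `f₁, f₂, f₃` -/
def om (x y : ℕ) : Bool := Nat.testBit 0x6996966996696996 (x &&& (y / 8 + y % 8 * 8))

/-- `2⁶ : Sp₆(2)` -/
def M0 : Subgroup (Au 7) :=
  sg (fun g => (∀ x < 64, lin (cd g) x < 64) ∧ ∀ x < 64, ∀ y < 64, om (lin (cd g) x) (lin (cd g) y) = om x y)
    ⟨fun x hx => by rwa [cd_one, lin_idn (by omega)],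
      fun x hx y hy => by rw [cd_one, lin_idn (by omega), lin_idn (by omega)]⟩
    fun a b ha hb => ⟨fun x hx => by rw [cd_mul, lin_cm]; exact ha.1 _ (hb.1 x hx), fun x hx y hy => by
      rw [cd_mul, lin_cm, lin_cm, ha.2 _ (hb.1 x hx) _ (hb.1 y hy), hb.2 x hx y hy]⟩

def tauc (v : ℕ) : List ℕ := [1, 2, 4, 8, 16, 32, 64 ^^^ v]
/-- the translation by `v < 64` -/
noncomputable def tau (v : ℕ) : Au 7 := mk 7 (tauc v)
/-- bits of `v`: `w₁ w₂ w₃ d₁ d₂ d₃ a₁₂ a₁₃ a₂₃` -/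
def ffc (v : ℕ) : List ℕ := [1, 2, 4, 8 ^^^ lin [0, 0, 0, 1, 0, 0, 2, 4] v, 16 ^^^ lin [0, 0, 0, 0, 2, 0, 1, 0, 4] v,
  32 ^^^ lin [0, 0, 0, 0, 0, 4, 0, 1, 2] v, 64 ^^^ lin [1, 2, 4] v]
/-- the element of `F₀ = W × U` with code `v < 512` -/
noncomputable def ff (v : ℕ) : Au 7 := mk 7 (ffc v)
/-- the cross product -/
def cr (a b : ℕ) : ℕ := lin [lin [0, 4, 2] b, lin [4, 0, 1] b, lin [2, 1] b] a
def lvc : List ℕ → List ℕ
  | [a, b, c] => [a, b, c, 8 * cr b c, 8 * cr c a, 8 * cr a b, 64]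
  | _ => []
/-- the Levi element with columns `s` on `W` -/
noncomputable def lv (s : List ℕ) : Au 7 := mk 7 (lvc s)
def tvc (w : ℕ) : List ℕ := ([1, 2, 4, 8, 16, 32].map fun x => bif om x w then x ^^^ w else x) ++ [64]
/-- the transvection with centre `w < 64` -/
noncomputable def tv (w : ℕ) : Au 7 := mk 7 (tvc w)
/-- the alternating matrix `δ(y)`, as a code in `F₀` -/
def dl (y : ℕ) : ℕ := lin [256, 128, 64] y

theorem cd_tau : ∀ v < 64, cd (tau v) = tauc v := fun v hv =>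
  cd_mk (tauc v) ((by decide +kernel : ∀ v < 64, ok 7 (tauc v) (tauc v) = true) v hv)
theorem cd_ff : ∀ v < 512, cd (ff v) = ffc v := fun v hv =>
  cd_mk (ffc v) ((by decide +kernel : ∀ v < 512, ok 7 (ffc v) (ffc v) = true) v hv)
theorem cd_tv : ∀ v < 64, cd (tv v) = tvc v := fun v hv =>
  cd_mk (tvc v) ((by decide +kernel : ∀ v < 64, ok 7 (tvc v) (tvc v) = true) v hv)

theorem tau_mul {v w : ℕ} (hv : v < 64) (hw : w < 64) : tau (v ^^^ w) = tau v * tau w := by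
  rw [cd_eq_iff, cd_mul, cd_tau v hv, cd_tau w hw, cd_tau _ (Nat.xor_lt_two_pow (n := 6) hv hw)]
  exact (by decide +kernel : ∀ v < 64, ∀ w < 64, tauc (v ^^^ w) = cm (tauc v) (tauc w)) v hv w hw

theorem ff_mul {v w : ℕ} (hv : v < 512) (hw : w < 512) : ff (v ^^^ w) = ff v * ff w := by
  rw [cd_eq_iff, cd_mul, cd_ff v hv, cd_ff w hw, cd_ff _ (Nat.xor_lt_two_pow (n := 9) hv hw)]
  have h1 : ∀ v < 512, ∀ p < 8, lin (ffc v) p = p := by decide +kernel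
  have h2 : ∀ v < 512, [lin (ffc v) 8, lin (ffc v) 16, lin (ffc v) 32, lin (ffc v) 64] = (ffc v).drop 3 := by
    decide +kernel
  have h3 := h2 v hv
  have b : ∀ l : List ℕ, (∀ c ∈ l, c < 2 ^ 3) → lin (ffc v) (lin l w) = lin l w := fun l hl =>
    h1 v hv _ (lin_lt hl w)
  simp only [ffc, List.drop, List.cons.injEq, and_true] at h3
  rw [cm, ffc, ffc.eq_1 w]
  simp only [List.map, lin_xor, h1 v hv 1 (by omega), h1 v hv 2 (by omega), h1 v hv 4 (by omega)]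
  rw [b _ (by decide), b _ (by decide), b _ (by decide), b _ (by decide)]
  simp only [ffc, h3, Nat.xor_assoc]

noncomputable def tauh : BV 6 →* Au 7 := MonoidHom.mk' (fun v => tau v.1) fun v w => tau_mul v.2 w.2
noncomputable def ffh : BV 9 →* Au 7 := MonoidHom.mk' (fun v => ff v.1) fun v w => ff_mul v.2 w.2

noncomputable def A0 : Subgroup (Au 7) := tauh.range
noncomputable def F0 : Subgroup (Au 7) := ffh.range
def P0 : Subgroup (Au 7) := M0 ⊓ St 7 8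
def T0 : Subgroup (Au 7) := P0 ⊓ (St 7 2 ⊓ St 7 4)
def R0 : Subgroup (Au 7) := M0 ⊓ Fx 7 [1, 2, 4]

/-- `GL₃(2)` by columns; the first eight are unitriangular -/
def gl3 : List (List ℕ) :=
  [[1, 2, 4], [1, 2, 5], [1, 2, 6], [1, 2, 7], [1, 3, 4], [1, 3, 5], [1, 3, 6], [1, 3, 7], [1, 4, 2], [1, 4, 3],
  [1, 4, 6], [1, 4, 7], [1, 5, 2], [1, 5, 3], [1, 5, 6], [1, 5, 7], [1, 6, 2], [1, 6, 3], [1, 6, 4], [1, 6, 5],
  [1, 7, 2], [1, 7, 3], [1, 7, 4], [1, 7, 5], [2, 1, 4], [2, 1, 5], [2, 1, 6], [2, 1, 7], [2, 3, 4], [2, 3, 5],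
  [2, 3, 6], [2, 3, 7], [2, 4, 1], [2, 4, 3], [2, 4, 5], [2, 4, 7], [2, 5, 1], [2, 5, 3], [2, 5, 4], [2, 5, 6],
  [2, 6, 1], [2, 6, 3], [2, 6, 5], [2, 6, 7], [2, 7, 1], [2, 7, 3], [2, 7, 4], [2, 7, 6], [3, 1, 4], [3, 1, 5],
  [3, 1, 6], [3, 1, 7], [3, 2, 4], [3, 2, 5], [3, 2, 6], [3, 2, 7], [3, 4, 1], [3, 4, 2], [3, 4, 5], [3, 4, 6],
  [3, 5, 1], [3, 5, 2], [3, 5, 4], [3, 5, 7], [3, 6, 1], [3, 6, 2], [3, 6, 4], [3, 6, 7], [3, 7, 1], [3, 7, 2],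
  [3, 7, 5], [3, 7, 6], [4, 1, 2], [4, 1, 3], [4, 1, 6], [4, 1, 7], [4, 2, 1], [4, 2, 3], [4, 2, 5], [4, 2, 7],
  [4, 3, 1], [4, 3, 2], [4, 3, 5], [4, 3, 6], [4, 5, 2], [4, 5, 3], [4, 5, 6], [4, 5, 7], [4, 6, 1], [4, 6, 3],
  [4, 6, 5], [4, 6, 7], [4, 7, 1], [4, 7, 2], [4, 7, 5], [4, 7, 6], [5, 1, 2], [5, 1, 3], [5, 1, 6], [5, 1, 7],
  [5, 2, 1], [5, 2, 3], [5, 2, 4], [5, 2, 6], [5, 3, 1], [5, 3, 2], [5, 3, 4], [5, 3, 7], [5, 4, 2], [5, 4, 3],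
  [5, 4, 6], [5, 4, 7], [5, 6, 1], [5, 6, 2], [5, 6, 4], [5, 6, 7], [5, 7, 1], [5, 7, 3], [5, 7, 4], [5, 7, 6],
  [6, 1, 2], [6, 1, 3], [6, 1, 4], [6, 1, 5], [6, 2, 1], [6, 2, 3], [6, 2, 5], [6, 2, 7], [6, 3, 1], [6, 3, 2],
  [6, 3, 4], [6, 3, 7], [6, 4, 1], [6, 4, 3], [6, 4, 5], [6, 4, 7], [6, 5, 1], [6, 5, 2], [6, 5, 4], [6, 5, 7],
  [6, 7, 2], [6, 7, 3], [6, 7, 4], [6, 7, 5], [7, 1, 2], [7, 1, 3], [7, 1, 4], [7, 1, 5], [7, 2, 1], [7, 2, 3],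
  [7, 2, 4], [7, 2, 6], [7, 3, 1], [7, 3, 2], [7, 3, 5], [7, 3, 6], [7, 4, 1], [7, 4, 2], [7, 4, 5], [7, 4, 6],
  [7, 5, 1], [7, 5, 3], [7, 5, 4], [7, 5, 6], [7, 6, 2], [7, 6, 3], [7, 6, 4], [7, 6, 5]]
/-- `τ f₁, τ f₂, τ f₃, l₁, l₂, σ` -/
def gM : List (List ℕ) :=
  [[1, 2, 4, 8, 16, 32, 72], [1, 2, 4, 8, 16, 32, 80], [1, 2, 4, 8, 16, 32, 96], [1, 3, 4, 24, 16, 32, 64], [1,
  2, 6, 8, 48, 32, 64], [2, 4, 3, 24, 32, 8, 64]]

/-! ### the actions on `F = BV 9` and `E = BV 10` -/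

/-- the action of `gM` on `F₀` -/
def g9 : List (List ℕ) :=
  [[1, 2, 4, 9, 16, 32, 66, 132, 256], [1, 2, 4, 8, 18, 32, 65, 128, 260], [1, 2, 4, 8, 16, 36, 64, 129, 258],
  [1, 3, 4, 8, 88, 32, 64, 128, 384], [1, 2, 6, 8, 16, 304, 64, 192, 256], [2, 4, 3, 16, 32, 88, 256, 64, 384]]
/-- the map `f ↦ f · diag f` -/
def xb : List ℕ := [1, 2, 4, 9, 18, 36, 64, 128, 256]
def xl (b : Bool) : List (List ℕ) := bif b then [xb] else []
def G9 (b : Bool) : Subgroup (Au 9) := cl 9 (g9 ++ xl b)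
def T9 (b : Bool) : Subgroup (Au 9) := cl 9 (g9.take 5 ++ xl b)
def A9 : Subgroup (Au 9) := cl 9 (g9.take 3)
/-- the action of `τ (8 y)` -/
def y9 : List (List ℕ) :=
  [[1, 2, 4, 8, 16, 32, 64, 128, 256], [1, 2, 4, 9, 16, 32, 66, 132, 256], [1, 2, 4, 8, 18, 32, 65, 128, 260],
  [1, 2, 4, 9, 18, 32, 67, 132, 260], [1, 2, 4, 8, 16, 36, 64, 129, 258], [1, 2, 4, 9, 16, 36, 66, 133, 258],
  [1, 2, 4, 8, 18, 36, 65, 129, 262], [1, 2, 4, 9, 18, 36, 67, 133, 262]]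
/-- the action of `lv s`, `s ∈ gl3` -/
def tab9 : List (List ℕ) :=
  [[1, 2, 4, 8, 16, 32, 64, 128, 256], [1, 2, 5, 8, 16, 168, 64, 128, 320], [1, 2, 6, 8, 16, 304, 64, 192, 256],
  [1, 2, 7, 8, 16, 504, 64, 192, 320], [1, 3, 4, 8, 88, 32, 64, 128, 384], [1, 3, 5, 8, 88, 168, 64, 128, 448],
  [1, 3, 6, 8, 88, 304, 64, 192, 448], [1, 3, 7, 8, 88, 504, 64, 192, 384], [1, 4, 2, 8, 32, 16, 128, 64, 256],
  [1, 4, 3, 8, 32, 88, 128, 64, 384], [1, 4, 6, 8, 32, 304, 128, 192, 256], [1, 4, 7, 8, 32, 504, 128, 192,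
  384], [1, 5, 2, 8, 168, 16, 128, 64, 320], [1, 5, 3, 8, 168, 88, 128, 64, 448], [1, 5, 6, 8, 168, 304, 128,
  192, 448], [1, 5, 7, 8, 168, 504, 128, 192, 320], [1, 6, 2, 8, 304, 16, 192, 64, 256], [1, 6, 3, 8, 304, 88,
  192, 64, 448], [1, 6, 4, 8, 304, 32, 192, 128, 256], [1, 6, 5, 8, 304, 168, 192, 128, 448], [1, 7, 2, 8, 504,
  16, 192, 64, 320], [1, 7, 3, 8, 504, 88, 192, 64, 384], [1, 7, 4, 8, 504, 32, 192, 128, 384], [1, 7, 5, 8,
  504, 168, 192, 128, 320], [2, 1, 4, 16, 8, 32, 64, 256, 128], [2, 1, 5, 16, 8, 168, 64, 320, 128], [2, 1, 6,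
  16, 8, 304, 64, 256, 192], [2, 1, 7, 16, 8, 504, 64, 320, 192], [2, 3, 4, 16, 88, 32, 64, 256, 384], [2, 3, 5,
  16, 88, 168, 64, 320, 448], [2, 3, 6, 16, 88, 304, 64, 256, 448], [2, 3, 7, 16, 88, 504, 64, 320, 384], [2, 4,
  1, 16, 32, 8, 256, 64, 128], [2, 4, 3, 16, 32, 88, 256, 64, 384], [2, 4, 5, 16, 32, 168, 256, 320, 128], [2,
  4, 7, 16, 32, 504, 256, 320, 384], [2, 5, 1, 16, 168, 8, 320, 64, 128], [2, 5, 3, 16, 168, 88, 320, 64, 448],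
  [2, 5, 4, 16, 168, 32, 320, 256, 128], [2, 5, 6, 16, 168, 304, 320, 256, 448], [2, 6, 1, 16, 304, 8, 256, 64,
  192], [2, 6, 3, 16, 304, 88, 256, 64, 448], [2, 6, 5, 16, 304, 168, 256, 320, 448], [2, 6, 7, 16, 304, 504,
  256, 320, 192], [2, 7, 1, 16, 504, 8, 320, 64, 192], [2, 7, 3, 16, 504, 88, 320, 64, 384], [2, 7, 4, 16, 504,
  32, 320, 256, 384], [2, 7, 6, 16, 504, 304, 320, 256, 192], [3, 1, 4, 88, 8, 32, 64, 384, 128], [3, 1, 5, 88,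
  8, 168, 64, 448, 128], [3, 1, 6, 88, 8, 304, 64, 448, 192], [3, 1, 7, 88, 8, 504, 64, 384, 192], [3, 2, 4, 88,
  16, 32, 64, 384, 256], [3, 2, 5, 88, 16, 168, 64, 448, 320], [3, 2, 6, 88, 16, 304, 64, 448, 256], [3, 2, 7,
  88, 16, 504, 64, 384, 320], [3, 4, 1, 88, 32, 8, 384, 64, 128], [3, 4, 2, 88, 32, 16, 384, 64, 256], [3, 4, 5,
  88, 32, 168, 384, 448, 128], [3, 4, 6, 88, 32, 304, 384, 448, 256], [3, 5, 1, 88, 168, 8, 448, 64, 128], [3,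
  5, 2, 88, 168, 16, 448, 64, 320], [3, 5, 4, 88, 168, 32, 448, 384, 128], [3, 5, 7, 88, 168, 504, 448, 384,
  320], [3, 6, 1, 88, 304, 8, 448, 64, 192], [3, 6, 2, 88, 304, 16, 448, 64, 256], [3, 6, 4, 88, 304, 32, 448,
  384, 256], [3, 6, 7, 88, 304, 504, 448, 384, 192], [3, 7, 1, 88, 504, 8, 384, 64, 192], [3, 7, 2, 88, 504, 16,
  384, 64, 320], [3, 7, 5, 88, 504, 168, 384, 448, 320], [3, 7, 6, 88, 504, 304, 384, 448, 192], [4, 1, 2, 32,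
  8, 16, 128, 256, 64], [4, 1, 3, 32, 8, 88, 128, 384, 64], [4, 1, 6, 32, 8, 304, 128, 256, 192], [4, 1, 7, 32,
  8, 504, 128, 384, 192], [4, 2, 1, 32, 16, 8, 256, 128, 64], [4, 2, 3, 32, 16, 88, 256, 384, 64], [4, 2, 5, 32,
  16, 168, 256, 128, 320], [4, 2, 7, 32, 16, 504, 256, 384, 320], [4, 3, 1, 32, 88, 8, 384, 128, 64], [4, 3, 2,
  32, 88, 16, 384, 256, 64], [4, 3, 5, 32, 88, 168, 384, 128, 448], [4, 3, 6, 32, 88, 304, 384, 256, 448], [4,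
  5, 2, 32, 168, 16, 128, 256, 320], [4, 5, 3, 32, 168, 88, 128, 384, 448], [4, 5, 6, 32, 168, 304, 128, 256,
  448], [4, 5, 7, 32, 168, 504, 128, 384, 320], [4, 6, 1, 32, 304, 8, 256, 128, 192], [4, 6, 3, 32, 304, 88,
  256, 384, 448], [4, 6, 5, 32, 304, 168, 256, 128, 448], [4, 6, 7, 32, 304, 504, 256, 384, 192], [4, 7, 1, 32,
  504, 8, 384, 128, 192], [4, 7, 2, 32, 504, 16, 384, 256, 320], [4, 7, 5, 32, 504, 168, 384, 128, 320], [4, 7,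
  6, 32, 504, 304, 384, 256, 192], [5, 1, 2, 168, 8, 16, 128, 320, 64], [5, 1, 3, 168, 8, 88, 128, 448, 64], [5,
  1, 6, 168, 8, 304, 128, 448, 192], [5, 1, 7, 168, 8, 504, 128, 320, 192], [5, 2, 1, 168, 16, 8, 320, 128, 64],
  [5, 2, 3, 168, 16, 88, 320, 448, 64], [5, 2, 4, 168, 16, 32, 320, 128, 256], [5, 2, 6, 168, 16, 304, 320, 448,
  256], [5, 3, 1, 168, 88, 8, 448, 128, 64], [5, 3, 2, 168, 88, 16, 448, 320, 64], [5, 3, 4, 168, 88, 32, 448,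
  128, 384], [5, 3, 7, 168, 88, 504, 448, 320, 384], [5, 4, 2, 168, 32, 16, 128, 320, 256], [5, 4, 3, 168, 32,
  88, 128, 448, 384], [5, 4, 6, 168, 32, 304, 128, 448, 256], [5, 4, 7, 168, 32, 504, 128, 320, 384], [5, 6, 1,
  168, 304, 8, 448, 128, 192], [5, 6, 2, 168, 304, 16, 448, 320, 256], [5, 6, 4, 168, 304, 32, 448, 128, 256],
  [5, 6, 7, 168, 304, 504, 448, 320, 192], [5, 7, 1, 168, 504, 8, 320, 128, 192], [5, 7, 3, 168, 504, 88, 320,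
  448, 384], [5, 7, 4, 168, 504, 32, 320, 128, 384], [5, 7, 6, 168, 504, 304, 320, 448, 192], [6, 1, 2, 304, 8,
  16, 192, 256, 64], [6, 1, 3, 304, 8, 88, 192, 448, 64], [6, 1, 4, 304, 8, 32, 192, 256, 128], [6, 1, 5, 304,
  8, 168, 192, 448, 128], [6, 2, 1, 304, 16, 8, 256, 192, 64], [6, 2, 3, 304, 16, 88, 256, 448, 64], [6, 2, 5,
  304, 16, 168, 256, 448, 320], [6, 2, 7, 304, 16, 504, 256, 192, 320], [6, 3, 1, 304, 88, 8, 448, 192, 64], [6,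
  3, 2, 304, 88, 16, 448, 256, 64], [6, 3, 4, 304, 88, 32, 448, 256, 384], [6, 3, 7, 304, 88, 504, 448, 192,
  384], [6, 4, 1, 304, 32, 8, 256, 192, 128], [6, 4, 3, 304, 32, 88, 256, 448, 384], [6, 4, 5, 304, 32, 168,
  256, 448, 128], [6, 4, 7, 304, 32, 504, 256, 192, 384], [6, 5, 1, 304, 168, 8, 448, 192, 128], [6, 5, 2, 304,
  168, 16, 448, 256, 320], [6, 5, 4, 304, 168, 32, 448, 256, 128], [6, 5, 7, 304, 168, 504, 448, 192, 320], [6,
  7, 2, 304, 504, 16, 192, 256, 320], [6, 7, 3, 304, 504, 88, 192, 448, 384], [6, 7, 4, 304, 504, 32, 192, 256,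
  384], [6, 7, 5, 304, 504, 168, 192, 448, 320], [7, 1, 2, 504, 8, 16, 192, 320, 64], [7, 1, 3, 504, 8, 88, 192,
  384, 64], [7, 1, 4, 504, 8, 32, 192, 384, 128], [7, 1, 5, 504, 8, 168, 192, 320, 128], [7, 2, 1, 504, 16, 8,
  320, 192, 64], [7, 2, 3, 504, 16, 88, 320, 384, 64], [7, 2, 4, 504, 16, 32, 320, 384, 256], [7, 2, 6, 504, 16,
  304, 320, 192, 256], [7, 3, 1, 504, 88, 8, 384, 192, 64], [7, 3, 2, 504, 88, 16, 384, 320, 64], [7, 3, 5, 504,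
  88, 168, 384, 320, 448], [7, 3, 6, 504, 88, 304, 384, 192, 448], [7, 4, 1, 504, 32, 8, 384, 192, 128], [7, 4,
  2, 504, 32, 16, 384, 320, 256], [7, 4, 5, 504, 32, 168, 384, 320, 128], [7, 4, 6, 504, 32, 304, 384, 192,
  256], [7, 5, 1, 504, 168, 8, 320, 192, 128], [7, 5, 3, 504, 168, 88, 320, 384, 448], [7, 5, 4, 504, 168, 32,
  320, 384, 128], [7, 5, 6, 504, 168, 304, 320, 192, 448], [7, 6, 2, 504, 304, 16, 192, 320, 256], [7, 6, 3,
  504, 304, 88, 192, 384, 448], [7, 6, 4, 504, 304, 32, 192, 384, 256], [7, 6, 5, 504, 304, 168, 192, 320, 448]]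
def prods (s t : List (List ℕ)) : List (List ℕ) := s.flatMap fun l => t.map (cm l)
def el9 (b : Bool) : List (List ℕ) := prods (idn 9 :: xl b) (prods tab9 y9)
def t9 (b : Bool) : List (List ℕ) := prods (idn 9 :: xl b) (prods (tab9.take 8) y9)

def ext (s : List (List ℕ)) (c : List ℕ) : List (List ℕ) := List.zipWith (fun l x => l ++ [x]) s c
/-- the action of `gM` on `E`; `true` is the case of `Fi₂₂` -/
def g10 (c : Bool) : List (List ℕ) :=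
  ext g9 (bif c then [769, 647, 581, 581, 769, 512] else [769, 647, 581, 576, 768, 512])
def xic : List ℕ := [1, 2, 69, 8, 16, 512, 64, 203, 273, 32]
def L0 (c : Bool) : Subgroup (Au 10) := cl 10 (g10 c)
def T10 (c : Bool) : Subgroup (Au 10) := cl 10 ((g10 c).take 5)
def A10 : Subgroup (Au 10) := cl 10 ((g10 true).take 3)
/-- `M₂₂` -/
def L1 : Subgroup (Au 10) := cl 10 (g10 true ++ [xic])
def S10 : Subgroup (Au 10) := cl 10 ((g10 true).take 5 ++ [xic])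
def y10 : List (List ℕ) := ext y9 [512, 769, 647, 898, 581, 838, 707, 964]
def tab10 (c : Bool) : List (List ℕ) := ext tab9 (bif c then
  [512, 707, 769, 898, 581, 647, 838, 964, 769, 964, 512, 581, 898, 838, 647, 707, 512, 647, 769, 838, 707, 581,
  964, 898, 964, 838, 647, 581, 898, 769, 707, 512, 838, 512, 964, 898, 964, 707, 838, 769, 581, 769, 707, 647,
  647, 898, 512, 581, 769, 898, 512, 707, 838, 964, 581, 647, 898, 581, 769, 838, 769, 647, 898, 964, 707, 838,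
  581, 512, 512, 964, 647, 707, 707, 647, 838, 898, 647, 707, 769, 581, 707, 647, 964, 512, 581, 512, 964, 769,
  898, 964, 512, 838, 838, 769, 581, 898, 512, 581, 769, 964, 581, 512, 898, 647, 512, 581, 838, 707, 647, 707,
  898, 838, 964, 898, 647, 769, 769, 838, 707, 964, 898, 964, 581, 707, 964, 898, 838, 512, 898, 964, 769, 647,
  707, 647, 581, 769, 581, 512, 707, 838, 838, 769, 647, 512, 769, 838, 512, 647, 838, 769, 964, 707, 769, 838,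
  898, 581, 647, 707, 512, 964, 512, 581, 647, 898, 964, 898, 707, 581] else
  [512, 704, 768, 896, 576, 640, 832, 960, 768, 960, 512, 576, 896, 832, 640, 704, 512, 640, 768, 832, 704, 576,
  960, 896, 960, 832, 640, 576, 896, 768, 704, 512, 832, 512, 960, 896, 960, 704, 832, 768, 576, 768, 704, 640,
  640, 896, 512, 576, 768, 896, 512, 704, 832, 960, 576, 640, 896, 576, 768, 832, 768, 640, 896, 960, 704, 832,
  576, 512, 512, 960, 640, 704, 704, 640, 832, 896, 640, 704, 768, 576, 704, 640, 960, 512, 576, 512, 960, 768,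
  896, 960, 512, 832, 832, 768, 576, 896, 512, 576, 768, 960, 576, 512, 896, 640, 512, 576, 832, 704, 640, 704,
  896, 832, 960, 896, 640, 768, 768, 832, 704, 960, 896, 960, 576, 704, 960, 896, 832, 512, 896, 960, 768, 640,
  704, 640, 576, 768, 576, 512, 704, 832, 832, 768, 640, 512, 768, 832, 512, 640, 832, 768, 960, 704, 768, 832,
  896, 576, 640, 704, 512, 960, 512, 576, 640, 896, 960, 896, 704, 576])
def el10 (c : Bool) : List (List ℕ) := prods (tab10 c) y10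
def t10 (c : Bool) : List (List ℕ) := prods ((tab10 c).take 8) y10
def s10 : List (List ℕ) := prods [idn 10, xic] (t10 true)
/-- the action of `y₀ = τ f₃` on `E` -/
noncomputable def y0 : Au 10 := mk 10 [1, 2, 4, 8, 16, 36, 64, 129, 258, 581]
/-- the images of `1, 2, 4, 8, 16, 64, 128, 256` under `ξ` -/
def xi0 (c : Bool) : List ℕ := bif c then [1, 2, 69, 8, 16, 64, 203, 273] else [1, 2, 69, 8, 16, 64, 200, 272]
def IsXi (c : Bool) (g : Au 10) : Prop := [1, 2, 4, 8, 16, 64, 128, 256].map (lin (cd g)) = xi0 c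
/-- the `231` conjugates of `a` in `E` -/
def inX (v : ℕ) : Bool := Nat.testBit
  0x81284811065030002482124490050c00812812440650c00018418422600a030042142188900a0c004214218809a0c0002441482209a03000188284116005030000c3a5009900009600000099690000660000690000a5005ac3000055005500aa006900000000c33ca5000033000033cc99000000000f0ff0005533000f0000fe v
/-- the `22` conjugates of `d` in `E` -/
def Om : List ℕ :=
  [8, 9, 16, 18, 32, 36, 88, 91, 168, 173, 304, 310, 504, 511, 512, 581, 647, 707, 769, 838, 898, 964]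

/-- the hypotheses on the automiser of `F` -/
structure H9 (b : Bool) (Γ : Subgroup (Au 9)) : Prop where
  le : G9 b ≤ Γ
  nA : Γ ⊓ 𝐍(A9) ≤ G9 b

/-- the hypotheses on the automiser of `E` -/
structure H10 (c : Bool) (Λ : Subgroup (Au 10)) : Prop where
  le : L0 c ≤ Λ
  nA : Λ ⊓ 𝐍(A10) ≤ L0 c

/-! ### the module `V = Q / Z = BV 8 = F₄⁴` -/

/-- the quadratic form: the number of nonzero coordinates, mod `2` -/
def q8 (v : ℕ) : Bool := Nat.testBit 0x6996 (lin [1, 0, 2, 0, 4, 0, 8] (v ||| v / 2))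
def b8 (x y : ℕ) : Bool := xor (q8 (x ^^^ y)) (xor (q8 x) (q8 y))
/-- multiplication by `ω` -/
def omc : List ℕ := [2, 3, 8, 12, 32, 48, 128, 192]
def sgc (v u : ℕ) : List ℕ :=
  (idn 8).map fun x => x ^^^ (bif b8 x v then u else 0) ^^^ (bif b8 x u then v else 0)
def tac (v : ℕ) : List ℕ := sgc v (lin omc v)
/-- the unitary transvection with centre the singular vector `v` -/
noncomputable def ta (v : ℕ) : Au 8 := mk 8 (tac v)
def Sing (v : ℕ) : Prop := v < 256 ∧ v ≠ 0 ∧ q8 v = false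
instance : DecidablePred Sing := fun _ => inferInstanceAs (Decidable (_ ∧ _ ∧ _))
/-- `SU₄(2)` -/
def K8 : Subgroup (Au 8) := closure {g | ∃ v, Sing v ∧ g = ta v}
/-- lifts of the basis of `V` -/
def qb : List (List ℕ) :=
  [[1, 2, 4, 10, 17, 32, 80], [1, 3, 4, 27, 17, 32, 66], [1, 2, 4, 10, 17, 32, 82], [1, 3, 4, 24, 16, 32, 66],
  [1, 2, 4, 12, 16, 33, 96], [1, 2, 5, 45, 16, 33, 68], [1, 2, 4, 12, 16, 33, 100], [1, 2, 5, 40, 16, 32, 68]]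
def prc : List (List ℕ) → ℕ → List ℕ
  | [], _ => idn 7
  | c :: l, v => bif v % 2 == 1 then cm c (prc l (v / 2)) else prc l (v / 2)
noncomputable def q0 (v : ℕ) : Au 7 := mk 7 (prc qb v)
def Z0 : Subgroup (Au 7) := cl 7 [ffc 1, ffc 8]
/-- `2^(1+8)` -/
def X0 : Subgroup (Au 7) := cl 7 (ffc 1 :: qb)
/-- `2 × 2^(1+8)` -/
def Q0 : Subgroup (Au 7) := cl 7 (ffc 1 :: ffc 8 :: qb)
/-- the centre of the transvection induced by a point of `Ω` -/
def cen (p : ℕ) : ℕ := if p ∈ [16, 18, 88, 91] then 5 else if p ∈ [32, 36, 168, 173] then 80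
  else if p ∈ [304, 310, 504, 511] then 85 else if p ∈ [512, 581, 647, 707] then 90 else 95

/-! ### the group theoretic setting -/

variable {G : Type*} [Group G]

/-- `g` acts on the image of `f` as `γ` -/
def Act {n : ℕ} (f : BV n →* G) (g : G) (γ : Au n) : Prop := ∀ v, g * f v * g⁻¹ = f (γ v)

/-- the automorphisms induced by `H` -/
def AutG {n : ℕ} (f : BV n →* G) (H : Subgroup G) : Subgroup (Au n) := sg (fun γ => ∃ g ∈ H, Act f g γ)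
  ⟨1, one_mem _, fun v => by simp⟩ fun _ _ ⟨g, hg, a⟩ ⟨h, hh, b⟩ => ⟨g * h, mul_mem hg hh, fun v => by
    rw [MulAut.mul_apply, ← a, ← b]; group⟩

/-- the frame: `N = N(A)` maps onto `M0` with odd kernel, with a section on `T0` -/
structure Fr (G : Type*) [Group G] where
  N : Subgroup G
  π : G → Au 7
  ι : Au 7 → G
  α : BV 6 →* G
  f : BV 9 →* G
  π_mul : ∀ a ∈ N, ∀ b ∈ N, π (a * b) = π a * π b
  π_mem : ∀ a ∈ N, π a ∈ M0
  π_surj : ∀ m ∈ M0, ∃ a ∈ N, π a = m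
  π_odd : ∀ a ∈ N, π a = 1 → Odd (orderOf a)
  ι_mul : ∀ s ∈ T0, ∀ t ∈ T0, ι (s * t) = ι s * ι t
  ι_mem : ∀ t ∈ T0, ι t ∈ N
  π_ι : ∀ t ∈ T0, π (ι t) = t
  α_eq : ∀ v, α v = ι (tauh v)
  f_eq : ∀ v, f v = ι (ffh v)
  hN : N = 𝐍(α.range)
  kc : ∀ a ∈ N, π a = 1 → ∀ v, a * α v = α v * a

namespace Fr

variable (c : Fr G)

/-- the image of a subgroup of `T0` -/
def im (B : Subgroup (Au 7)) : Subgroup G := closure {g | ∃ b ∈ B, b ∈ T0 ∧ c.ι b = g}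
def A : Subgroup G := c.α.range
def F : Subgroup G := c.f.range
def R : Subgroup G := c.im R0
def T : Subgroup G := c.im T0
def Q : Subgroup G := c.im Q0
def Z : Subgroup G := c.im Z0
def al (v : ℕ) : G := c.α (bv 6 v)
def fl (v : ℕ) : G := c.f (bv 9 v)
def a : G := c.fl 1
def d : G := c.fl 8
noncomputable def q (v : ℕ) : G := c.ι (q0 v)

/-- `g` acts on `Q / Z` as `μ` -/
def AQ (g : G) (μ : Au 8) : Prop :=
  g ∈ 𝐍(c.Q) ∧ g ∈ 𝐍(c.Z) ∧ ∀ v : BV 8, (c.q (μ v).1)⁻¹ * (g * c.q v.1 * g⁻¹) ∈ c.Z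

/-- the automorphisms of `Q / Z` induced by `H` -/
def AutQ (H : Subgroup G) : Subgroup (Au 8) := sg (fun μ => ∃ g ∈ H, c.AQ g μ)
  ⟨1, one_mem _, one_mem _, one_mem _, fun v => by simp⟩
  fun μ ν ⟨g, hg, a⟩ ⟨h, hh, b⟩ => ⟨g * h, mul_mem hg hh, mul_mem a.1 b.1, mul_mem a.2.1 b.2.1, fun v => by
    have := mul_mem (a.2.2 (ν v)) ((mem_normalizer_iff.1 a.2.1 _).1 (b.2.2 v))
    rw [MulAut.mul_apply]
    convert this using 1
    group⟩

/-- an element exchanging `A` and `A'` -/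
structure Sw (x : G) : Prop where
  nR : x ∈ 𝐍(c.R)
  out : x ∉ c.N
  two : ∀ y ∈ 𝐍(c.R), y ∈ c.N ∨ x * y ∈ c.N
  cos : ∀ n ∈ c.N, n ∈ 𝐍(c.R) → ∃ v, n * x * n⁻¹ = x * c.f v
  sq : ∃ w < 8, x * x = c.fl w
  swp : ∀ v < 64, ∃ w < 8, x * c.al v * x⁻¹ = c.al v * c.fl (dl (v / 8) ^^^ w)
  cW : ∀ v < 512, ∃ w < 8, x * c.fl v * x⁻¹ = c.fl (v ^^^ w) ∧ (v < 8 → w = 0)

/-- the cases in which `F` is the Thompson subgroup of a Sylow subgroup -/
structure AB (b : Bool) (S : Subgroup G) : Prop where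
  isP : IsPGroup 2 S
  TS : c.T ≤ S
  SN : S ≤ 𝐍(c.F)
  aut : AutG c.f S = T9 b
  le : G9 b ≤ AutG c.f ⊤
  nR : AutG c.f 𝐍(c.R) ≤ G9 b
  cF : ∀ z ∈ 𝐂(c.F), z ∈ 𝐍(c.R) → IsPGroup 2 (c.R ⊔ zpowers z : Subgroup G) → z ∈ c.F
  SR : S ≤ 𝐍(c.R)

/-- the case `E = 2¹⁰` -/
structure Ga (b : Bool) (e : BV 10 →* G) : Prop where
  inj : Function.Injective e
  ef : ∀ v < 512, e (bv 10 v) = c.fl v
  sw : c.Sw (e (bv 10 512))
  ex : ∀ n ∈ c.N, n ∈ 𝐍(c.R) → ∃ g ∈ L0 b, Act e n g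
  sur : L0 b ≤ AutG e (c.N ⊓ 𝐍(c.R))
  aT : AutG e c.T = T10 b
  aA : AutG e c.A = A10

/-- the final configuration -/
structure Cf (e : BV 10 →* G) (S : Subgroup G) : Prop where
  ga : c.Ga true e
  syl : IsSylowIn 2 S ⊤
  TS : c.T ≤ S
  ES : e.range ≤ S
  SN : S ≤ 𝐍(e.range)
  aut : AutG e S = S10
  cE : S ⊓ 𝐂(e.range) ≤ e.range
  l1 : L1 ≤ AutG e ⊤
  pX : ∀ g ∈ AutG e ⊤, ∀ v < 1024, inX v = true → inX (lin (cd g) v) = true
  wc : ∀ g, e.range ^ᶜ g ≤ S → g ∈ 𝐍(e.range)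

/-- the pattern of a singular coset -/
def Pat (i : G) : Prop := i * c.a = c.a * i ∧ i * c.d = c.d * i ∧ IsConj c.a i ∧ IsConj c.a (i * c.a) ∧
  ¬ IsConj c.d (i * c.d) ∧ ¬ IsConj c.d (i * c.d * c.a)

end Fr

theorem eqns_defs : True := by
  have := @cl.eq_1
  have := @St.eq_1
  have := @Fx.eq_1
  have := @om.eq_1
  have := @M0.eq_1
  have := @tauc.eq_1
  have := @tau.eq_1
  have := @ffc.eq_1
  have := @ff.eq_1
  have := @cr.eq_1
  have := @lvc.eq_1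
  have := @lvc.eq_2
  have := @lvc.eq_def
  have := @lv.eq_1
  have := @tvc.eq_1
  have := @tv.eq_1
  have := @dl.eq_1
  have := @tauh.eq_1
  have := @ffh.eq_1
  have := @A0.eq_1
  have := @F0.eq_1
  have := @P0.eq_1
  have := @T0.eq_1
  have := @R0.eq_1
  have := @gl3.eq_1
  have := @gM.eq_1
  have := @g9.eq_1
  have := @xb.eq_1
  have := @xl.eq_1
  have := @G9.eq_1
  have := @T9.eq_1
  have := @A9.eq_1
  have := @y9.eq_1
  have := @tab9.eq_1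
  have := @prods.eq_1
  have := @el9.eq_1
  have := @t9.eq_1
  have := @ext.eq_1
  have := @g10.eq_1
  have := @xic.eq_1
  have := @L0.eq_1
  have := @T10.eq_1
  have := @A10.eq_1
  have := @L1.eq_1
  have := @S10.eq_1
  have := @y10.eq_1
  have := @tab10.eq_1
  have := @el10.eq_1
  have := @t10.eq_1
  have := @s10.eq_1
  have := @y0.eq_1
  have := @xi0.eq_1
  have := @IsXi.eq_1
  have := @inX.eq_1
  have := @Om.eq_1
  have := @q8.eq_1
  have := @b8.eq_1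
  have := @omc.eq_1
  have := @sgc.eq_1
  have := @tac.eq_1
  have := @ta.eq_1
  have := @Sing.eq_1
  have := @K8.eq_1
  have := @qb.eq_1
  have := @prc.eq_1
  have := @prc.eq_2
  have := @prc.eq_def
  have := @q0.eq_1
  have := @Z0.eq_1
  have := @X0.eq_1
  have := @Q0.eq_1
  have := @cen.eq_1
  have := @Act.eq_1.{0}
  have := @AutG.eq_1.{0}
  have := @Fr.im.eq_1.{0}
  have := @Fr.A.eq_1.{0}
  have := @Fr.F.eq_1.{0}
  have := @Fr.R.eq_1.{0}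
  have := @Fr.T.eq_1.{0}
  have := @Fr.Q.eq_1.{0}
  have := @Fr.Z.eq_1.{0}
  have := @Fr.al.eq_1.{0}
  have := @Fr.fl.eq_1.{0}
  have := @Fr.a.eq_1.{0}
  have := @Fr.d.eq_1.{0}
  have := @Fr.q.eq_1.{0}
  have := @Fr.AQ.eq_1.{0}
  have := @Fr.AutQ.eq_1.{0}
  have := @Fr.Pat.eq_1.{0}
  trivial

end H12.E64
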