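import Cfsg.Agent.Lib.F42.MD1a
import Cfsg.Agent.Lib.E64.Defs

/-! Faithful modules of order `64` for `Sp₆(2)`: transvections (see blueprint/E64/README.md) -/

set_option autoImplicit false

namespace H12.E64

open Subgroup Cfsg H69 H45 Gold
open scoped commutatorElement

namespace FR1

variable {B : Type*} [CommGroup B] {a b c t s : MulAut B} {x : B}

/-- the commutator subgroup `[B, a]` for `a` of order three -/
abbrev U (a : MulAut B) : Subgroup B :=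
  (MonoidHom.id B * a.toMonoidHom * (a * a).toMonoidHom).ker
abbrev C (a : MulAut B) : Subgroup B := a.toMonoidHom.eqLocus (MonoidHom.id B)

theorem mU : x ∈ U a ↔ x * a x * a (a x) = 1 := Iff.rfl
theorem mC : x ∈ C a ↔ a x = x := Iff.rfl

theorem UC (h2 : ∀ b : B, b * b = 1) (hu : x ∈ U a) (hc : a x = x) : x = 1 := by
  rwa [mU, hc, hc, h2, one_mul] at hu

theorem U_map (h : ∀ x, t (a x) = b (t x)) (hx : x ∈ U a) : t x ∈ U b := by
  rw [mU, ← h, ← h, ← map_mul, ← map_mul, mU.1 hx, map_one]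

theorem U_inv (h3 : ∀ x, b (b (b x)) = x) (h : ∀ x, t (b x) = b (b (t x))) (hx : x ∈ U b) :
    t x ∈ U b := by
  have := congrArg t (mU.1 hx)
  rw [map_mul, map_mul, h, h, h, h3, map_one, mul_right_comm] at this
  exact this

theorem br (h2 : ∀ b : B, b * b = 1) (h3 : ∀ x, a (a (a x)) = x) (x : B) : a x * a (a x) ∈ U a := by
  simp only [mU, map_mul, h3]
  rw [mul_assoc (a x), ← mul_assoc (a (a x)), h2, one_mul, mul_comm (a x), h2]

theorem eq_of (h2 : ∀ b : B, b * b = 1) {x y : B} (h : x * y = 1) : x = y :=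
  mul_right_cancel (h.trans (h2 y).symm)

theorem U_ne (h2 : ∀ b : B, b * b = 1) (h3 : ∀ x, a (a (a x)) = x) (h : a ≠ 1) : U a ≠ ⊥ := fun e =>
  h (MulEquiv.ext fun x => (a.injective (eq_of h2 (mem_bot.1 (e ▸ br h2 h3 x)))).symm)

theorem U_le (h2 : ∀ b : B, b * b = 1) (h3 : ∀ x, a (a (a x)) = x) (h : ∀ x, a (b x) = b (a x))
    (e : U a ⊓ U b = ⊥) (hx : x ∈ U b) : a x = x :=
  (a.injective (eq_of h2 (mem_bot.1 (e ▸ (⟨br h2 h3 x,
    mul_mem (U_map h hx) (U_map h (U_map h hx))⟩ : _ ∈ U a ⊓ U b))))).symm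

variable [Finite B]

theorem cong (h2 : ∀ b : B, b * b = 1) (h3 : ∀ x, a (a (a x)) = x) {S : Subgroup B} (hS : S ≤ U a)
    (hi : ∀ x ∈ S, a x ∈ S) : Nat.card S % 3 = 1 := by
  classical
  haveI := Fintype.ofFinite B
  haveI := Fact.mk Nat.prime_three
  let f : Function.End S := fun x => ⟨a x, hi x x.2⟩
  have := Equiv.Perm.card_fixedPoints_modEq (f := f) (p := 3) (n := 1)
    (funext fun x => Subtype.ext (h3 x))
  rw [← Nat.card_eq_fintype_card, ← Nat.card_eq_fintype_card] at this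
  haveI u : Unique (Function.fixedPoints f) := ⟨⟨⟨1, Subtype.ext (map_one a)⟩⟩, fun x =>
    Subtype.ext (Subtype.ext (UC h2 (hS x.1.2) (congrArg Subtype.val x.2)))⟩
  exact this.trans (by rw [Nat.card_unique])

theorem four (h2 : ∀ b : B, b * b = 1) (h3 : ∀ x, a (a (a x)) = x) {S : Subgroup B} (hS : S ≤ U a)
    (hi : ∀ x ∈ S, a x ∈ S) (hc : Nat.card S ≤ 4) {v : B} (hv : v ∈ S) (v1 : v ≠ 1) (hx : x ∈ S) :
    x = 1 ∨ x = v ∨ x = a v ∨ x = a (a v) := by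
  have n1 : a v ≠ v := fun e => v1 (UC h2 (hS hv) e)
  have n2 : a (a v) ≠ v := fun e => n1 ((congrArg a e).symm.trans (h3 v))
  have n3 : a v ≠ a (a v) := fun e => n1 (a.injective e).symm
  have : ({1, v, a v, a (a v)} : Set B) = S := by
    refine Set.eq_of_subset_of_ncard_le ?_ ?_
    · rintro _ (rfl | rfl | rfl | rfl)
      exacts [one_mem S, hv, hi _ hv, hi _ (hi _ hv)]
    · rw [Set.ncard_insert_of_notMem (by simp [v1, @eq_comm _ (1 : B)]),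
        Set.ncard_insert_of_notMem (by simp [n1.symm, n2.symm]), Set.ncard_pair n3,
        ← Nat.card_coe_set_eq]
      exact hc
  exact this.ge hx

theorem triv (h2 : ∀ b : B, b * b = 1) (h3 : ∀ x, a (a (a x)) = x) {S : Subgroup B} (hS : S ≤ U a)
    (hi : ∀ x ∈ S, a x ∈ S) (hc : Nat.card S ≤ 4) (ht : ∀ x ∈ S, t x ∈ S) (t2 : ∀ x, t (t x) = x)
    (ta : ∀ x, t (a x) = a (t x)) (hx : x ∈ S) : t x = x := by
  by_cases x1 : x = 1
  · rw [x1, map_one]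
  have n1 : a x ≠ x := fun e => x1 (UC h2 (hS hx) e)
  have h4 := t2 x
  rcases four h2 h3 hS hi hc hx x1 (ht x hx) with e | e | e | e
  · exact absurd (by simpa using e) x1
  · exact e
  · rw [e, ta, e] at h4
    exact absurd ((congrArg a h4).symm.trans (h3 x)) n1
  · rw [e, ta, ta, e, h3] at h4
    exact absurd h4 n1

theorem prod_le {S T : Subgroup B} (h : S ⊓ T = ⊥) : Nat.card ↥(S ⊔ T) = Nat.card S * Nat.card T := by
  rw [← H1.card_sup_mul_card_inf_of_normal, h, card_bot, mul_one]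

theorem ge4 (h2 : ∀ b : B, b * b = 1) (h3 : ∀ x, a (a (a x)) = x) {S : Subgroup B} (hS : S ≤ U a)
    (hi : ∀ x ∈ S, a x ∈ S) (h : S ≠ ⊥) : 4 ≤ Nat.card S := by
  have := cong h2 h3 hS hi
  have := (one_lt_card_iff_ne_bot S).2 h
  omega

theorem pair (h2 : ∀ b : B, b * b = 1) (hc : Nat.card B = 64) (a3 : ∀ x, a (a (a x)) = x)
    (b3 : ∀ x, b (b (b x)) = x) (c3 : ∀ x, c (c (c x)) = x) (ab : ∀ x, a (b x) = b (a x))
    (ca : ∀ x, c (a x) = a (c x)) (cb : ∀ x, c (b x) = b (c x)) (t2 : ∀ x, t (t x) = x)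
    (ta : ∀ x, t (a x) = a (t x)) (tb : ∀ x, t (b x) = b (b (t x))) (s2 : ∀ x, s (s x) = x)
    (sa : ∀ x, s (a x) = a (s x)) (sb : ∀ x, s (b x) = b (s x)) (sc : ∀ x, s (c x) = c (c (s x)))
    (h : U a ⊓ U b ≠ ⊥) : 16 ≤ Nat.card ↥(U a ⊓ U b) ∧ ∀ x ∈ U a ⊓ U b, c x = x := by
  set S := U a ⊓ U b
  have iv : ∀ g : MulAut B, (∀ x, g (a x) = a (g x)) → (∀ x, g (b x) = b (g x)) →
      (∀ x ∈ S ⊓ C (a * b), g x ∈ S ⊓ C (a * b)) ∧
        ∀ x ∈ S ⊓ C (a * (b * b)), g x ∈ S ⊓ C (a * (b * b)) := fun g ga gb =>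
    ⟨fun x hx => ⟨⟨U_map ga hx.1.1, U_map gb hx.1.2⟩, show a (b (g x)) = g x by
      rw [← gb, ← ga]; exact congrArg g hx.2⟩,
    fun x hx => ⟨⟨U_map ga hx.1.1, U_map gb hx.1.2⟩, show a (b (b (g x))) = g x by
      rw [← gb, ← gb, ← ga]; exact congrArg g hx.2⟩⟩
  have tS : ∀ x ∈ S, t x ∈ S := fun x hx => ⟨U_map ta hx.1, U_inv b3 tb hx.2⟩
  have cc : Nat.card ↥(S ⊓ C (a * b)) = Nat.card ↥(S ⊓ C (a * (b * b))) :=
    Nat.card_congr ⟨fun x => ⟨t x, tS _ x.2.1, show a (b (b (t x))) = t x by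
        rw [← tb, ← ta]; exact congrArg t x.2.2⟩,
      fun x => ⟨t x, tS _ x.2.1, show a (b (t x)) = t x by
        rw [← b3 (b (t x)), ← tb, ← tb, ← ta]; exact congrArg t x.2.2⟩,
      fun x => Subtype.ext (t2 x), fun x => Subtype.ext (t2 x)⟩
  have dj : S ⊓ C (a * b) ⊓ (S ⊓ C (a * (b * b))) = ⊥ := eq_bot_iff.2 fun x hx =>
    UC h2 hx.1.1.2 (b.injective (a.injective ((show a (b (b x)) = x from hx.2.2).trans
      (show a (b x) = x from hx.1.2).symm)))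
  have sp : S ⊓ C (a * b) ⊔ S ⊓ C (a * (b * b)) = S := by
    refine le_antisymm (sup_le inf_le_left inf_le_left) fun x hx => ?_
    have aS : ∀ x ∈ S, a x ∈ S := fun x hx => ⟨U_map (fun _ => rfl) hx.1, U_map ab hx.2⟩
    have bS : ∀ x ∈ S, b x ∈ S := fun x hx =>
      ⟨U_map (fun x => (ab x).symm) hx.1, U_map (fun _ => rfl) hx.2⟩
    have e1 : ∀ x ∈ S, a x * a (a x) = x := fun x hx =>
      (eq_of h2 ((mul_assoc _ _ _).symm.trans (mU.1 hx.1))).symm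
    have e2 : b x * b (b x) = x := (eq_of h2 ((mul_assoc _ _ _).symm.trans (mU.1 hx.2))).symm
    have e : x = x * a (b x) * a (a (b (b x))) * (x * a (b (b x)) * a (a (b x))) := by
      calc x = x * x * (b x * b (b x)) := by rw [h2, one_mul, e2]
        _ = x * x * (a (b x) * a (a (b x)) * (a (b (b x)) * a (a (b (b x))))) := by
          rw [e1 _ (bS x hx), e1 _ (bS _ (bS x hx))]
        _ = _ := by ac_rfl
    rw [e]
    refine mul_mem_sup ⟨mul_mem (mul_mem hx (aS _ (bS x hx))) (aS _ (aS _ (bS _ (bS x hx)))), ?_⟩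
      ⟨mul_mem (mul_mem hx (aS _ (bS _ (bS x hx)))) (aS _ (aS _ (bS x hx))), ?_⟩
    · show a (b _) = _
      simp only [map_mul, ← ab, a3, b3]
      ac_rfl
    · show a (b (b _)) = _
      simp only [map_mul, ← ab, a3, b3]
      ac_rfl
  have h5 := prod_le dj
  rw [sp, ← cc] at h5
  obtain ⟨ia, ia'⟩ := iv a (fun _ => rfl) ab
  have le : S ⊓ C (a * b) ≤ U a := fun _ hx => hx.1.1
  have le' : S ⊓ C (a * (b * b)) ≤ U a := fun _ hx => hx.1.1
  have h6 := cong h2 a3 le ia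
  have h7 := (one_lt_card_iff_ne_bot S).2 h
  have h8 : Nat.card ↥(S ⊓ C (a * b)) ∣ 64 := hc ▸ card_subgroup_dvd_card _
  have h9 : Nat.card S ≤ 64 := hc ▸ S.card_le_card_group
  have h4 : Nat.card ↥(S ⊓ C (a * b)) = 4 := by
    generalize Nat.card ↥(S ⊓ C (a * b)) = m at h5 h6 h8
    have : m ≤ 8 := by nlinarith
    interval_cases m <;> omega
  have fin : ∀ T : Subgroup B, T ≤ U a → (∀ x ∈ T, a x ∈ T) → Nat.card T ≤ 4 →
      (∀ x ∈ T, s x ∈ T) → (∀ x ∈ T, c x ∈ T) → T ≤ C c := fun T hT aT cT sT kT x hx => by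
    have e := sc x
    rw [triv h2 a3 hT aT cT sT s2 sa hx, triv h2 a3 hT aT cT sT s2 sa (kT x hx)] at e
    exact (c.injective e).symm
  refine ⟨by rw [h5, h4], fun x hx => ?_⟩
  exact sup_le (fin _ le ia h4.le (iv s sa sb).1 (iv c ca cb).1)
    (fin _ le' ia' (cc ▸ h4.le) (iv s sa sb).2 (iv c ca cb).2) (sp.ge hx)

theorem tr {a' b' : MulAut B} (h : ∀ x, t (a x) = a' (t x)) (h' : ∀ x, t (b x) = b' (t x))
    (e : U a' ⊓ U b' = ⊥) : U a ⊓ U b = ⊥ := eq_bot_iff.2 fun x hx =>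
  (map_eq_one_iff t t.injective).1 (mem_bot.1 (e ▸ (⟨U_map h hx.1, U_map h' hx.2⟩ : _ ∈ U a' ⊓ U b')))

theorem main {r p q : MulAut B} (h2 : ∀ b : B, b * b = 1) (hc : Nat.card B = 64)
    (a3 : ∀ x, a (a (a x)) = x) (b3 : ∀ x, b (b (b x)) = x) (c3 : ∀ x, c (c (c x)) = x)
    (a1 : a ≠ 1) (b1 : b ≠ 1) (c1 : c ≠ 1) (ab : ∀ x, a (b x) = b (a x))
    (ca : ∀ x, c (a x) = a (c x)) (cb : ∀ x, c (b x) = b (c x)) (t2 : ∀ x, t (t x) = x)
    (ta : ∀ x, t (a x) = a (t x)) (tb : ∀ x, t (b x) = b (b (t x))) (tc : ∀ x, t (c x) = c (t x))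
    (s2 : ∀ x, s (s x) = x) (sa : ∀ x, s (a x) = a (s x)) (sb : ∀ x, s (b x) = b (s x))
    (sc : ∀ x, s (c x) = c (c (s x))) (r2 : ∀ x, r (r x) = x) (ra : ∀ x, r (a x) = a (a (r x)))
    (rb : ∀ x, r (b x) = b (r x)) (rc : ∀ x, r (c x) = c (r x)) (pa : ∀ x, p (b x) = a (p x))
    (pc : ∀ x, p (c x) = c (p x)) (qa : ∀ x, q (a x) = a (q x)) (qb : ∀ x, q (b x) = c (q x))
    (qc : ∀ x, q (c x) = b (q x)) :
    (∃ z : B, z ≠ 1 ∧ ∀ x, r x = x ∨ r x = x * z) ∧ ∀ x, a x = x → b x = x → c x = x → x = 1 := by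
  have eab : U a ⊓ U b = ⊥ := by
    by_contra h
    obtain ⟨h3, -⟩ := pair h2 hc a3 b3 c3 ab ca cb t2 ta tb s2 sa sb sc h
    obtain ⟨h4, h5⟩ := pair h2 hc a3 c3 b3 (fun x => (ca x).symm) (fun x => (ab x).symm)
      (fun x => (cb x).symm) s2 sa sc t2 ta tc tb fun e => h (tr qa qb e)
    have h6 := prod_le (S := U a ⊓ U b) (T := U a ⊓ U c)
      (eq_bot_iff.2 fun x hx => UC h2 hx.1.2 (h5 x hx.2))
    have h7 : Nat.card ↥(U a ⊓ U b ⊔ U a ⊓ U c) ≤ 64 := hc ▸ card_le_card_group _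
    nlinarith
  have eac : U a ⊓ U c = ⊥ := tr qa qc eab
  have ebc : U b ⊓ U c = ⊥ := tr pa pc eac
  have ab' := fun x => U_le (x := x) h2 a3 ab eab
  have ac' := fun x => U_le (x := x) h2 a3 (fun x => (ca x).symm) eac
  have bc' := fun x => U_le (x := x) h2 b3 (fun x => (cb x).symm) ebc
  have ba' := fun x => U_le (x := x) h2 b3 (fun x => (ab x).symm) (inf_comm (U b) _ ▸ eab)
  have ca' := fun x => U_le (x := x) h2 c3 ca (inf_comm (U c) _ ▸ eac)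
  have cb' := fun x => U_le (x := x) h2 c3 cb (inf_comm (U c) _ ▸ ebc)
  have iU : ∀ g : MulAut B, ∀ x ∈ U g, g x ∈ U g := fun g x hx => U_map (fun _ => rfl) hx
  have h3 := ge4 h2 a3 le_rfl (iU a) (U_ne h2 a3 a1)
  have h4 := ge4 h2 b3 le_rfl (iU b) (U_ne h2 b3 b1)
  have h5 := ge4 h2 c3 le_rfl (iU c) (U_ne h2 c3 c1)
  have h6 := prod_le (S := U a) (T := U b ⊔ U c) (eq_bot_iff.2 fun x hx =>
    UC h2 hx.1 ((sup_le ab' ac' : U b ⊔ U c ≤ C a) hx.2))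
  rw [prod_le ebc] at h6
  have h7 : Nat.card ↥(U a ⊔ (U b ⊔ U c)) ≤ 64 := hc ▸ card_le_card_group _
  have h8 := Nat.mul_le_mul h4 h5
  have k3 : Nat.card (U a) ≤ 4 := by nlinarith
  have h9 : Nat.card (U b) * Nat.card (U c) ≤ 16 := by nlinarith
  have k4 : Nat.card (U b) ≤ 4 := by nlinarith
  have k5 : Nat.card (U c) ≤ 4 := by nlinarith
  have top : ∀ x, ∃ u ∈ U a, ∃ v ∈ U b, ∃ w ∈ U c, u * (v * w) = x := fun x => by
    obtain ⟨u, hu, y, hy, e⟩ := mem_sup.1 (((card_eq_iff_eq_top (U a ⊔ (U b ⊔ U c))).1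
      (by rw [hc]; nlinarith)).ge (mem_top x))
    obtain ⟨v, hv, w, hw, rfl⟩ := mem_sup.1 hy
    exact ⟨u, hu, v, hv, w, hw, e⟩
  refine ⟨?_, fun x ha hb hc => ?_⟩
  · have rU : ∀ x ∈ U a, r x ∈ U a := fun x => U_inv a3 ra
    obtain ⟨z, hz, z1, rz⟩ : ∃ z ∈ U a, z ≠ 1 ∧ r z = z := by
      obtain ⟨⟨v, hv⟩, v1⟩ := ne_bot_iff_exists_ne_one.1 (U_ne h2 a3 a1)
      have v1' : v ≠ 1 := fun e => v1 (Subtype.ext e)
      rcases four h2 a3 le_rfl (iU a) k3 hv v1' (rU v hv) with e | e | e | e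
      · exact absurd (by simpa using e) v1'
      · exact ⟨v, hv, v1', e⟩
      · exact ⟨_, iU a _ (iU a v hv), by simpa using v1', by rw [ra, ra, a3, e]⟩
      · exact ⟨_, iU a v hv, by simpa using v1', by rw [ra, e, a3]⟩
    refine ⟨z, z1, fun x => ?_⟩
    obtain ⟨u, hu, v, hv, w, hw, rfl⟩ := top x
    rw [map_mul, map_mul, triv h2 b3 le_rfl (iU b) k4 (fun _ => U_map rb) r2 rb hv,
      triv h2 c3 le_rfl (iU c) k5 (fun _ => U_map rc) r2 rc hw, mul_right_comm, mul_left_inj,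
      mul_left_inj]
    have e1 := mU.1 hz
    rcases four h2 a3 le_rfl (iU a) k3 hz z1 hu with rfl | rfl | rfl | rfl
    · exact Or.inl (map_one r)
    · exact Or.inl rz
    · exact Or.inr (by rw [ra, rz, mul_comm]; exact (eq_of h2 e1).symm)
    · exact Or.inr (by
        rw [ra, ra, a3, rz, mul_comm]; exact (eq_of h2 ((mul_right_comm _ _ _).trans e1)).symm)
  · obtain ⟨u, hu, v, hv, w, hw, rfl⟩ := top x
    rw [map_mul, map_mul, ab' v hv, ac' w hw, mul_left_inj] at ha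
    rw [map_mul, map_mul, ba' u hu, bc' w hw, mul_right_inj, mul_left_inj] at hb
    rw [map_mul, map_mul, ca' u hu, cb' v hv, mul_right_inj, mul_right_inj] at hc
    rw [UC h2 hu ha, UC h2 hv hb, UC h2 hw hc, one_mul, one_mul]

end FR1

open H29.F42

open MD1 in
theorem fr_tv {B : Type*} [Group B] [Finite B] (h2 : ∀ b : B, b * b = 1) (hc : Nat.card B = 64)
    (σ : Sp →* MulAut B) (hσ : Function.Injective σ) :
    (∃ z : B, z ≠ 1 ∧ ∀ b, σ (TT 0) b = b ∨ σ (TT 0) b = b * z) ∧ ∀ b, (∀ g, σ g b = b) → b = 1 := by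
  have i : ∀ b : B, b⁻¹ = b := fun b => inv_eq_of_mul_eq_one_right (h2 b)
  letI : CommGroup B := { (inferInstance : Group B) with
    mul_comm := fun a b => by rw [← i (a * b), _root_.mul_inv_rev, i, i] }
  have k : ∀ {l l' : List ℕ}, ((∀ w ∈ l, w < 64) ∧ (∀ w ∈ l', w < 64) ∧
      ∀ x ∈ [1, 2, 4, 8, 16, 32], wN l x = wN l' x) → ∀ x, σ (wd l) x = σ (wd l') x :=
    fun h x => by rw [wd_eq h]
  have k2 : ∀ {l m l' m' : List ℕ}, ((∀ w ∈ l ++ m, w < 64) ∧ (∀ w ∈ l' ++ m', w < 64) ∧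
      ∀ x ∈ [1, 2, 4, 8, 16, 32], wN (l ++ m) x = wN (l' ++ m') x) →
      ∀ x, σ (wd l) (σ (wd m) x) = σ (wd l') (σ (wd m') x) := fun h x => by
    have := k h x
    rwa [wd_append, wd_append, map_mul, map_mul] at this
  have k3 : ∀ {l m : List ℕ}, ((∀ w ∈ l ++ m, w < 64) ∧ (∀ w ∈ m ++ (m ++ l), w < 64) ∧
      ∀ x ∈ [1, 2, 4, 8, 16, 32], wN (l ++ m) x = wN (m ++ (m ++ l)) x) →
      ∀ x, σ (wd l) (σ (wd m) x) = σ (wd m) (σ (wd m) (σ (wd l) x)) := fun h x => by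
    have := k h x
    rwa [wd_append, wd_append, wd_append, map_mul, map_mul, map_mul] at this
  have k4 : ∀ {l : List ℕ}, ((∀ w ∈ l ++ (l ++ l), w < 64) ∧ (∀ w ∈ ([] : List ℕ), w < 64) ∧
      ∀ x ∈ [1, 2, 4, 8, 16, 32], wN (l ++ (l ++ l)) x = wN [] x) →
      ∀ x, σ (wd l) (σ (wd l) (σ (wd l) x)) = x := fun h x => by
    have := k h x
    rwa [wd_append, wd_append, map_mul, map_mul, wd, map_one] at this
  have k5 : ∀ {l : List ℕ}, ((∀ w ∈ l ++ l, w < 64) ∧ (∀ w ∈ ([] : List ℕ), w < 64) ∧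
      ∀ x ∈ [1, 2, 4, 8, 16, 32], wN (l ++ l) x = wN [] x) →
      ∀ x, σ (wd l) (σ (wd l) x) = x := fun h x => by
    have := k h x
    rwa [wd_append, map_mul, wd, map_one] at this
  have k6 : ∀ {l : List ℕ}, ((∀ w ∈ l, w < 64) ∧ (∀ w ∈ ([] : List ℕ), w < 64) ∧
      ∃ x < 64, wN l x ≠ wN [] x) → σ (wd l) ≠ 1 := fun h e =>
    wd_ne h (hσ (e.trans (map_one σ).symm))
  obtain ⟨h, h'⟩ := FR1.main (a := σ (wd [1, 8])) (b := σ (wd [2, 16])) (c := σ (wd [4, 32]))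
    (t := σ (wd [18])) (s := σ (wd [36])) (r := σ (wd [9])) (p := σ (wd [3, 24, 27]))
    (q := σ (wd [6, 48, 54])) h2 hc (k4 (by decide +kernel)) (k4 (by decide +kernel))
    (k4 (by decide +kernel)) (k6 (by decide +kernel)) (k6 (by decide +kernel))
    (k6 (by decide +kernel)) (k2 (by decide +kernel)) (k2 (by decide +kernel))
    (k2 (by decide +kernel)) (k5 (by decide +kernel)) (k2 (by decide +kernel))
    (k3 (by decide +kernel)) (k2 (by decide +kernel)) (k5 (by decide +kernel))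
    (k2 (by decide +kernel)) (k2 (by decide +kernel)) (k3 (by decide +kernel))
    (k5 (by decide +kernel)) (k3 (by decide +kernel)) (k2 (by decide +kernel))
    (k2 (by decide +kernel)) (k2 (by decide +kernel)) (k2 (by decide +kernel))
    (k2 (by decide +kernel)) (k2 (by decide +kernel)) (k2 (by decide +kernel))
  rw [TT0_wd]
  exact ⟨h, fun b hb => h' b (hb _) (hb _) (hb _)⟩

end H12.E64
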