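import Cfsg.Agent.Lib.F42.MD1a
import Cfsg.Agent.Lib.E64.Defs

/-! Faithful modules of order `64` for `Sp₆(2)` are natural (see blueprint/E64/README.md) -/

set_option autoImplicit false

namespace H12.E64

open Subgroup Cfsg H69 H45 Gold
open scoped commutatorElement

open H29.F42

namespace FR2

open MD1

theorem two (v : W) {u u' : W} (h : ∃ x, H29.F42.om x v = 0 ∧ H29.F42.om x u = 1)
    (h' : ∃ x, H29.F42.om x v = 0 ∧ H29.F42.om x u' = 1) :
    ∃ x, H29.F42.om x v = 0 ∧ H29.F42.om x u = 1 ∧ H29.F42.om x u' = 1 := by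
  obtain ⟨x, x1, x2⟩ := h
  obtain ⟨y, y1, y2⟩ := h'
  rcases z2 (H29.F42.om x u') with a | a
  · rcases z2 (H29.F42.om y u) with b | b
    · exact ⟨x + y, by rw [om_add, x1, y1, add_zero], by rw [om_add, x2, b, add_zero],
        by rw [om_add, a, y2, zero_add]⟩
    · exact ⟨y, y1, b, y2⟩
  · exact ⟨x, x1, x2, a⟩

theorem nd2 {u v : W} (h0 : u ≠ 0) (h : u ≠ v) : ∃ x, H29.F42.om x v = 0 ∧ H29.F42.om x u = 1 := by
  obtain ⟨x, hx⟩ := om_nd u h0
  obtain ⟨y, hy⟩ := om_nd (u + v) fun e => h (by rw [← aa'' v u, e, zero_add])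
  rw [om_add'] at hy
  rcases z2 (H29.F42.om x v) with a | a
  · exact ⟨x, a, hx⟩
  rcases z2 (H29.F42.om y v) with b | b
  · exact ⟨y, b, by rwa [b, add_zero] at hy⟩
  · rw [b, add_eq_right] at hy
    exact ⟨x + y, by rw [om_add, a, b]; rfl, by rw [om_add, hx, hy, add_zero]⟩

theorem swap {u v : W} (h : H29.F42.om u v = 1) : ac (H29.F42.tv (u + v)) u = v := by
  rw [ac_tv, om_add', om_self, h, zero_add, one_smul, aa']

theorem trans {u v : W} (hu : u ≠ 0) (hv : v ≠ 0) : ∃ g, ac g u = v := by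
  obtain ⟨x, -, x1, x2⟩ := two 0 (nd2 hu hu) (nd2 hv hv)
  exact ⟨H29.F42.tv (x + v) * H29.F42.tv (u + x), by rw [ac_mul, swap (om_comm u x ▸ x1), swap x2]⟩

theorem perp (u v : W) : ∃ w, w ≠ 0 ∧ w ≠ u ∧ w ≠ v ∧ H29.F42.om w u = 0 ∧ H29.F42.om w v = 0 := by
  obtain ⟨x, hx, rfl⟩ := dc_surj u
  obtain ⟨y, hy, rfl⟩ := dc_surj v
  obtain ⟨w, hw, a, b, c, d, e⟩ := (by decide +kernel : ∀ x < 64, ∀ y < 64, ∃ w < 64, w ≠ 0 ∧ w ≠ x ∧
    w ≠ y ∧ omN w x = false ∧ omN w y = false) x hx y hy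
  exact ⟨dc w, fun k => a (dc_eq_zero w hw k), fun k => b (dc_inj hw hx k), fun k => c (dc_inj hw hy k),
    (om_dc0 hw hx).2 d, (om_dc0 hw hy).2 e⟩

end FR2

open FR2 MD1 in
theorem fr_nat {B : Type*} [Group B] [Finite B] (h2 : ∀ b : B, b * b = 1) (hc : Nat.card B = 64)
    (σ : Sp →* MulAut B) (hσ : Function.Injective σ)
    (ht : ∃ z : B, z ≠ 1 ∧ ∀ b, σ (TT 0) b = b ∨ σ (TT 0) b = b * z) (hf : ∀ b, (∀ g, σ g b = b) → b = 1) :
    ∃ c : W → B, Function.Bijective c ∧ (∀ u v, c (u + v) = c u * c v) ∧ ∀ g v, c (ac g v) = σ g (c v) := by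
  have i : ∀ b : B, b⁻¹ = b := fun b => inv_eq_of_mul_eq_one_right (h2 b)
  let _ : CommGroup B := { (inferInstance : Group B) with
    mul_comm := fun a b => by rw [← i (a * b), mul_inv_rev, i, i] }
  have cj : ∀ g v z, (∀ b, σ (H29.F42.tv v) b = b ∨ σ (H29.F42.tv v) b = b * z) →
      ∀ b, σ (H29.F42.tv (ac g v)) b = b ∨ σ (H29.F42.tv (ac g v)) b = b * σ g z := fun g v z h b => by
    rw [← tv_cj, map_mul, map_mul, map_inv, MulAut.mul_apply, MulAut.mul_apply]
    rcases h ((σ g)⁻¹ b) with e | e <;> rw [e]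
    · exact Or.inl (by simp)
    · exact Or.inr (by simp)
  have ex : ∀ v : W, ∃ z : B, (z = 1 ↔ v = 0) ∧ ∀ b, σ (H29.F42.tv v) b = b ∨ σ (H29.F42.tv v) b = b * z := by
    intro v
    by_cases h : v = 0
    · exact ⟨1, by simp [h], fun b => Or.inl (by rw [h, tv_zero, map_one]; rfl)⟩
    obtain ⟨z, z1, hz⟩ := ht
    obtain ⟨g, rfl⟩ := trans (u := H29.F42.ff 0 + gg 0) (by decide) h
    exact ⟨σ g z, by simp [h, z1], cj g _ z hz⟩
  choose c c1 c2 using ex
  have c0 : c 0 = 1 := (c1 0).2 rfl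
  have eqv : ∀ g v, c (ac g v) = σ g (c v) := fun g v => by
    by_cases h : v = 0
    · rw [h, ac_zero, c0, map_one]
    have n : σ (H29.F42.tv (ac g v)) ≠ 1 := fun e => h (ac_inj g (by
      rw [ac_zero]; exact tv_inj ((hσ (e.trans (map_one σ).symm)).trans tv_zero.symm)))
    obtain ⟨b, hb⟩ : ∃ b, σ (H29.F42.tv (ac g v)) b ≠ b := by
      by_contra! k
      exact n (MulEquiv.ext k)
    exact mul_left_cancel (((c2 _ b).resolve_left hb).symm.trans ((cj g v _ (c2 v) b).resolve_left hb))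
  have a1 : ∀ u v, H29.F42.om u v = 1 → c (u + v) = c u * c v := fun u v h => by
    have e : ac (H29.F42.tv v) u = u + v := by rw [ac_tv, h, one_smul]
    rw [← e, eqv]
    refine (c2 v (c u)).resolve_left fun k => ?_
    have k' : σ (H29.F42.tv u) (c v) = c v := by
      have t := tv_cj (H29.F42.tv (u + v)) v
      have e1 := eqv (H29.F42.tv (u + v)) u
      rw [show ac (H29.F42.tv (u + v)) v = u by rw [add_comm]; exact swap (om_comm u v ▸ h)] at t
      rw [swap h] at e1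
      rw [← t, e1, ← MulAut.mul_apply, ← map_mul, inv_mul_cancel_right, map_mul, MulAut.mul_apply, k]
    have : H29.F42.tv v * H29.F42.tv u = H29.F42.tv u * H29.F42.tv v := hσ (MulEquiv.ext fun b => by
      rw [map_mul, map_mul, MulAut.mul_apply, MulAut.mul_apply]
      rcases c2 u b with p | p <;> rcases c2 v b with q | q <;>
        simp only [p, q, map_mul, k, k', mul_right_comm])
    rw [fix_of_comm this, left_eq_add] at e
    rw [e, om_comm, om_zero] at h
    exact absurd h (by decide)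
  have z1 : ∀ v u x, H29.F42.om u v = 0 → H29.F42.om x v = 0 → H29.F42.om x u = 1 →
      c u * c v * c (u + v) = c x * c v * c (x + v) := fun v u x h1 h2' h3 => by
    have e := a1 (x + u) (x + v) (by
      rw [om_add, om_add', om_add', om_self, h2', om_comm u x, h3, h1]; rfl)
    rw [add_add_add_comm, aa, zero_add, a1 x u h3] at e
    rw [e]
    calc c u * c v * (c x * c u * c (x + v)) = c u * c u * (c x * c v * c (x + v)) := by ac_rfl
      _ = _ := by rw [h2, one_mul]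
  have z2' : ∀ v u u', H29.F42.om u v = 0 → u ≠ 0 → u ≠ v → H29.F42.om u' v = 0 → u' ≠ 0 → u' ≠ v →
      c u * c v * c (u + v) = c u' * c v * c (u' + v) := fun v u u' h1 h2 h3 h4 h5 h6 => by
    obtain ⟨x, x1, x2, x3⟩ := two v (nd2 h2 h3) (nd2 h5 h6)
    rw [z1 v u x h1 x1 x2, z1 v u' x h4 x1 x3]
  have z3 : ∀ u v, H29.F42.om u v = 0 → u ≠ 0 → v ≠ 0 → u ≠ v → c u * c v * c (u + v) = 1 :=
    fun u v h u0 v0 ne => hf _ fun g => by
      rw [map_mul, map_mul, ← eqv, ← eqv, ← eqv, ac_add]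
      have gv : ac g v ≠ 0 := fun e => v0 (ac_inj g (by rw [e, ac_zero]))
      obtain ⟨w, w0, w1, w2, w3, w4⟩ := perp v (ac g v)
      rw [z2' (ac g v) (ac g u) w (by rw [ac_om, h]) (fun e => u0 (ac_inj g (by rw [e, ac_zero])))
        (fun e => ne (ac_inj g e)) w4 w0 w2, z2' v u w h u0 ne w3 w0 w1, mul_comm (c w), add_comm w,
        mul_comm (c w), add_comm w]
      exact z2' w _ _ (om_comm _ w ▸ w4) gv w2.symm (om_comm _ w ▸ w3) v0 w1.symm
  have add : ∀ u v, c (u + v) = c u * c v := fun u v => by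
    rcases z2 (H29.F42.om u v) with h | h
    · by_cases u0 : u = 0
      · rw [u0, zero_add, c0, one_mul]
      by_cases v0 : v = 0
      · rw [v0, add_zero, c0, mul_one]
      by_cases ne : u = v
      · rw [ne, aa, c0, h2]
      rw [← i (c u * c v)]
      exact eq_inv_of_mul_eq_one_right (z3 u v h u0 v0 ne)
    · exact a1 u v h
  refine ⟨c, Function.Injective.bijective_of_nat_card_le (fun u v e => ?_) (by
    rw [hc]; simp [W, Ix]), add, eqv⟩
  have := (c1 (u + v)).1 (by rw [add, e, h2])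
  rw [← aa'' v u, this, zero_add]

end H12.E64
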