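import Cfsg.Agent.Lib.E64.FR1
import Cfsg.Agent.Lib.E64.FR2
import Cfsg.Agent.Lib.E64.MS
import Cfsg.Agent.Base
import Cfsg.Agent.Lib.GL.Basic
import Cfsg.Agent.Lib.Core.PCore

/-! The frame (see blueprint/E64/README.md) -/

set_option autoImplicit false

namespace H12.E64

open Subgroup Cfsg H69 H45 Gold
open scoped commutatorElement

variable {G : Type*} [Group G] [Finite G]

namespace FR3

open H29.F42 (Sp ac)

theorem psp {F : Type*} [Field F] [Fintype F] (hF : Fintype.card F = 2) : Nonempty (PSp 3 F ≃* Sp) := by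
  have c := Cfsg.Agent.S0246.result hF 3 (by norm_num)
  have e : center (Matrix.symplecticGroup (Fin 3) F) = ⊥ :=
    Subgroup.eq_bot_of_card_eq _ (by rw [c]; decide)
  exact ⟨((QuotientGroup.quotientMulEquivOfEq e).trans QuotientGroup.quotientBot).trans
    (H10.spCongr (ZMod.ringEquivOfPrime F Nat.prime_two hF).symm)⟩

theorem coord {A : Subgroup G} (hA : IsElementaryAbelian 2 A) (hA64 : Nat.card A = 64) (lam : 𝐍(A) →* Sp)
    (h1 : Function.Surjective lam) (h2 : ∀ n, lam n = 1 ↔ (n : G) ∈ 𝐂(A)) (l : Sp →* Au 7)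
    (hl : ∀ g, ∀ x < 64, ac g (H29.F42.MD1.dc x) = H29.F42.MD1.dc (lin (cd (l g)) x)) :
    ∃ α : BV 6 →* G, α.range = A ∧
      ∀ (n : 𝐍(A)) (v : BV 6), n * α v * (n : G)⁻¹ = α (bv 6 (lin (cd (l (lam n))) v.1)) := by
  obtain ⟨σ, hσ⟩ : ∃ σ : Sp →* MulAut A, ∀ n, σ (lam n) = A.normalizerMonoidHom n :=
    ⟨lam.liftOfSurjective h1 ⟨A.normalizerMonoidHom, fun n hn => MulEquiv.ext fun a => Subtype.ext (by
      rw [normalizerMonoidHom_apply_apply_coe, ← (h2 n).1 hn a a.2, mul_inv_cancel_right]; rfl)⟩,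
      fun n => lam.liftOfRightInverse_comp_apply _ _ _ n⟩
  have inj : Function.Injective σ := (injective_iff_map_eq_one σ).2 (h1.forall.2 fun n hn =>
    (h2 n).2 fun a ha => by
      have := normalizerMonoidHom_apply_apply_coe A n ⟨a, ha⟩
      rw [← hσ, hn] at this
      exact eq_mul_inv_iff_mul_eq.1 this)
  have sq : ∀ b : A, b * b = 1 := fun b => Subtype.ext (by simpa [sq] using hA.2 b b.2)
  obtain ⟨t1, t2⟩ := fr_tv sq hA64 σ inj
  obtain ⟨c, c1, c2, c3⟩ := fr_nat sq hA64 σ inj t1 t2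
  have dm : ∀ x, H29.F42.MD1.dc (x % 2 ^ 6) = H29.F42.MD1.dc x := fun x => by
    funext a
    have : Sum.elim (fun i : Fin 3 => i.val) (fun i : Fin 3 => i.val + 3) a < 6 := by
      rcases a with i | i <;> simp <;> omega
    simp only [H29.F42.MD1.dc, Nat.testBit_mod_two_pow, this, decide_true, Bool.true_and]
  refine ⟨MonoidHom.mk' (fun v => (c (H29.F42.MD1.dc v.1) : G)) fun v w => by
    rw [val_mul, H29.F42.MD1.dc_xor, c2, coe_mul], ?_, fun n v => ?_⟩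
  · refine le_antisymm (by rintro _ ⟨v, rfl⟩; exact (c _).2) fun a ha => ?_
    obtain ⟨w, hw⟩ := c1.2 ⟨a, ha⟩
    obtain ⟨x, hx, rfl⟩ := H29.F42.MD1.dc_surj w
    exact ⟨⟨x, hx⟩, congrArg Subtype.val hw⟩
  · show _ = (c (H29.F42.MD1.dc (lin (cd (l (lam n))) v.1 % 2 ^ 6)) : G)
    rw [dm, ← hl _ _ v.2, c3, hσ, normalizerMonoidHom_apply_apply_coe]
    rfl

theorem tauh_eq (v : BV 6) : tauh v = tau v.1 := by simp only [tauh, MonoidHom.mk'_apply]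

theorem tauh_bv {x : ℕ} (h : x < 64) : tauh (bv 6 x) = tau x := by rw [tauh_eq, val_bv h]

theorem sect {N : Type*} [Group N] [Finite N] (φ : N →* Au 7) (h1 : ∀ m ∈ M0, ∃ a, φ a = m)
    (h2 : ∀ a, φ a = 1 → Odd (orderOf a)) {B : Subgroup N} (hB : IsPGroup 2 B) (hT : ∀ b ∈ B, φ b ∈ T0) :
    ∃ ι : Au 7 → N, (∀ s ∈ T0, ∀ t ∈ T0, ι (s * t) = ι s * ι t) ∧ (∀ t ∈ T0, φ (ι t) = t) ∧
      ∀ b ∈ B, ι (φ b) = b := by
  have : Fact (Nat.Prime 2) := ⟨Nat.prime_two⟩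
  obtain ⟨T, hS, le⟩ := exists_isSylowIn_le (L := T0.comap φ) hB hT
  have e := (hS.map φ).max T0 (map_le_iff_le_comap.2 hS.le) (fun t ht => by
    obtain ⟨a, rfl⟩ := h1 t ht.1.1
    exact ⟨a, ht, rfl⟩) isP_T0
  have inj : ∀ a ∈ T, ∀ b ∈ T, φ a = φ b → a = b := fun a ha b hb h => by
    obtain ⟨k, hk⟩ := hS.isP ⟨a⁻¹ * b, mul_mem (inv_mem ha) hb⟩
    have o := h2 (a⁻¹ * b) (by rw [map_mul, map_inv, h, inv_mul_cancel])
    have d : orderOf (a⁻¹ * b) ∣ 2 ^ k := orderOf_dvd_of_pow_eq_one (congrArg Subtype.val hk)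
    exact inv_mul_eq_one.1 (orderOf_eq_one_iff.1 (Nat.Coprime.eq_one_of_dvd
      (Nat.Coprime.pow_right k (Nat.coprime_two_right.2 o)) d))
  choose! ι i1 i2 using fun t (ht : t ∈ T0) => (e.le ht : ∃ a ∈ T, φ a = t)
  exact ⟨ι, fun s hs t ht => inj _ (i1 _ (mul_mem hs ht)) _ (mul_mem (i1 s hs) (i1 t ht))
    (by rw [map_mul, i2 _ (mul_mem hs ht), i2 s hs, i2 t ht]), i2,
    fun b hb => inj _ (i1 _ (hT b hb)) _ (le hb) (i2 _ (hT b hb))⟩

end FR3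

open FR3 in
theorem frame {F : Type*} [Field F] [Fintype F] (hF : Fintype.card F = 2) (A O K : Subgroup G)
    (hA : IsElementaryAbelian 2 A) (hA64 : Nat.card A = 64) (hO : O = (oddCore 𝐍(A)).map 𝐍(A).subtype)
    (hC : IsInternalDirectProduct O A 𝐂(A)) [hn : (𝐂(A).subgroupOf 𝐍(A)).Normal]
    (e : (𝐍(A) ⧸ 𝐂(A).subgroupOf 𝐍(A)) ≃* PSp 3 F) (hK : K ≤ 𝐍(A)) (h1 : K ⊔ (O ⊔ A) = 𝐍(A))
    (h2 : K ⊓ (O ⊔ A) = O) : ∃ c : Fr G, c.A = A := by
  classical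
  obtain ⟨ψ⟩ := psp hF
  obtain ⟨lam, m1, m2⟩ : ∃ lam : 𝐍(A) →* H29.F42.Sp, Function.Surjective lam ∧
      ∀ n, lam n = 1 ↔ (n : G) ∈ 𝐂(A) :=
    ⟨(e.trans ψ).toMonoidHom.comp (QuotientGroup.mk' _),
      (e.trans ψ).surjective.comp (QuotientGroup.mk'_surjective _),
      fun n => (e.trans ψ).map_eq_one_iff.trans (QuotientGroup.eq_one_iff n)⟩
  obtain ⟨l, l1, l2, l3, l4, l5⟩ := exists_sp
  obtain ⟨α, rA, act⟩ := coord hA hA64 lam m1 m2 l l4
  have aA : ∀ v, α v ∈ A := fun v => rA ▸ ⟨v, rfl⟩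
  have inj : Function.Injective α := by
    have := (Nat.bijective_iff_surjective_and_card α.rangeRestrict).2
      ⟨α.rangeRestrict_surjective, by rw [rA, hA64, card_BV]; rfl⟩
    exact fun v w h => this.1 (Subtype.ext h)
  have OK : O ≤ K := h2 ▸ inf_le_left
  have uq : ∀ {v w : BV 6} {g : G}, (α v)⁻¹ * g ∈ K → (α w)⁻¹ * g ∈ K → v = w := fun {v w g} a b => by
    have m : (α v)⁻¹ * α w ∈ K := by simpa [mul_assoc] using mul_mem a (inv_mem b)
    have mA := mul_mem (inv_mem (aA v)) (aA w)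
    exact inj (inv_mul_eq_one.1 (mem_bot.1 (hC.2.2.2.1 ▸ ⟨h2.le ⟨m, mem_sup_right mA⟩, mA⟩)))
  choose t ht using fun n : 𝐍(A) => show ∃ v, (α v)⁻¹ * n ∈ K by
    have : (n : G) ∈ ((A ⊔ K : Subgroup G) : Set G) := by
      rw [sup_comm, ← sup_eq_left.2 OK, sup_assoc, h1]; exact n.2
    rw [coe_mul_of_right_le_normalizer_left _ _ hK] at this
    obtain ⟨a, ha, k, hk, h⟩ := this
    obtain ⟨v, rfl⟩ := rA.ge ha
    exact ⟨v, by rw [← h]; simpa using hk⟩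
  have AC : A ≤ 𝐂(A) := hC.2.1
  have AN : A ≤ 𝐍(A) := le_normalizer
  have la : ∀ v, lam ⟨α v, AN (aA v)⟩ = 1 := fun v => (m2 _).2 (AC (aA v))
  have tm : ∀ n n' : 𝐍(A), t (n * n') = t n * bv 6 (lin (cd (l (lam n))) (t n').1) := fun n n' => by
    refine uq (ht _) ?_
    have c := AC (aA (t n)) _ (aA (bv 6 (lin (cd (l (lam n))) (t n').1)))
    rw [map_mul, ← c, ← act]
    convert mul_mem (ht n) (ht n') using 1
    rw [coe_mul]
    group
  let φ : 𝐍(A) →* Au 7 := MonoidHom.mk' (fun n => tauh (t n) * l (lam n)) fun n n' => by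
    obtain ⟨a, b⟩ := cj_tau (l2 (lam n)) (t n').2
    have : tauh (bv 6 (lin (cd (l (lam n))) (t n').1)) = l (lam n) * tauh (t n') * (l (lam n))⁻¹ := by
      rw [tauh_bv a, ← b, tauh_eq]
    rw [tm, map_mul, map_mul, map_mul, this]
    group
  have φe : ∀ n, φ n = tauh (t n) * l (lam n) := fun _ => rfl
  have φa : ∀ v, φ ⟨α v, AN (aA v)⟩ = tauh v := fun v => by
    rw [φe, la, map_one, mul_one, uq (ht ⟨α v, AN (aA v)⟩) (by simp : (α v)⁻¹ * α v ∈ K)]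
  have φs : ∀ m ∈ M0, ∃ n, φ n = m := fun m hm => by
    obtain ⟨g, v, hv, rfl⟩ := l5 m hm
    obtain ⟨n, rfl⟩ := m1 g
    refine ⟨⟨α (bv 6 v), AN (aA _)⟩ * (⟨α (t n), AN (aA _)⟩⁻¹ * n), ?_⟩
    rw [map_mul, map_mul, map_inv, φa, φa, φe, inv_mul_cancel_left, tauh_bv hv]
  have φk : ∀ n, φ n = 1 → (n : G) ∈ K ∧ (n : G) ∈ 𝐂(A) := fun n h => by
    have a := l3 (lam n)
    rw [φe, mul_eq_one_iff_inv_eq, ← map_inv, bv_inv] at h
    rw [← h, tauh_eq, cd_tau _ (t n).2] at a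
    have b : t n = 1 := BV.ext ((by decide +kernel : ∀ v < 64, lin (tauc v) 64 = 64 → v = 0) _ (t n).2 a)
    rw [b, map_one] at h
    exact ⟨by simpa [b] using ht n, (m2 n).1 (l1 (h.symm.trans (map_one l).symm))⟩
  have φo : ∀ n, φ n = 1 → Odd (orderOf n) := fun n h => by
    have : (n : G) ∈ O := h2.le ⟨(φk n h).1, hC.2.2.2.2.ge (φk n h).2⟩
    rw [hO] at this
    obtain ⟨o, ho, e⟩ := this
    rw [← show o = n from Subtype.ext e]
    exact H1.odd_card_oddCore.of_dvd_nat (Subgroup.orderOf_dvd_natCard _ ho)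
  have AT : ∀ v, tauh v ∈ T0 := fun v => R0_T (A0_R ⟨v, rfl⟩)
  have FT : ∀ v, ffh v ∈ T0 := fun v => R0_T (F0_R ⟨v, rfl⟩)
  obtain ⟨ι, i1, i2, i3⟩ := sect φ φs φo (B := A.subgroupOf 𝐍(A))
    (fun b => ⟨1, Subtype.ext (Subtype.ext (hA.2 _ b.2))⟩) fun b hb => by
      obtain ⟨v, e⟩ := rA.ge hb
      rw [show b = ⟨α v, AN (aA v)⟩ from Subtype.ext e.symm, φa]
      exact AT v
  refine ⟨{
    N := 𝐍(A)
    π := fun g => if h : g ∈ 𝐍(A) then φ ⟨g, h⟩ else 1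
    ι := fun s => ι s
    α := α
    f := MonoidHom.mk' (fun v => ι (ffh v)) fun v w => by rw [map_mul, i1 _ (FT v) _ (FT w), coe_mul]
    π_mul := fun a ha b hb => by rw [dif_pos ha, dif_pos hb, dif_pos (mul_mem ha hb), ← map_mul]; rfl
    π_mem := fun a ha => by rw [dif_pos ha]; exact mul_mem (AT _).1.1 (l2 _)
    π_surj := fun m hm => by
      obtain ⟨n, rfl⟩ := φs m hm
      exact ⟨n, n.2, dif_pos n.2⟩
    π_odd := fun a ha h => by
      rw [dif_pos ha] at h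
      simpa using φo _ h
    ι_mul := fun s hs t ht => by rw [i1 s hs t ht, coe_mul]
    ι_mem := fun s _ => (ι s).2
    π_ι := fun s hs => by rw [dif_pos (ι s).2]; exact i2 s hs
    α_eq := fun v => by rw [← φa, i3 _ (aA v)]
    f_eq := fun _ => rfl
    hN := by rw [rA]
    kc := fun a ha h v => by
      rw [dif_pos ha] at h
      exact ((φk _ h).2 _ (aA v)).symm }, rA⟩

end H12.E64
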