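import Cfsg.Agent.Lib.E64.RY0
import Cfsg.Agent.Lib.E64.COC

/-! The subgroup `E` (see blueprint/E64/README.md) (helper1) -/

set_option autoImplicit false

namespace H12.E64

open Subgroup Cfsg H69 H45 Gold
open scoped commutatorElement

theorem ga1_onto : ∀ v < 512, lin [6, 7, 5, 432, 440, 424, 384, 256, 448] v < 512 ∧
    lin (g9.getD 5 []) (lin [6, 7, 5, 432, 440, 424, 384, 256, 448] v) =
      v ^^^ lin [6, 7, 5, 432, 440, 424, 384, 256, 448] v := by decide +kernel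
theorem ga1_x : ∀ v < 512, 512 ^^^ v < 1024 ∧ (512 ^^^ v) / 512 = 1 ∧ (512 ^^^ v) % 512 = v := by decide +kernel
theorem ga1_cc (a b : ℕ) : a ^^^ (a ^^^ b) = b := by rw [← Nat.xor_assoc, Nat.xor_self, Nat.zero_xor]

variable {G : Type*} [Group G] [Finite G] {c : Fr G}

omit [Finite G] in
theorem ga1_res {f : BV 9 →* G} {e : BV 10 →* G} (he : Function.Injective e) (ef : ∀ v < 512, e (bv 10 v) = f (bv 9 v))
    {n : G} {g : Au 10} {γ : Au 9} (a : Act e n g) (b : Act f n γ) {v : ℕ} (hv : v < 512) :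
    lin (cd g) v = lin (cd γ) v := by
  have h1 := a.bv (x := v) (by omega)
  rw [ef v hv, b.bv hv, ← ef _ (r0_lin9_lt γ v)] at h1
  exact ((bv_eq (n := 10) ((r0_lin9_lt γ v).trans (by omega)) (r0_lin10_lt g v)).1 (he h1)).symm

theorem ga1_take {g : Au 10} {γ : Au 9} (h : ∀ v < 512, lin (cd g) v = lin (cd γ) v) : (cd g).take 9 = cd γ := by
  rw [r0_cd_cols g, r0_cd_cols γ, ← List.map_take, show (idn 10).take 9 = idn 9 from rfl]
  exact List.map_congr_left fun v hv => h v ((by decide : ∀ v ∈ idn 9, v < 512) v hv)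

namespace Fr

omit [Finite G] in
theorem ga1_fl_mod (v : ℕ) : c.fl (v % 512) = c.fl v := by
  rw [fl, fl]; congr 1; exact BV.ext (Nat.mod_mod _ _)

theorem Sx.shift {x : G} (h : c.Sx x) (hx : Act c.f x 1) (u : ℕ) : c.Sx (x * c.fl u) := by
  have cx : ∀ v, Commute x (c.fl v) := fun v => mul_inv_eq_iff_eq_mul.1 (hx _)
  have e : c.R ⊔ zpowers (x * c.fl u) = c.R ⊔ zpowers x := le_antisymm
    (sup_le le_sup_left (zpowers_le.2 (mul_mem (mem_sup_right (mem_zpowers x)) (mem_sup_left (r0_fl_R u)))))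
    (sup_le le_sup_left (zpowers_le.2 ((mul_mem_cancel_right (mem_sup_left (r0_fl_R u))).1
      (mem_sup_right (mem_zpowers _)))))
  refine ⟨mul_mem h.nR (r0_fl_nR u), mul_mem h.nT (le_normalizer (c.R_T (r0_fl_R u))),
    fun k => h.out ((mul_mem_cancel_right (r0_fl_N u)).1 k), fun y hy => ?_, e ▸ h.TR, e ▸ h.sur, fun n hn hR h1 => ?_,
    ?_, fun v hv => ?_, fun v hv => ?_⟩
  · rw [mul_assoc]
    exact (h.two _ (mul_mem (r0_fl_nR u) hy)).imp_left (mul_mem_cancel_left (r0_fl_N u)).1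
  · obtain ⟨v, hv⟩ := h.cos n hn hR (e ▸ h1)
    obtain ⟨γ, a⟩ := r0_exists_actF hR
    refine ⟨(bv 9 u)⁻¹ * (v * γ (bv 9 u)), ?_⟩
    rw [← conj_mul, hv, fl, a, map_mul, map_mul, map_inv]; group
  · obtain ⟨w, hw, k⟩ := h.sq
    exact ⟨w, hw, by rw [mul_assoc, ← mul_assoc (c.fl u), ← (cx u).eq, mul_assoc x, r0_fl_sq, mul_one, k]⟩
  · obtain ⟨w, hw, k⟩ := h.swp v hv
    have hu : u % 512 < 512 := Nat.mod_lt _ (by omega)
    refine ⟨_, r0_xl3 hw (r0_bil_lt (v / 8) (by omega) _ hu), ?_⟩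
    calc _ = x * (c.fl u * c.al v * (c.fl u)⁻¹) * x⁻¹ := by group
      _ = x * c.al v * x⁻¹ * (x * c.fl (r0bil (v / 8) (u % 512)) * x⁻¹) := by
        rw [← ga1_fl_mod, r0_cj_fa hv hu]; group
      _ = _ := by rw [k, (cx _).eq, mul_inv_cancel_right, mul_assoc, ← fl_xor, Nat.xor_assoc]
  · exact ⟨0, by omega, by
      rw [Nat.xor_zero, ((cx v).mul_left (r0_fl_comm u v)).eq, mul_inv_cancel_right], fun _ => rfl⟩

omit [Finite G] in
theorem ga1_e {x : G} (hx : Act c.f x 1) (xx : x * x = 1) :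
    ∃ e : BV 10 →* G, ∀ v < 1024, e (bv 10 v) = c.fl v * x ^ (v / 512) := by
  have cx : ∀ v, Commute x (c.fl v) := fun v => mul_inv_eq_iff_eq_mul.1 (hx _)
  refine ⟨MonoidHom.mk' (fun v => c.fl v.1 * x ^ (v.1 / 512)) fun v w => ?_, fun v hv => ?_⟩
  · have e : x ^ ((v.1 ^^^ w.1) / 512) = x ^ (v.1 / 512) * x ^ (w.1 / 512) := by
      rw [show 512 = 2 ^ 9 from rfl, Nat.xor_div_two_pow]
      have h1 : v.1 / 2 ^ 9 < 2 := by have := v.lt; omega
      have h2 : w.1 / 2 ^ 9 < 2 := by have := w.lt; omega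
      generalize v.1 / 2 ^ 9 = a at h1
      generalize w.1 / 2 ^ 9 = b at h2
      interval_cases a <;> interval_cases b <;> simp [xx]
    rw [val_mul, fl_xor, e, mul_assoc, mul_assoc, ← mul_assoc (c.fl w.1), ← ((cx w.1).pow_left _).eq, mul_assoc]
  · rw [MonoidHom.mk'_apply, val_bv (n := 10) hv]

theorem ga1_aux {x : G} (h : c.Sx x) (hx : Act c.f x 1) (xx : x * x = 1) {s : G} (sN : s ∈ c.N) (sR : s ∈ 𝐍(c.R))
    (sπ : c.π s = E64.mk 7 (gM.getD 5 [])) (sx : s * x * s⁻¹ = x) : ∃ b e, c.Gx b e := by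
  obtain ⟨e, he⟩ := ga1_e hx xx
  have cx : ∀ v, Commute x (c.fl v) := fun v => mul_inv_eq_iff_eq_mul.1 (hx _)
  have ef : ∀ v < 512, e (bv 10 v) = c.fl v := fun v hv => by
    rw [he v (by omega), Nat.div_eq_of_lt hv, pow_zero, mul_one]
  have ex : ∀ v < 512, e (bv 10 (512 ^^^ v)) = c.fl v * x := fun v hv => by
    obtain ⟨a, b, d⟩ := ga1_x v hv
    rw [he _ a, b, pow_one, ← ga1_fl_mod, d]
  have e5 : e (bv 10 512) = x := by
    have := ex 0 (by omega)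
    rwa [r0_fl_zero, one_mul] at this
  have mem : ∀ v, ∃ t < 512, e v = c.fl t ∨ e v = c.fl t * x := forall_bv fun v hv => by
    refine ⟨v % 512, Nat.mod_lt _ (by omega), ?_⟩
    rw [he v hv, ga1_fl_mod]
    rcases (by omega : v / 512 = 0 ∨ v / 512 = 1) with k | k <;> simp [k]
  have inj : Function.Injective e := (injective_iff_map_eq_one e).2 (forall_bv fun v hv k => by
    rw [he v hv] at k
    rcases (by omega : v / 512 = 0 ∨ v / 512 = 1) with j | j <;> rw [j] at k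
    · rw [pow_zero, mul_one, ← r0_fl_zero (c := c)] at k
      rw [r0_fl_inj (by omega) (by omega) k, bv_zero]
    · rw [pow_one] at k
      exact absurd ((mul_mem_cancel_left (r0_fl_N v)).1 (k ▸ one_mem _)) h.out)
  have flE : ∀ v, c.fl v ∈ e.range := fun v => ⟨_, (ef _ (Nat.mod_lt _ (by omega))).trans (ga1_fl_mod v)⟩
  have xE : x ∈ e.range := ⟨_, e5⟩
  have nE : ∀ n ∈ 𝐍(c.R), (∃ v, n * x * n⁻¹ = x * c.f v) → n ∈ 𝐍(e.range) := fun n hR ⟨v, hv⟩ =>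
    mem_normalizer_fintype (by
      rintro _ ⟨u, rfl⟩
      obtain ⟨γ, a⟩ := r0_exists_actF hR
      obtain ⟨t, ht, k | k⟩ := mem u <;> rw [k]
      · rw [a.r0fl ht]; exact flE _
      · rw [← conj_mul, a.r0fl ht, hv, r0_f_fl]
        exact mul_mem (flE _) (mul_mem xE (flE _)))
  have TE : c.T ≤ 𝐍(e.range) := fun t ht => nE t (c.T_nR ht) (h.cos t (c.T_N ht) (c.T_nR ht) (h.TR ht))
  have fE : ∀ v, Act e (c.fl v) 1 := fun v => act_one_iff.2 (Gen.range_le (flE v))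
  have hk : ∀ n ∈ c.N, ∀ g, Act e n g → Act c.f n 1 → g = 1 := fun n hn g a b => by
    have cn : ∀ v, Commute n (c.fl v) := fun v => mul_inv_eq_iff_eq_mul.1 (b _)
    obtain ⟨v, hv⟩ := cent_F0 (c.π_mem n hn) fun v hv => by
      rw [← r0_π_fl (c := c) hv, ← c.π_mul _ hn _ (r0_fl_N v), (cn v).eq, c.π_mul _ (r0_fl_N v) _ hn]
    have o1 : c.π ((c.fl v.1)⁻¹ * n) = 1 := by
      rw [c.π_mul _ (inv_mem (r0_fl_N _)) _ hn, c.π_inv (r0_fl_N _), r0_π_fl (c := c) v.lt, ← hv, ← r0_ffh_bv v.lt,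
        bv_val, inv_mul_cancel]
    have o2 := c.π_odd _ (mul_mem (inv_mem (r0_fl_N _)) hn) o1
    have a' : Act e ((c.fl v.1)⁻¹ * n) g := by simpa using (fE v.1).inv.mul a
    have co : ∀ t, Commute ((c.fl v.1)⁻¹ * n) (c.fl t) := fun t => (r0_fl_comm _ t).inv_left.mul_left (cn t)
    generalize (c.fl v.1)⁻¹ * n = o at o2 a' co
    have cox : Commute o x := by
      obtain ⟨t, ht, k | k⟩ := mem (g (bv 10 512)) <;> rw [← a', e5] at k
      · have : x = c.fl t := by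
          calc x = o⁻¹ * (o * x * o⁻¹) * o := by group
            _ = _ := by rw [k, (co t).inv_left.eq, inv_mul_cancel_right]
        exact absurd (this ▸ r0_fl_N t) h.out
      · refine r0_comm_of_sq o2 (mul_inv_eq_iff_eq_mul.1 ?_)
        calc o * o * x * (o * o)⁻¹ = o * (o * x * o⁻¹) * o⁻¹ := by group
          _ = o * (c.fl t * x) * o⁻¹ := by rw [k]
          _ = o * c.fl t * o⁻¹ * (o * x * o⁻¹) := by group
          _ = x := by rw [(co t).eq, mul_inv_cancel_right, k, ← mul_assoc, r0_fl_sq, one_mul]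
    refine a'.uniq inj fun u => ?_
    obtain ⟨t, -, k | k⟩ := mem u <;> rw [MulAut.one_apply, k]
    · rw [(co t).eq, mul_inv_cancel_right]
    · rw [((co t).mul_right cox).eq, mul_inv_cancel_right]
  obtain ⟨n, hn5, hn⟩ : ∃ n : ℕ → G, n 5 = s ∧ ∀ i < 5, n i = c.ι (E64.mk 7 (gM.getD i [])) :=
    ⟨fun i => if i = 5 then s else c.ι (E64.mk 7 (gM.getD i [])), if_pos rfl, fun i hi => if_neg (by omega)⟩
  have nT : ∀ i < 5, n i ∈ c.T := fun i hi => hn i hi ▸ r0_ι_T (r0_gM_mem_T hi)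
  have nP : ∀ i < 6, n i ∈ c.N ∧ n i ∈ 𝐍(c.R) ∧ n i ∈ 𝐍(e.range) ∧ c.π (n i) = E64.mk 7 (gM.getD i []) := fun i hi => by
    rcases (by omega : i = 5 ∨ i < 5) with rfl | k
    · rw [hn5]
      exact ⟨sN, sR, nE s sR ⟨1, by rw [sx, map_one, mul_one]⟩, sπ⟩
    · exact ⟨c.T_N (nT i k), c.T_nR (nT i k), TE (nT i k), by rw [hn i k, c.π_ι _ (r0_gM_mem_T k)]⟩
  choose! g hg using fun i (hi : i < 6) => exists_act inj (nP i hi).2.2.1
  have af : ∀ i < 6, Act c.f (n i) (E64.mk 9 (g9.getD i [])) := fun i hi =>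
    r0_act_g9 (nP i hi).1 (nP i hi).2.1 hi (nP i hi).2.2.2
  obtain ⟨b, hb⟩ := coc (Λ := AutG e (c.N ⊓ 𝐍(c.R))) (fun γ hγ v hv => by
      obtain ⟨m, hm, a⟩ := mem_autG.1 hγ
      obtain ⟨δ, a'⟩ := r0_exists_actF hm.2
      rw [ga1_res inj ef a a' hv]
      exact Or.inl (r0_lin9_lt δ v))
    (fun γ hγ k => by
      obtain ⟨m, hm, a⟩ := mem_autG.1 hγ
      refine hk m hm.1 γ a (forall_bv fun v hv => ?_)
      have := a.bv (x := v) (by omega)
      rwa [k v hv, ef v hv] at this) g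
    (fun i hi => ⟨mem_autG.2 ⟨n i, ⟨(nP i hi).1, (nP i hi).2.1⟩, hg i hi⟩, by
      rw [ga1_take fun v hv => ga1_res inj ef (hg i hi) (af i hi) hv, r0_cd_g9' hi]⟩)
    (by
      have := (hg 5 (by omega)).bv (x := 512) (by omega)
      rw [e5, hn5, sx, ← e5] at this
      exact ((bv_eq (n := 10) (by omega) (r0_lin10_lt _ _)).1 (inj this)).symm)
    (by
      obtain ⟨w, hw, k⟩ := h.swp 32 (by omega)
      have ht : dl (32 / 8) ^^^ w < 512 := r0_xl9 (r0_dl_lt _ (by omega)) (by omega)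
      have := (hg 2 (by omega)).bv (x := 512) (by omega)
      have e2 : n 2 = c.al 32 := by rw [hn 2 (by omega), c.al_eq (by omega)]; rfl
      have e3 : c.al 32 * x * (c.al 32)⁻¹ = c.fl (dl (32 / 8) ^^^ w) * x := by
        calc _ = (c.al 32)⁻¹ * (x * c.al 32 * x⁻¹) * x := by rw [r0_al_inv]; group
          _ = _ := by rw [k]; group
      rw [e5, e2, e3, ← ex _ ht] at this
      refine ⟨w, hw, ?_⟩
      rw [← (bv_eq (n := 10) (ga1_x _ ht).1 (r0_lin10_lt _ _)).1 (inj this), ← Nat.xor_assoc]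
      rfl)
  have len : (g10 b).length = 6 := by cases b <;> rfl
  have gL : ∀ k ≤ 6, ∀ i < k, g i ∈ cl 10 ((g10 b).take k) := fun k hk i hi => by
    rw [hb i (by omega), List.getD_eq_getElem _ _ (by omega)]
    refine r0_mem_cl (List.mem_take_iff_getElem.2 ⟨i, by omega, rfl⟩)
  have gL' : ∀ k ≤ 6, ∀ H : Subgroup (Au 10), (∀ i < k, g i ∈ H) → cl 10 ((g10 b).take k) ≤ H := fun k hk H hH =>
    r0_cl_le fun i hi => by
      have hi' : i < k := by rw [List.length_take] at hi; omega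
      have := hH i hi'
      rwa [hb i (by omega), List.getD_eq_getElem _ _ (by omega), ← List.getElem_take (j := k) (h := hi),
        ← List.getD_eq_getElem _ []] at this
  have L6 : cl 10 ((g10 b).take 6) = L0 b := by rw [List.take_of_length_le len.le, L0]
  have low : ∀ k ≤ 5, ∀ t ∈ cl 7 (gM.take k) ⊔ F0, t ∈ T0 ∧ ∃ γ ∈ cl 10 ((g10 b).take k), Act e (c.ι t) γ := by
    intro k hk
    refine (sup_le (r0_cl_le fun i hi => ?_) ?_ : _ ≤ sg (fun t => t ∈ T0 ∧ ∃ γ ∈ cl 10 ((g10 b).take k), Act e (c.ι t) γ)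
      ⟨one_mem _, 1, one_mem _, c.ι_one ▸ Act.one⟩ fun t t' ⟨a, γ, a1, a2⟩ ⟨a', γ', a1', a2'⟩ =>
        ⟨mul_mem a a', _, mul_mem a1 a1', c.ι_mul t a t' a' ▸ a2.mul a2'⟩)
    · have hi' : i < k := by rw [List.length_take] at hi; omega
      have e : (gM.take k).getD i [] = gM.getD i [] := by
        rw [List.getD_eq_getElem _ _ hi, List.getElem_take, ← List.getD_eq_getElem]
      rw [e]
      exact ⟨r0_gM_mem_T (by omega), _, gL k (by omega) i hi', hn i (by omega) ▸ hg i (by omega)⟩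
    · rintro _ ⟨v, rfl⟩
      rw [← bv_val v, r0_ffh_bv v.lt]
      exact ⟨r0_ff_T v.lt, 1, one_mem _, c.fl_eq v.lt ▸ fE _⟩
  refine ⟨b, e, inj, ef, e5 ▸ h.nR, e5 ▸ h.two, TE, ?_, fun m hm hR hE => ?_,
    L6 ▸ gL' 6 le_rfl _ fun i hi => mem_autG.2 ⟨n i, ⟨(nP i hi).1, (nP i hi).2.1⟩, hg i hi⟩,
    le_antisymm (fun γ hγ => ?_) (gL' 5 (by omega) _ fun i hi => mem_autG.2 ⟨n i, nT i hi, hg i (by omega)⟩),
    A10_eq b ▸ le_antisymm (fun γ hγ => ?_) (gL' 3 (by omega) _ fun i hi => mem_autG.2 ⟨n i, ?_, hg i (by omega)⟩)⟩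
  · rintro _ ⟨u, rfl⟩
    have := fun t => le_normalizer (c.R_T (r0_fl_R (c := c) t))
    obtain ⟨t, -, k | k⟩ := mem u <;> rw [k]
    exacts [this t, mul_mem (this t) h.nT]
  · obtain ⟨γ, a⟩ := exists_act inj hE
    obtain ⟨δ, a'⟩ := r0_exists_actF hR
    have hδ : δ ∈ G9 false := c.aut_P ▸ mem_autG.2 ⟨m, ⟨hm, hR⟩, a'⟩
    obtain ⟨γ0, h0, m0, hm0, b1, b2⟩ := (r0_cl_le fun i hi => by
        have hi : i < 6 := hi
        exact ⟨g i, L6 ▸ gL 6 le_rfl i hi, n i, (nP i hi).1, hg i hi, af i hi⟩ :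
      G9 false ≤ sg (fun δ => ∃ γ0 ∈ L0 b, ∃ m0 ∈ c.N, Act e m0 γ0 ∧ Act c.f m0 δ)
        ⟨1, one_mem _, 1, one_mem _, Act.one, Act.one⟩ fun _ _ ⟨_, a1, _, a2, a3, a4⟩ ⟨_, b1, _, b2, b3, b4⟩ =>
          ⟨_, mul_mem a1 b1, _, mul_mem a2 b2, a3.mul b3, a4.mul b4⟩) hδ
    have := hk _ (mul_mem (inv_mem hm0) hm) _ (b1.inv.mul a) (inv_mul_cancel δ ▸ b2.inv.mul a')
    rw [← inv_mul_eq_one.1 this] at a
    exact ⟨γ0, h0, a⟩
  · obtain ⟨t, ht, a⟩ := mem_autG.1 hγ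
    obtain ⟨t', ht', rfl⟩ := (c.mem_im le_rfl).1 ht
    obtain ⟨-, γ', h1, h2⟩ := low 5 le_rfl t' (T0_le ht')
    rw [a.uniq inj h2]
    exact h1
  · obtain ⟨t, ht, a⟩ := mem_autG.1 hγ
    rw [c.A_eq] at ht
    obtain ⟨t', ht', rfl⟩ := (c.mem_im (A0_R.trans R0_T)).1 ht
    obtain ⟨-, γ', h1, h2⟩ := low 3 (by omega) t' (A0_le ht')
    rw [a.uniq inj h2]
    exact h1
  · have : n i = c.al (8 * 2 ^ i) := by
      rw [hn i (by omega), c.al_eq (by interval_cases i <;> omega)]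
      interval_cases i <;> rfl
    rw [this]
    exact c.al_mem _

theorem Sx.ga {x : G} (h : c.Sx x) (hx : Act c.f x 1) (xx : x * x = 1) : ∃ b e, c.Gx b e := by
  obtain ⟨s, sN, sR, h1, sπ⟩ := h.sur _ (r0_gM_mem_P (i := 5) (by omega))
  obtain ⟨v, hv⟩ := h.cos s sN sR h1
  obtain ⟨hu, e⟩ := ga1_onto v.1 v.lt
  generalize lin [6, 7, 5, 432, 440, 424, 384, 256, 448] v.1 = u at hu e
  have cx : ∀ v, Commute x (c.fl v) := fun v => mul_inv_eq_iff_eq_mul.1 (hx _)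
  refine ga1_aux (h.shift hx u) ?_ ?_ sN sR sπ ?_
  · simpa using hx.mul (act_one_iff.2 (Gen.range_le (c.fl_mem u)))
  · rw [mul_assoc, ← mul_assoc (c.fl u), ← (cx u).eq, mul_assoc x, r0_fl_sq, mul_one, xx]
  · rw [← conj_mul, hv, (r0_act_g9 sN sR (by omega) sπ).r0fl hu, r0_cd_g9' (by omega), e, r0_f_fl, mul_assoc, ← fl_xor,
      ga1_cc]

end Fr

end H12.E64
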