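import Cfsg.Agent.Lib.E64.M9G

/-! The groups acting on `BV 10` (see blueprint/E64/README.md) -/

set_option autoImplicit false

namespace H12.E64

open Subgroup Cfsg H69 H45 Gold
open scoped commutatorElement

theorem cd_g10 (c : Bool) : ∀ l ∈ g10 c ++ [xic], cd (mk 10 l) = l := fun l hl =>
  cd_mki ((by decide +kernel : ∀ c, ∀ l ∈ g10 c ++ [xic], oki 10 l = true) c l hl)
theorem cd_y0 : cd y0 = [1, 2, 4, 8, 16, 36, 64, 129, 258, 581] := cd_g10 true _ (by decide)
theorem A10_eq (c : Bool) : cl 10 ((g10 c).take 3) = A10 := by cases c <;> rfl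

namespace M10

open M9G

theorem cA : ∀ l ∈ (g10 true).take 3, cd (mk 10 l) = l := fun l hl => cd_g10 true l (by revert l; decide)
theorem cL (c : Bool) : ∀ l ∈ (g10 c).drop 3, cd (mk 10 l) = l := fun l hl => cd_g10 c l (by revert l c; decide)
theorem cU (c : Bool) : ∀ l ∈ ((g10 c).drop 3).take 2, cd (mk 10 l) = l := fun l hl =>
  cd_g10 c l (by revert l c; decide)
theorem cT : ∀ l ∈ (g10 true).take 5, cd (mk 10 l) = l := fun l hl => cd_g10 true l (by revert l; decide)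
theorem cG (c : Bool) : ∀ l ∈ g10 c, cd (mk 10 l) = l := fun l hl => cd_g10 c l (List.mem_append_left _ hl)
theorem cX : ∀ l ∈ [xic], cd (mk 10 l) = l := fun l hl => cd_g10 true l (List.mem_append_right _ hl)

theorem isA : Is A10 y10 := Is.of_chk cA [0, 1, 2, 6, 3, 7, 11, 27] (by decide +kernel)
theorem isK1 : Is (cl 10 ((g10 true).drop 3)) (tab10 true) := Is.of_chk (cL _) lw (by decide +kernel)
theorem isK0 : Is (cl 10 ((g10 false).drop 3)) (tab10 false) := Is.of_chk (cL _) lw (by decide +kernel)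
theorem isK : ∀ c, Is (cl 10 ((g10 c).drop 3)) (tab10 c)
  | true => isK1
  | false => isK0
theorem isU (c : Bool) : Is (cl 10 (((g10 c).drop 3).take 2)) ((tab10 c).take 8) :=
  Is.of_chk (cU c) (lw.take 8) (by revert c; decide +kernel)
theorem isX : Is (cl 10 [xic]) [idn 10, xic] := Is.of_chk cX [0, 1] (by decide +kernel)

theorem nK (c : Bool) : cl 10 ((g10 c).drop 3) ≤ 𝐍(A10) := norm_of (cL c) cA isA.2 (by revert c; decide +kernel)
theorem nU (c : Bool) : cl 10 (((g10 c).drop 3).take 2) ≤ 𝐍(A10) :=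
  norm_of (cU c) cA isA.2 (by revert c; decide +kernel)

theorem eL (c : Bool) : L0 c = cl 10 ((g10 c).drop 3) ⊔ A10 := by
  rw [← A10_eq c, ← cl_app, List.take_append_drop, L0]
theorem eT (c : Bool) : T10 c = cl 10 (((g10 c).drop 3).take 2) ⊔ A10 := by
  rw [← A10_eq c, ← cl_app, ← List.take_add, T10]

theorem isT (c : Bool) : Is (T10 c) (t10 c) := eT c ▸ (isU c).sup isA (nU c)
theorem isL (c : Bool) : Is (L0 c) (el10 c) := eL c ▸ (isK c).sup isA (nK c)
theorem nX : cl 10 [xic] ≤ 𝐍(T10 true) := norm_of cX cT (isT true).2 (by decide +kernel)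
theorem isS : Is S10 s10 := by
  rw [S10, cl_app]
  exact isX.sup (isT true) nX

end M10

open M9G M10

theorem mem_A10 {g : Au 10} : g ∈ A10 ↔ cd g ∈ y10 := isA.iff
theorem mem_T10 {c : Bool} {g : Au 10} : g ∈ T10 c ↔ cd g ∈ t10 c := (isT c).iff
theorem mem_L0 {c : Bool} {g : Au 10} : g ∈ L0 c ↔ cd g ∈ el10 c := (isL c).iff
theorem mem_S10 {g : Au 10} : g ∈ S10 ↔ cd g ∈ s10 := isS.iff
theorem card_S10 : Nat.card S10 = 128 := (isS.card (by decide +kernel)).trans (by decide +kernel)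
theorem isP_S10 : IsPGroup 2 S10 := IsPGroup.of_card (n := 7) card_S10
theorem isP_T10 (c : Bool) : IsPGroup 2 (T10 c) :=
  IsPGroup.of_card (n := 6) (((isT c).card (by revert c; decide +kernel)).trans (by revert c; decide +kernel))
theorem y0_mem : y0 ∈ A10 := mk_mem (by decide)
theorem A10_T (c : Bool) : A10 ≤ T10 c := cl_mono (by revert c; decide)
theorem T10_L (c : Bool) : T10 c ≤ L0 c := cl_mono fun _ => List.mem_of_mem_take
theorem T10_S : T10 true ≤ S10 := cl_mono fun _ => List.mem_append_left _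
theorem S10_L : S10 ≤ L1 := cl_mono (by decide)
theorem L0_L : L0 true ≤ L1 := cl_mono fun _ => List.mem_append_left _
theorem L0_W (c : Bool) : L0 c ≤ St 10 8 := le_St (cG c) (by revert c; decide +kernel)
theorem L0_F (c : Bool) : L0 c ≤ St 10 512 := le_St (cG c) (by revert c; decide +kernel)
theorem L0_nA (c : Bool) : L0 c ≤ 𝐍(A10) := eL c ▸ sup_le (nK c) le_normalizer
theorem fix_L0 {c : Bool} {g : Au 10} (hg : g ∈ L0 c) (h : g ∈ Fx 10 [1, 2, 4]) : g ∈ A10 := by
  obtain ⟨k, hk, y, hy, rfl⟩ := exists_mul (nK c) (eL c ▸ hg)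
  have hm : ∀ x ∈ [1, 2, 4], x < 2 ^ 10 := by decide
  have h1 := (mem_Fx hm).1 ((mul_mem_cancel_right (le_Fx cA hm (by decide +kernel) hy)).1 h)
  obtain rfl : k = 1 := cd_inj (((by decide +kernel :
    ∀ c, ∀ l ∈ tab10 c, (∀ x ∈ [1, 2, 4], lin l x = x) → l = idn 10) c _ ((isK c).1 k hk) h1).trans cd_one.symm)
  rwa [one_mul]
theorem res_L0 {c : Bool} {g h : Au 10} (hg : g ∈ L0 c) (hh : h ∈ L0 c) (e : (cd g).take 9 = (cd h).take 9) :
    g = h := by
  have e1 : ∀ i < 9, (g⁻¹ * h) (bv 10 (2 ^ i)) = bv 10 (2 ^ i) := fun i hi => by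
    rw [cd, cd, ← List.map_take, ← List.map_take, List.map_inj_left] at e
    rw [MulAut.mul_apply, ← BV.ext (e i (by revert i; decide)), MulAut.inv_apply_self]
  have e2 : g⁻¹ * h ∈ Fx 10 [1, 2, 4] := mem_sg.2 (by
    simpa using ⟨e1 0 (by omega), e1 1 (by omega), e1 2 (by omega)⟩)
  have e3 : g⁻¹ * h ∈ Fx 10 [8, 16, 32] := mem_sg.2 (by
    simpa using ⟨e1 3 (by omega), e1 4 (by omega), e1 5 (by omega)⟩)
  have := (by decide +kernel : ∀ l ∈ y10, (∀ x ∈ [8, 16, 32], lin l x = x) → l = idn 10) _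
    (isA.1 _ (fix_L0 (mul_mem (inv_mem hg) hh) e2)) ((mem_Fx (by decide)).1 e3)
  exact inv_mul_eq_one.1 (cd_inj (this.trans cd_one.symm))

end H12.E64
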