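import Cfsg.Agent.Lib.E64.RY0
import Cfsg.Agent.Lib.E64.M10

/-! The automiser of `E` (see blueprint/E64/README.md) (helper1) -/

set_option autoImplicit false

namespace H12.E64

open Subgroup Cfsg H69 H45 Gold
open scoped commutatorElement

theorem ga2_cd {y : ℕ} (hy : y < 8) : cd (mk 10 (y10.getD y [])) = y10.getD y [] :=
  cd_mk _ ((by decide +kernel : ∀ y < 8, ok 10 (y10.getD y []) (y10.getD y []) = true) y hy)
theorem ga2_f1 : ∀ y < 8, ∀ i < 9, lin (y10.getD y []) (2 ^ i) < 512 ∧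
    cm (tauc (8 * y)) (ffc (2 ^ i)) = cm (ffc (lin (y10.getD y []) (2 ^ i))) (tauc (8 * y)) := by decide +kernel
theorem ga2_f2 : ∀ v < 1024, lin (y10.getD 1 []) v = v → lin (y10.getD 2 []) v = v → lin (y10.getD 4 []) v = v →
    v < 8 := by decide +kernel
theorem ga2_f3 : ∀ y < 8, y ≠ 0 → ∀ v < 1024, (lin (y10.getD y []) v ^^^ v < 8 ↔ v < 512) := by decide +kernel
theorem ga2_f4 : ∀ y < 8, y10.getD y [] = idn 10 → y = 0 := by decide +kernel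
theorem ga2_take {g h : Au 10} (e : ∀ i < 9, lin (cd g) (2 ^ i) = lin (cd h) (2 ^ i)) : (cd g).take 9 = (cd h).take 9 := by
  rw [r0_cd_cols g, r0_cd_cols h, ← List.map_take, ← List.map_take]
  refine List.map_congr_left fun v hv => ?_
  obtain ⟨i, hi, rfl⟩ := (by decide : ∀ v ∈ (idn 10).take 9, ∃ i < 9, v = 2 ^ i) v hv
  exact e i hi

variable {G : Type*} [Group G] [Finite G] {c : Fr G} {b : Bool} {e : BV 10 →* G}

namespace Fr

theorem Gx.FE (h : c.Gx b e) : c.F ≤ e.range := fun _ hg => by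
  obtain ⟨v, hv, rfl⟩ := r0_mem_F.1 hg
  exact ⟨_, h.ef v hv⟩

theorem Gx.act_of (h : c.Gx b e) {n : G} (hn : n ∈ c.N) (hR : n ∈ 𝐍(c.R)) (hE : n ∈ 𝐍(e.range))
    {g : Au 10} (hg : g ∈ L0 b)
    (ha : ∀ i < 9, c.π n * ff (2 ^ i) * (c.π n)⁻¹ = ff (lin (cd g) (2 ^ i))) : Act e n g := by
  obtain ⟨g0, h0, a⟩ := h.ex n hn hR hE
  rwa [res_L0 h0 hg (ga2_take fun i hi => ?_)] at a
  have h1 : 2 ^ i < 512 := Nat.pow_lt_pow_right (n := 9) (by norm_num) hi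
  have h2 : lin (cd g) (2 ^ i) < 512 := (L0_F b hg _ h1).resolve_right (by omega)
  have h3 := a.bv (x := 2 ^ i) (by omega)
  rw [h.ef _ h1, c.fl_eq h1, (c.cj_ι hn (r0_ff_T h1) (by
    rw [← c.fl_eq h1]; exact c.R_T (conj_mem_of_mem_normalizer hR (r0_fl_R _)))).2, ha i hi, ← c.fl_eq h2,
    ← h.ef _ h2] at h3
  exact ((bv_eq (n := 10) (r0_lin10_lt _ _) (r0_lin10_lt _ _)).1 (h.inj h3)).symm

theorem Gx.ga2_act (h : c.Gx b e) {y : ℕ} (hy : y < 8) : Act e (c.al (8 * y)) (E64.mk 10 (y10.getD y [])) :=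
  h.act_of (r0_al_N _) (r0_al_nR _) (h.TE (c.R_T (r0_al_R _)))
    (T10_L b (A10_T b (mem_A10.2 (by rw [ga2_cd hy]; exact (by decide : ∀ y < 8, y10.getD y [] ∈ y10) y hy))))
    fun i hi => by
      have h1 : 2 ^ i < 512 := Nat.pow_lt_pow_right (n := 9) (by norm_num) hi
      rw [r0_π_al (by omega), ga2_cd hy, mul_inv_eq_iff_eq_mul, cd_eq_iff, cd_mul, cd_mul, cd_tau _ (by omega),
        cd_ff _ h1, cd_ff _ (ga2_f1 y hy i hi).1]
      exact (ga2_f1 y hy i hi).2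

theorem Gx.act_y0 (h : c.Gx b e) : Act e (c.al 32) y0 := h.ga2_act (y := 4) (by omega)

theorem Gx.isP (h : c.Gx b e) : IsPGroup 2 (c.T ⊔ e.range : Subgroup G) :=
  c.isP_T.to_sup_of_normal_right' isP_range h.TE

omit [Finite G] in
theorem Gx.ga2_AE (h : c.Gx b e) : c.A ≤ 𝐍(e.range) := (r0_A_R.trans c.R_T).trans h.TE

theorem Gx.ga2_mem (h : c.Gx b e) {r : G} (hr : r ∈ c.A ⊔ e.range) :
    ∃ y < 8, ∃ v < 1024, r = c.al (8 * y) * e (bv 10 v) := by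
  obtain ⟨a, ha, _, ⟨u, rfl⟩, rfl⟩ := (mem_sup_of_le_normalizer_right h.ga2_AE).1 hr
  obtain ⟨v, hv, rfl⟩ := r0_mem_A.1 ha
  refine ⟨v / 8, by omega, (bv 10 (v % 8) * u).1, BV.lt _, ?_⟩
  rw [bv_val, map_mul, h.ef _ (by omega), ← mul_assoc, ← r0_al_split hv]

theorem Gx.ga2_cent (h : c.Gx b e) {y : ℕ} (hy : y < 8) (k : c.al (8 * y) ∈ 𝐂(e.range)) : y = 0 :=
  ga2_f4 y hy (by rw [← ga2_cd hy, (h.ga2_act hy).uniq h.inj (act_one_iff.2 k), cd_one])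

theorem Gx.ga2_sq (h : c.Gx b e) {y v : ℕ} (hy : y < 8) (hv : v < 1024) :
    c.al (8 * y) * e (bv 10 v) * (c.al (8 * y) * e (bv 10 v)) = e (bv 10 (lin (y10.getD y []) v ^^^ v)) := by
  have := (h.ga2_act hy).bv (x := v) hv
  rw [ga2_cd hy, r0_al_inv] at this
  rw [bv_xor, map_mul, ← this]; group

theorem Gx.ga2_Z (h : c.Gx b e) {v : ℕ} (hv : v < 1024) : e (bv 10 v) ∈ 𝐂(c.A ⊔ e.range) ↔ v < 8 := by
  constructor
  · intro k
    have : ∀ y < 8, lin (y10.getD y []) v = v := fun y hy => by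
      have h1 := (h.ga2_act hy).bv (x := v) hv
      rw [mem_centralizer_iff_commute.1 k _ (mem_sup_left (c.al_mem _)), mul_inv_cancel_right] at h1
      rw [← ga2_cd hy]
      exact ((bv_eq (n := 10) hv (r0_lin10_lt _ _)).1 (h.inj h1)).symm
    exact ga2_f2 v hv (this 1 (by omega)) (this 2 (by omega)) (this 4 (by omega))
  · intro k
    rw [centralizer_sup]
    refine ⟨mem_centralizer_iff_commute.2 fun a ha => ?_, Gen.range_le ⟨_, rfl⟩⟩
    rw [h.ef v (by omega)]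
    exact r0_R_W (r0_A_R ha) k

theorem Gx.ga2_R (h : c.Gx b e) : c.R ≤ c.A ⊔ e.range := c.R_eq ▸ sup_le_sup_left h.FE _

theorem Gx.nR1 (h : c.Gx b e) : 𝐍(c.A ⊔ e.range) ⊓ 𝐍(e.range) ≤ 𝐍(c.R) := by
  rintro g ⟨g1, g2⟩
  have l10 : ∀ y < 8, ∀ v < 1024, lin (y10.getD y []) v ^^^ v < 1024 := fun y hy v hv =>
    Nat.xor_lt_two_pow (n := 10) (ga2_cd hy ▸ r0_lin10_lt _ v) hv
  have key : ∀ y < 8, y ≠ 0 → ∀ v < 512, g * (c.al (8 * y) * c.fl v) * g⁻¹ ∈ c.R := fun y hy y0 v hv => by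
    obtain ⟨y', hy', v', hv', k⟩ := h.ga2_mem (conj_mem_of_mem_normalizer g1 (h.ga2_R (mul_mem (r0_al_R (8 * y)) (r0_fl_R v))))
    have y1 : y' ≠ 0 := by
      rintro rfl
      rw [mul_zero, r0_al_zero, one_mul] at k
      have := conj_mem_of_mem_normalizer' g2 (k ▸ ⟨_, rfl⟩ : g * (c.al (8 * y) * c.fl v) * g⁻¹ ∈ e.range)
      rw [show g⁻¹ * (g * (c.al (8 * y) * c.fl v) * g⁻¹) * g = c.al (8 * y) * c.fl v by group] at this
      exact y0 (h.ga2_cent hy (Gen.range_le ((mul_mem_cancel_right (h.FE (c.fl_mem v))).1 this)))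
    have z := (h.ga2_Z (l10 y hy v (by omega))).2 ((ga2_f3 y hy y0 v (by omega)).2 hv)
    rw [← h.ga2_sq hy (by omega), h.ef v hv] at z
    have z' := conj_mem_of_mem_normalizer (normalizer_le_normalizer_centralizer _ g1) z
    rw [← conj_mul, k, h.ga2_sq hy' hv'] at z'
    rw [k, h.ef v' ((ga2_f3 y' hy' y1 v' hv').1 ((h.ga2_Z (l10 y' hy' v' hv')).1 z'))]
    exact mul_mem (r0_al_R _) (r0_fl_R _)
  refine mem_normalizer_fintype fun r hr => ?_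
  obtain ⟨y, hy, v, hv, rfl⟩ := c.mem_R.1 hr
  by_cases y0 : y = 0
  · have := mul_mem (inv_mem (key 1 (by omega) (by omega) 0 (by omega))) (key 1 (by omega) (by omega) v hv)
    rw [y0, mul_zero, r0_al_zero, one_mul]
    rwa [r0_fl_zero, show (g * (c.al (8 * 1) * 1) * g⁻¹)⁻¹ * (g * (c.al (8 * 1) * c.fl v) * g⁻¹) = g * c.fl v * g⁻¹ by
      group] at this
  · exact key y hy y0 v hv

theorem Gx.ga2_lift (h : c.Gx b e) : IsSylowIn 2 (c.A ⊔ e.range) (c.A ⊔ e.range ⊔ 𝐂(e.range)) ∧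
    AutG e ⊤ ⊓ 𝐍(AutG e (c.A ⊔ e.range)) ≤ AutG e 𝐍(c.A ⊔ e.range) := by
  refine lift_norm h.inj (h.isP.to_le (sup_le_sup_right (r0_A_R.trans c.R_T) _)) le_sup_right
    (sup_le h.ga2_AE le_normalizer) fun z hz hn p => ?_
  have hR := h.nR1 ⟨hn, centralizer_le_normalizer _ hz⟩
  have xE : e (bv 10 512) ∈ e.range := ⟨_, rfl⟩
  rcases h.two z hR with k | k
  · exact mem_sup_right (h.FE (c.cF_N k (centralizer_anti h.FE hz) (p.to_le (sup_le_sup_right h.ga2_R _))))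
  · refine mem_sup_right ((mul_mem_cancel_left xE).1 (h.FE (c.cF_N k
      (centralizer_anti h.FE (mul_mem (Gen.range_le xE) hz)) (p.to_le (sup_le (h.ga2_R.trans le_sup_left) ?_)))))
    exact zpowers_le.2 (mul_mem (mem_sup_left (mem_sup_right xE)) (mem_sup_right (mem_zpowers z)))

theorem Gx.sylE (h : c.Gx b e) : IsSylowIn 2 e.range 𝐂(e.range) := by
  have : Fact (Nat.Prime 2) := ⟨Nat.prime_two⟩
  have := h.ga2_lift.1.inf_normal le_sup_right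
    (sup_le (le_normalizer_centralizer (sup_le h.ga2_AE le_normalizer)) le_normalizer)
  rwa [show (c.A ⊔ e.range) ⊓ 𝐂(e.range) = e.range from le_antisymm ?_ (le_inf le_sup_right Gen.range_le)] at this
  rintro r ⟨hr, k⟩
  obtain ⟨y, hy, v, -, rfl⟩ := h.ga2_mem hr
  rw [h.ga2_cent hy ((mul_mem_cancel_right (Gen.range_le ⟨_, rfl⟩)).1 k), mul_zero, r0_al_zero, one_mul]
  exact ⟨_, rfl⟩

theorem Gx.h10 (h : c.Gx b e) : H10 b (AutG e ⊤) := by
  refine ⟨h.sur.trans (autG_mono le_top), fun γ hγ => ?_⟩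
  have e1 : AutG e (c.A ⊔ e.range) = A10 := by
    rw [autG_sup h.inj h.ga2_AE le_normalizer, autG_range h.inj, sup_bot_eq, h.aA]
  obtain ⟨g, hg, a⟩ := mem_autG.1 (h.ga2_lift.2 (e1 ▸ hγ))
  have hR := h.nR1 ⟨hg, a.nrm⟩
  rcases h.two g hR with k | k
  · obtain ⟨g0, h0, a0⟩ := h.ex g k hR a.nrm
    rwa [a.uniq h.inj a0]
  · have a' := (act_one_iff.2 (Gen.range_le ⟨bv 10 512, rfl⟩)).mul a
    obtain ⟨g0, h0, a0⟩ := h.ex _ k (mul_mem h.nR hR) a'.nrm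
    rwa [← one_mul γ, a'.uniq h.inj a0]

end Fr

end H12.E64
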