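import Cfsg.Agent.Lib.E64.P10A

/-! `a` is not conjugate to `d` in `E` (see blueprint/E64/README.md) -/

set_option autoImplicit false

namespace H12.E64

open Subgroup Cfsg H69 H45 Gold
open scoped commutatorElement

variable {c : Bool} {Λ : Subgroup (Au 10)}

namespace P10Cx

theorem zc {X : Type*} [Group X] [Finite X] {C T P : Subgroup X} (pT : IsPGroup 2 T) (pP : IsPGroup 2 P)
    (hT : T ≤ C) (hP : P ≤ C) {t : X} (ht : t ∈ T) (t1 : t ≠ 1) : ∃ n ∈ C, ∃ ζ ∈ C, ζ ≠ 1 ∧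
      (∀ t ∈ T, t * ζ = ζ * t) ∧ ∀ p ∈ P, p * (n * ζ * n⁻¹) = n * ζ * n⁻¹ * p := by
  obtain ⟨S, hS⟩ := (pT.comap_subtype (K := C)).exists_le_sylow
  obtain ⟨S', hS'⟩ := (pP.comap_subtype (K := C)).exists_le_sylow
  obtain ⟨n, rfl⟩ := MulAction.exists_smul_eq C S S'
  have : Nontrivial S := ⟨⟨⟨t, hT ht⟩, hS ht⟩, 1, fun e => t1 (congrArg (fun x : S => ((x : C) : X)) e)⟩
  have := S.2.center_nontrivial
  obtain ⟨ζ, z1⟩ := exists_ne (1 : center S)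
  have k : ∀ s ∈ (S : Subgroup C), (s : X) * (ζ : C) = (ζ : C) * s := fun s hs =>
    congrArg (fun x : S => ((x : C) : X)) (mem_center_iff.1 ζ.2 ⟨s, hs⟩)
  refine ⟨n, n.2, (ζ : C), (ζ : C).2, fun e => z1 (Subtype.ext (Subtype.ext (Subtype.ext e))),
    fun t ht => k ⟨t, hT ht⟩ (hS ht), fun p hp => ?_⟩
  obtain ⟨s, hs, e⟩ := hS' (x := ⟨p, hP hp⟩) hp
  obtain rfl : (n : X) * s * (n : X)⁻¹ = p := congrArg Subtype.val e
  rw [conj_mul, conj_mul, k s hs]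

def y2c : List ℕ := [1, 2, 4, 8, 18, 32, 65, 128, 260, 647]
def y3c : List ℕ := [1, 2, 4, 8, 16, 36, 64, 129, 258, 581]
def zs (c : Bool) : List (List ℕ) := [idn 10, y3c, [1, 2, 5, 8, 16, 168, 64, 128, 320, bif c then 707 else 704],
  [1, 2, 5, 8, 16, 173, 64, 129, 322, bif c then 647 else 644]]
def pg (c : Bool) : List (List ℕ) := ((g10 c).take 5).drop 1
def l1c : List ℕ := [1, 3, 4, 8, 88, 32, 64, 128, 384, 576]

theorem eqns_p : True := by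
  have := @y2c.eq_1
  have := @y3c.eq_1
  have := @zs.eq_1
  have := @pg.eq_1
  have := @l1c.eq_1
  trivial

theorem chk : ∀ c, ((el10 c).all fun m => !((pg c).reverse.all fun l => cm l m == cm m l) ||
    (zs c).any (· == m)) = true := by decide +kernel

theorem cen {z : Au 10} (hz : z ∈ L0 c) (e : ∀ l ∈ pg c, mk 10 l * z = z * mk 10 l) : cd z ∈ zs c := by
  have := List.all_eq_true.1 (chk c) _ (mem_L0.1 hz)
  rw [Bool.or_eq_true, Bool.not_eq_true', List.any_eq_true] at this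
  rcases this with k | ⟨m, hm, k⟩
  · refine absurd (List.all_eq_true.2 fun l hl => ?_) (Bool.eq_false_iff.1 k)
    have hl := List.mem_reverse.1 hl
    have := congrArg cd (e l hl)
    rw [cd_mul, cd_mul, cd_g10 c l (List.mem_append_left _ (List.mem_of_mem_take (List.mem_of_mem_drop hl)))] at this
    exact beq_iff_eq.2 this
  · exact beq_iff_eq.1 k ▸ hm

/-- commutators with `y` in codes -/
theorem cj_com {k y : Au 10} {u : ℕ} (hu : u < 1024) :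
    lin (cd k) (lin (cd y) u ^^^ u) = lin (cd (k * y * k⁻¹)) (lin (cd k) u) ^^^ lin (cd k) u := by
  rw [← lin_cm, ← cd_mul, inv_mul_cancel_right, cd_mul, lin_cm, lin_xor]

theorem lt10 (k : Au 10) (u : ℕ) : lin (cd k) u < 1024 := lin_lt (cd_lt k) u

theorem w1 : ∀ x < 8, ∃ u < 1024, lin y2c u ^^^ u = x := fun x hx =>
  ⟨lin [64, 16, 256] x, (by decide +kernel : ∀ x < 8, lin [64, 16, 256] x < 1024 ∧
    lin y2c (lin [64, 16, 256] x) ^^^ lin [64, 16, 256] x = x) x hx⟩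
theorem w2 : ∀ x ∈ [0, 1, 2, 3, 4, 5, 6, 7, 64], ∃ u < 1024, lin y3c u ^^^ u = x := by
  intro x hx
  refine ⟨lin [128, 256, 32, 0, 0, 0, 672] x, ?_⟩
  revert x; decide +kernel
theorem w3 : ∀ u < 1024, (lin y2c u ^^^ u) &&& 888 = 0 ∧ (lin y3c u ^^^ u) &&& 952 = 0 := by decide +kernel
theorem w4 : ∀ x < 1024, x &&& 888 = 0 → x &&& 952 = 0 → x < 8 := by decide +kernel
theorem w5 : ∀ c, ∀ z ∈ zs c, (∀ u < 1024, lin z u ^^^ u ≠ 8) ∨ c = false ∧ ∃ h ∈ [l1c, cm l1c y2c],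
    h ≠ idn 10 ∧ h ≠ z ∧ ∀ u < 1024, lin h (lin z u ^^^ u) = lin z u ^^^ u := by decide +kernel
theorem w6 : ∀ c, ∀ z ∈ zs c, ∀ l ∈ (g10 c).take 1, cm l z = cm z l → z = idn 10 ∨ z = y3c := by decide +kernel

theorem w7 : ∀ c, (∀ l ∈ (g10 c).take 5, ∀ x ∈ [1], lin l x = x) ∧ (∀ l ∈ pg c, ∀ x ∈ [8], lin l x = x) ∧
    (∀ l ∈ (g10 c).take 1, l ∈ (g10 c).take 5) ∧ y2c ∈ pg c ∧ y3c ∈ pg c ∧ l1c ∈ pg false := by decide +kernel
theorem w8 : ∀ x < 8, x ∈ [0, 1, 2, 3, 4, 5, 6, 7, 64] := by decide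
theorem w9 : ∀ x ∈ [1, 2, 4, 64], x ∈ [0, 1, 2, 3, 4, 5, 6, 7, 64] ∧ x < 1024 := by decide

theorem fx_iff {l : List ℕ} {g : Au 10} (hl : ∀ x ∈ l, x < 1024) : g ∈ Fx 10 l ↔ ∀ x ∈ l, lin (cd g) x = x :=
  forall₂_congr fun x hx => by rw [app_bv g (hl x hx), bv_eq (lt10 g x) (hl x hx)]

theorem main (h : H10 c Λ) : ∀ g ∈ Λ, lin (cd g) 1 ≠ 8 := fun g hg e => by
  have TΛ : T10 c ≤ Λ := (T10_L c).trans (H10.le h)
  have cdg : ∀ l ∈ g10 c, cd (mk 10 l) = l := fun l hl => cd_g10 c l (List.mem_append_left _ hl)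
  have gT : ∀ l ∈ (g10 c).take 5, mk 10 l ∈ T10 c := fun l hl => subset_closure ⟨l, hl, rfl⟩
  have T1 : T10 c ≤ Fx 10 [1] := by
    rw [T10, cl, closure_le]
    rintro x ⟨l, hl, ex⟩
    rw [ex, SetLike.mem_coe, fx_iff (by simp), cdg l (List.mem_of_mem_take hl)]
    exact (w7 c).1 l hl
  have g1 : g (bv 10 1) = bv 10 8 := by rw [app_bv g (by norm_num), e]
  obtain ⟨n, hn, ζ, hζ, z1, c1, c2⟩ := zc (C := Λ ⊓ Fx 10 [1]) (isP_T10 c)
    (((isP_T10 c).to_inf_left (K := Fx 10 [8])).map (MulAut.conj g⁻¹).toMonoidHom) (le_inf TΛ T1) (by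
      rintro _ ⟨p, ⟨p1, p2⟩, rfl⟩
      refine mem_inf.2 ⟨mul_mem (mul_mem (inv_mem hg) (TΛ p1)) (inv_mem (inv_mem hg)), fun x hx => ?_⟩
      obtain rfl := List.mem_singleton.1 hx
      change g⁻¹ (p (g⁻¹⁻¹ _)) = _
      rw [inv_inv, g1, p2 8 (by simp), ← g1]
      exact g.symm_apply_apply _) (A10_T c y0_mem) (fun e => by
        have := congrArg cd e
        rw [cd_y0, cd_one] at this
        exact absurd this (by decide))
  have e0 : ζ = y0 := by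
    have zL : ζ ∈ L0 c := h.nA ⟨hζ.1, centralizer_le_normalizer _ fun t ht => c1 t (A10_T c ht)⟩
    obtain ⟨l, hl⟩ : ∃ l, l ∈ (g10 c).take 1 := by cases c <;> exact ⟨_, List.mem_cons_self⟩
    have k := congrArg cd (c1 _ (gT l ((w7 c).2.2.1 l hl)))
    rw [cd_mul, cd_mul, cdg l (List.mem_of_mem_take hl)] at k
    exact cd_inj (((w6 c _ (cen zL fun l hl => c1 _ (gT l (List.mem_of_mem_drop hl))) l hl k).resolve_left
      fun e => z1 (cd_inj (e.trans cd_one.symm))).trans cd_y0.symm)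
  rw [e0] at c2
  obtain ⟨k, hk, k1, c3⟩ : ∃ k ∈ Λ, lin (cd k) 1 = 8 ∧
      ∀ l ∈ pg c, mk 10 l * (k * y0 * k⁻¹) = k * y0 * k⁻¹ * mk 10 l := by
    refine ⟨g * n, mul_mem hg hn.1, by rw [cd_mul, lin_cm, (fx_iff (l := [1]) (by simp)).1 hn.2 1 (by simp), e],
      fun l hl => ?_⟩
    have := c2 _ ⟨mk 10 l, ⟨gT l (List.mem_of_mem_drop hl), (fx_iff (l := [8]) (by simp)).2 (by
      rw [cdg l (List.mem_of_mem_take (List.mem_of_mem_drop hl))]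
      exact (w7 c).2.1 l hl)⟩, rfl⟩
    change g⁻¹ * mk 10 l * g⁻¹⁻¹ * _ = _ * (g⁻¹ * mk 10 l * g⁻¹⁻¹) at this
    calc _ = g * (g⁻¹ * mk 10 l * g⁻¹⁻¹ * (n * y0 * n⁻¹)) * g⁻¹ := by group
      _ = _ := by rw [this]; group
  obtain ⟨-, -, -, y2, y3, l1⟩ := w7 c
  have cp : ∀ l ∈ pg c, cd (mk 10 l) = l := fun l hl => cdg l (List.mem_of_mem_take (List.mem_of_mem_drop hl))
  have zΛ : k * y0 * k⁻¹ ∈ Λ := mul_mem (mul_mem hk (TΛ (A10_T c y0_mem))) (inv_mem hk)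
  have com : ∀ l ∈ pg c, ∀ u < 1024, lin (cd (k * y0 * k⁻¹)) (lin l u ^^^ u) =
      lin l (lin (cd (k * y0 * k⁻¹)) u) ^^^ lin (cd (k * y0 * k⁻¹)) u := fun l hl u hu => by
    have := cj_com (k := k * y0 * k⁻¹) (y := mk 10 l) hu
    rwa [← c3 l hl, mul_inv_cancel_right, cp l hl] at this
  have zL : k * y0 * k⁻¹ ∈ L0 c := h.nW ⟨zΛ, fun x hx => Or.inl (w4 _ (lt10 _ x) ?_ ?_)⟩
  rotate_left
  · obtain ⟨u, hu, rfl⟩ := w1 x hx
    rw [com _ y2 u hu]; exact (w3 _ (lt10 _ u)).1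
  · obtain ⟨u, hu, rfl⟩ := w2 x (w8 x hx)
    rw [com _ y3 u hu]; exact (w3 _ (lt10 _ u)).2
  have kc : ∀ x ∈ [1, 2, 4, 64], ∃ u < 1024, lin (cd k) x = lin (cd (k * y0 * k⁻¹)) u ^^^ u := fun x hx => by
    obtain ⟨u, hu, rfl⟩ := w2 x (w9 x hx).1
    exact ⟨_, lt10 k u, by rw [← cj_com hu, cd_y0]; rfl⟩
  rcases w5 c _ (cen zL c3) with w | ⟨rfl, m, hm, m1, m2, m3⟩
  · obtain ⟨u, hu, e⟩ := kc 1 (by simp)
    exact w u hu (e.symm.trans k1)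
  obtain ⟨p, hp, rfl⟩ : ∃ p ∈ Λ, cd p = m := by
    rcases List.mem_pair.1 hm with rfl | rfl
    · exact ⟨_, TΛ (gT _ (List.mem_of_mem_drop l1)), cp _ l1⟩
    · exact ⟨_, TΛ (mul_mem (gT _ (List.mem_of_mem_drop l1)) (gT _ (List.mem_of_mem_drop y2))), by
        rw [cd_mul, cp _ l1, cp _ y2]⟩
  rcases h.cD (mul_mem (mul_mem (inv_mem hk) hp) hk) ((fx_iff fun x hx => (w9 x hx).2).2 fun x hx => by
    obtain ⟨u, hu, e⟩ := kc x hx
    rw [cd_mul, cd_mul, lin_cm, lin_cm, e, m3 u hu, ← e, ← lin_cm, ← cd_mul, inv_mul_cancel, cd_one,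
      lin_idn (n := 10) (w9 x hx).2]) with e | e
  · exact m1 (by rw [show p = 1 from conj_eq_one_iff.1 ((inv_inv k).symm ▸ e :), cd_one])
  · exact m2 (by rw [← e]; congr 1; group)

end P10Cx

theorem H10.no_d (h : H10 c Λ) : ∀ g ∈ Λ, lin (cd g) 1 ≠ 8 := P10Cx.main h

end H12.E64
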