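import Cfsg.Agent.Lib.E64.XI
import Cfsg.Agent.Lib.E64.NOF
import Cfsg.Agent.Lib.E64.P10B
import Cfsg.Agent.Lib.E64.P10C
import Cfsg.Agent.Lib.E64.P10D

/-! The final configuration (see blueprint/E64/README.md) -/

set_option autoImplicit false

namespace H12.E64

open Subgroup Cfsg H69 H45 Gold
open scoped commutatorElement

variable {G : Type*} [Group G] [Finite G] {c : Fr G} {b : Bool} {e : BV 10 →* G}

namespace Fr

theorem Gx.cf (h : c.Gx b e) : ∃ S, c.Cg e S := by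
  have h10 := h.h10
  obtain ⟨ξ, hξ, hx⟩ := h.xi
  rcases cnt10 h10.le hξ hx with ⟨g, hg, e8⟩ | ⟨rfl, hX⟩
  · exact absurd e8 (h10.no_d g hg)
  have pX : ∀ g ∈ AutG e ⊤, ∀ v < 1024, inX v = true → inX (lin (cd g) v) = true := fun g hg v hv hi => by
    obtain ⟨g', hg', rfl⟩ := (hX v hv).1 hi
    refine (hX _ (lin_lt (n := 10) (cd_lt g) _)).2 ⟨g * g', mul_mem hg hg', ?_⟩
    rw [cd_mul, lin_cm]
  have l1 : L1 ≤ AutG e ⊤ := by
    refine (closure_le _).2 ?_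
    rintro y ⟨l, hl, hy⟩
    rcases List.mem_append.1 hl with hl | hl
    · exact h10.le (subset_closure ⟨l, hl, hy⟩)
    · rw [List.mem_singleton.1 hl, ← xi_eq hx (pX ξ hξ)] at hy
      exact hy ▸ hξ
  let H : Subgroup G := sg (fun g => ∃ γ ∈ S10, Act e g γ) ⟨1, one_mem _, Act.one⟩
    fun _ _ ⟨γ, hγ, a⟩ ⟨δ, hδ, a'⟩ => ⟨γ * δ, mul_mem hγ hδ, a.mul a'⟩
  have mH : ∀ g, g ∈ H ↔ ∃ γ ∈ S10, Act e g γ := fun g => mem_sg
  have HN : H ≤ 𝐍(e.range) := fun g hg => by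
    obtain ⟨γ, -, a⟩ := (mH g).1 hg
    exact a.nrm
  have CH : 𝐂(e.range) ≤ H := fun g hg => (mH g).2 ⟨1, one_mem _, act_one_iff.2 hg⟩
  have TH : c.T ≤ H := fun t ht => by
    obtain ⟨γ, a⟩ := exists_act h.inj (h.TE ht)
    exact (mH t).2 ⟨γ, T10_S (h.aT ▸ mem_autG.2 ⟨t, ht, a⟩), a⟩
  have aH : AutG e H = S10 := le_antisymm (fun γ hγ => by
    obtain ⟨g, hg, a⟩ := mem_autG.1 hγ
    obtain ⟨δ, hδ, a'⟩ := (mH g).1 hg
    exact a'.uniq h.inj a ▸ hδ) fun γ hγ => by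
    obtain ⟨g, -, a⟩ := mem_autG.1 (l1 (S10_L hγ))
    exact mem_autG.2 ⟨g, (mH g).2 ⟨γ, hγ, a⟩, a⟩
  obtain ⟨S, hS, hle⟩ := exists_isSylowIn_le h.isP (sup_le TH (Gen.range_le.trans CH))
  have ES : e.range ≤ S := le_sup_right.trans hle
  have SN : S ≤ 𝐍(e.range) := hS.le.trans HN
  have aut : AutG e S = S10 := by
    have := syl_autG h.inj hS HN
    rw [aH] at this
    exact (this.max S10 this.le le_rfl isP_S10).symm
  have cE : S ⊓ 𝐂(e.range) ≤ e.range :=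
    (h.sylE.max _ (le_inf ES Gen.range_le) inf_le_right (hS.isP.to_le inf_le_left)).le
  have wc := wc_of_noff h.inj SN cE (aut ▸ noff10)
  refine ⟨S, h, syl_top h.inj hS.isP ES wc ?_ fun z hz _ p => ?_, le_sup_left.trans hle, ES, SN, aut, cE, l1, pX, wc⟩
  · rw [aut]; exact h10.self (S10_L.trans l1)
  · rw [← hS.max _ le_sup_left (sup_le hS.le (zpowers_le.2 (CH hz))) p]
    exact mem_sup_right (mem_zpowers z)

end Fr

end H12.E64
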