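import Cfsg.Agent.Lib.E64.V8
import Cfsg.Agent.Lib.PF94.Pre

/-! The identification with `SU₄(2)` (see blueprint/E64/README.md) -/

set_option autoImplicit false

namespace H12.E64

open Subgroup Cfsg H69 H45 Gold
open scoped commutatorElement

namespace Su

open Matrix H30.U32 H30.U42 H9.WC
open H30 (F4)

/-- the vector with code `x` -/
def d4 (x : ℕ) : Fin 4 → F4 := fun i => f4 (x >>> (2 * i.val))

theorem d4_xor : ∀ x < 256, ∀ y < 256, d4 (x ^^^ y) = d4 x + d4 y := fun x _ y _ => by
  ext i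
  have h : ∀ a < 4, ∀ b < 4, f4 (a ^^^ b) = f4 a + f4 b := by decide
  have m : ∀ a, f4 a = f4 (a % 4) := fun a => by simp [f4]
  show f4 _ = f4 _ + f4 _
  have e : ∀ a b : ℕ, (a ^^^ b) % 4 = a % 4 ^^^ b % 4 := fun a b => Nat.xor_mod_two_pow (n := 2)
  rw [m, Nat.shiftRight_xor_distrib, e, h _ (Nat.mod_lt _ (by norm_num)) _ (Nat.mod_lt _ (by norm_num)),
    m (x >>> _), m (y >>> _)]

/-- the additive identification -/
def eh : BV 8 →* Multiplicative (Fin 4 → F4) :=
  MonoidHom.mk' (fun a => .ofAdd (d4 a.1)) fun a b => congrArg Multiplicative.ofAdd (d4_xor _ a.2 _ b.2)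

theorem eh_bij : Function.Bijective eh := by
  refine (Nat.bijective_iff_injective_and_card _).2 ⟨(injective_iff_map_eq_one _).2 fun a ha => ?_, ?_⟩
  · exact BV.ext ((by decide +kernel : ∀ x < 256, d4 x = 0 → x = 0) a.1 a.2 ha)
  · rw [card_BV]
    simp [F4.card_eq]

noncomputable def ee : BV 8 ≃* Multiplicative (Fin 4 → F4) := MulEquiv.ofBijective eh eh_bij

/-- the natural action -/
noncomputable def io : SU 4 F4 2 →* Au 8 :=
  MonoidHom.mk' (fun g => ee.trans
    ((AddEquiv.toMultiplicative (SpecialLinearGroup.toLin' g.1).toAddEquiv).trans ee.symm)) fun g h => by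
    ext a : 1
    simp

theorem io_app (g : SU 4 F4 2) (a : BV 8) : d4 (io g a).1 = g.1.1 *ᵥ d4 a.1 :=
  congrArg Multiplicative.toAdd (ee.apply_symm_apply _)

theorem io_inj : Function.Injective io := (injective_iff_map_eq_one _).2 fun g hg => by
  refine su_ext (Matrix.ext_of_mulVec_single fun i => ?_)
  obtain ⟨a, ha⟩ := eh_bij.2 (.ofAdd (Pi.single i 1))
  have ha' : d4 a.1 = Pi.single i 1 := ha
  have := io_app g a
  rw [hg, MulAut.one_apply, ha'] at this
  rw [← this]
  exact (one_mulVec _).symm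

theorem io_eq {g : SU 4 F4 2} {k : Au 8} {l : List ℕ} (hk : cd k = l)
    (h : ∀ x < 256, d4 (lin l x) = g.1.1 *ᵥ d4 x) : io g = k := by
  ext a : 1
  refine eh_bij.1 (congrArg Multiplicative.ofAdd ?_)
  rw [io_app, app, hk, h _ a.2]

theorem word : ∀ l : List ℕ, (∀ v ∈ l, Sing v) →
    ∃ k ∈ K8, cd k = l.foldr (fun v r => cm (tac v) r) (idn 8)
  | [], _ => ⟨1, one_mem _, cd_one⟩
  | v :: l, h => by
    obtain ⟨k, hk, e⟩ := word l fun w hw => h w (List.mem_cons_of_mem _ hw)
    have hv := h v List.mem_cons_self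
    exact ⟨ta v * k, mul_mem (ta_mem hv) hk, by rw [cd_mul, cd_ta hv, e]; rfl⟩

theorem io_mem {g : SU 4 F4 2} (l : List ℕ) (hl : ∀ v ∈ l, Sing v)
    (h : ∀ x < 256, d4 (lin (l.foldr (fun v r => cm (tac v) r) (idn 8)) x) = g.1.1 *ᵥ d4 x) : io g ∈ K8 := by
  obtain ⟨k, hk, e⟩ := word l hl
  rwa [io_eq e h]

theorem mem_range (n : ℕ) {v : ℕ} (hv : Sing v) (h1 : (matV n)ᵀ * (matV n).map (fun x => x ^ 2) = 1)
    (h2 : (matV n).det = 1) (h : ∀ x < 256, d4 (lin (tac v) x) = matV n *ᵥ d4 x) : mk 8 (tac v) ∈ io.range :=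
  ⟨H11.U.toSU (matV n) (H11.U.isIso_iff.2 h1) h2, io_eq (cd_ta hv) h⟩

theorem range_io : io.range = K8 := by
  refine le_antisymm ?_ (K8_gen.trans ((closure_le _).2 ?_))
  · rw [MonoidHom.range_eq_map, ← gen_top, map_le_iff_le_comap, closure_le]
    rintro _ (rfl | rfl | rfl | rfl | rfl)
    · exact io_mem [20, 24, 80, 112] (by decide +kernel) (by decide +kernel)
    · exact io_mem [5] (by decide +kernel) (by decide +kernel)
    · exact io_mem [20] (by decide +kernel) (by decide +kernel)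
    · exact io_mem [80] (by decide +kernel) (by decide +kernel)
    · exact io_mem [20, 68, 121, 122] (by decide +kernel) (by decide +kernel)
  · intro k hk
    obtain ⟨l, hl, e⟩ := hk
    rw [e]
    show _ ∈ io.range
    simp only [List.mem_cons, List.not_mem_nil, or_false] at hl
    rcases hl with hl | hl | hl | hl | hl <;> rw [hl]
    · exact mem_range 1074790660 (by decide +kernel) (by decide +kernel) (by rw [det_four]; decide +kernel)
        (by decide +kernel)
    · exact mem_range 272630785 (by decide +kernel) (by decide +kernel) (by rw [det_four]; decide +kernel)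
        (by decide +kernel)
    · exact mem_range 525312420 (by decide +kernel) (by decide +kernel) (by rw [det_four]; decide +kernel)
        (by decide +kernel)
    · exact mem_range 1074791176 (by decide +kernel) (by decide +kernel) (by rw [det_four]; decide +kernel)
        (by decide +kernel)
    · exact mem_range 931754904 (by decide +kernel) (by decide +kernel) (by rw [det_four]; decide +kernel)
        (by decide +kernel)

/-- the isomorphism -/
noncomputable def eK : SU 4 F4 2 ≃* K8 := (io.ofInjective io_inj).trans (MulEquiv.subgroupCongr range_io)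

theorem card_K8 : Nat.card K8 = 25920 := (Nat.card_congr eK.toEquiv).symm.trans card_SU4

theorem simple_K8 : IsSimpleGroup K8 :=
  have := H80.TR.simple_SU (F := F4) (n := 4) le_rfl rfl
  eK.symm.isSimpleGroup

theorem card_aut : Nat.card (MulAut K8) = 51840 := by
  obtain ⟨w⟩ := H96.E6.equivAut
  let j := ((QuotientGroup.quotientMulEquivOfEq center_SU4).trans QuotientGroup.quotientBot).symm
  rw [← Nat.card_congr (MulAut.congr eK).toEquiv, Nat.card_congr (MulAut.congr j).toEquiv,
    ← Nat.card_congr w.toEquiv, H96.E6.card_W27]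

end Su

open Su

theorem exists_su : ∃ ι : SU 4 H30.F4 2 →* Au 8, Function.Injective ι ∧ ι.range = K8 := ⟨io, io_inj, range_io⟩

theorem kd8 {K : Subgroup (Au 8)} (h1 : K8 ≤ K) (h2 : K ≤ 𝐍(K8))
    (h3 : ∀ k ∈ K, (∀ r ∈ K8, k * r = r * k) → k = 1) : H94.PF.KD (K8.subgroupOf K) := by
  have hn : (K8.subgroupOf K).Normal := (normal_subgroupOf_iff_le_normalizer h1).2 h2
  have hc : ∀ k : K, (∀ r ∈ K8.subgroupOf K, k * r = r * k) → k = 1 := fun k hk =>
    Subtype.ext (h3 k k.2 fun r hr => congrArg Subtype.val (hk ⟨r, h1 hr⟩ hr))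
  have hm : ∀ g, io g ∈ K := fun g => h1 (range_io ▸ ⟨g, rfl⟩)
  refine ⟨⟨io.codRestrict K hm, fun a b e => io_inj (congrArg Subtype.val e), ?_⟩, hn, fun a b ha hb => ?_, hc⟩
  · ext x
    rw [mem_subgroupOf, ← range_io]
    exact ⟨fun ⟨g, e⟩ => ⟨g, congrArg Subtype.val e⟩, fun ⟨g, e⟩ => ⟨g, Subtype.ext e⟩⟩
  · have inj : Function.Injective (MulAut.conjNormal : K →* MulAut (K8.subgroupOf K)) :=
      (injective_iff_map_eq_one _).2 fun k hk => hc k fun r hr => by
        have : k * r * k⁻¹ = r := congrArg Subtype.val (DFunLike.congr_fun hk (⟨r, hr⟩ : K8.subgroupOf K))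
        exact mul_inv_eq_iff_eq_mul.1 this
    have e := subgroupOfEquivOfLe h1
    have d := card_dvd_of_injective _ inj
    rw [Nat.card_congr (MulAut.congr e).toEquiv, card_aut, ← (K8.subgroupOf K).card_mul_index,
      Nat.card_congr e.toEquiv, card_K8] at d
    have d2 : (K8.subgroupOf K).index ∣ 2 := Nat.dvd_of_mul_dvd_mul_left (by norm_num : 0 < 25920) d
    rcases (Nat.dvd_prime Nat.prime_two).1 d2 with i | i
    · exact absurd (index_eq_one.1 i ▸ mem_top a) ha
    · exact (mul_mem_iff_of_index_two i).2 (iff_of_false ha hb)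

theorem odd8 {Y : Subgroup (Au 8)} (ho : OddS Y) (hn : K8 ≤ 𝐍(Y)) : Y ⊓ K8 = ⊥ := by
  have := simple_K8
  have h : (Y.subgroupOf K8).Normal := ⟨fun y hy g => (mem_normalizer_iff.1 (hn g.2) _).1 hy⟩
  rcases h.eq_bot_or_eq_top with e | e
  · exact disjoint_iff.1 (subgroupOf_eq_bot.1 e)
  · exact absurd (dvd_trans (by rw [card_K8]; norm_num) (card_dvd_of_le (subgroupOf_eq_top.1 e))) ho

end H12.E64
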