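import Cfsg.Agent.Lib.E64.M9G

/-! The groups acting on `BV 9` (see blueprint/E64/README.md) -/

set_option autoImplicit false

namespace H12.E64

open Subgroup Cfsg H69 H45 Gold
open scoped commutatorElement

theorem cd_g9 : ∀ l ∈ g9 ++ [xb], cd (mk 9 l) = l := fun l hl =>
  cd_mki ((by decide +kernel : ∀ l ∈ g9 ++ [xb], oki 9 l = true) l hl)

namespace M9

open M9G

theorem cA : ∀ l ∈ g9.take 3, cd (mk 9 l) = l := fun l hl => cd_g9 l (by revert l; decide)
theorem cL : ∀ l ∈ g9.drop 3, cd (mk 9 l) = l := fun l hl => cd_g9 l (by revert l; decide)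
theorem cU : ∀ l ∈ (g9.drop 3).take 2, cd (mk 9 l) = l := fun l hl => cd_g9 l (by revert l; decide)
theorem cT : ∀ l ∈ g9.take 5, cd (mk 9 l) = l := fun l hl => cd_g9 l (by revert l; decide)
theorem cG : ∀ l ∈ g9, cd (mk 9 l) = l := fun l hl => cd_g9 l (List.mem_append_left _ hl)
theorem cX (b : Bool) : ∀ l ∈ xl b, cd (mk 9 l) = l := fun l hl => cd_g9 l (by revert l b; decide)
theorem cx : cd (mk 9 xb) = xb := cd_g9 _ (by decide)

theorem isA : Is A9 y9 := Is.of_chk cA [0, 1, 2, 6, 3, 7, 11, 27] (by decide +kernel)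
theorem isL : Is (cl 9 (g9.drop 3)) tab9 := Is.of_chk cL lw (by decide +kernel)
theorem isU : Is (cl 9 ((g9.drop 3).take 2)) (tab9.take 8) := Is.of_chk cU (lw.take 8) (by decide +kernel)
theorem isX (b : Bool) : Is (cl 9 (xl b)) (idn 9 :: xl b) :=
  Is.of_chk (cX b) (bif b then [0, 1] else [0]) (by revert b; decide +kernel)

theorem nL : cl 9 (g9.drop 3) ≤ 𝐍(A9) := norm_of cL cA isA.2 (by decide +kernel)
theorem nU : cl 9 ((g9.drop 3).take 2) ≤ 𝐍(A9) := norm_of cU cA isA.2 (by decide +kernel)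
theorem nG (b : Bool) : cl 9 (xl b) ≤ 𝐍(cl 9 g9) := norm_of (cX b) cG (gens cG) (by revert b; decide +kernel)
theorem nT (b : Bool) : cl 9 (xl b) ≤ 𝐍(cl 9 (g9.take 5)) :=
  norm_of (cX b) cT (gens cT) (by revert b; decide +kernel)

theorem eG : cl 9 g9 = cl 9 (g9.drop 3) ⊔ A9 := cl_app (g9.take 3) (g9.drop 3)
theorem eT : cl 9 (g9.take 5) = cl 9 ((g9.drop 3).take 2) ⊔ A9 := cl_app (g9.take 3) ((g9.drop 3).take 2)

theorem isT (b : Bool) : Is (T9 b) (t9 b) := by
  rw [T9, cl_app]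
  exact (isX b).sup (eT ▸ isU.sup isA nU) (nT b)

theorem isG (b : Bool) : Is (G9 b) (el9 b) := by
  rw [G9, cl_app]
  exact (isX b).sup (eG ▸ isL.sup isA nL) (nG b)

theorem dec {b : Bool} {g : Au 9} (hg : g ∈ G9 b) :
    ∃ x ∈ cl 9 (xl b), ∃ k ∈ cl 9 (g9.drop 3), ∃ y ∈ A9, g = x * k * y := by
  rw [G9, cl_app] at hg
  obtain ⟨x, hx, m, hm, rfl⟩ := exists_mul (nG b) hg
  obtain ⟨k, hk, y, hy, rfl⟩ := exists_mul nL (eG ▸ hm)
  exact ⟨x, hx, k, hk, y, hy, (mul_assoc _ _ _).symm⟩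

theorem mid {H : Subgroup (Au 9)} {x k y : Au 9} (hx : x ∈ H) (hy : y ∈ H) (h : x * k * y ∈ H) : k ∈ H :=
  (mul_mem_cancel_left hx).1 ((mul_mem_cancel_right hy).1 h)

end M9

open M9G M9

theorem mem_A9 {g : Au 9} : g ∈ A9 ↔ cd g ∈ y9 := isA.iff
theorem mem_T9 {b : Bool} {g : Au 9} : g ∈ T9 b ↔ cd g ∈ t9 b := (isT b).iff
theorem mem_G9 {b : Bool} {g : Au 9} : g ∈ G9 b ↔ cd g ∈ el9 b := (isG b).iff
theorem A9_T (b : Bool) : A9 ≤ T9 b := cl_mono (by revert b; decide)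
theorem T9_G (b : Bool) : T9 b ≤ G9 b := cl_mono (by revert b; decide)
theorem G9_le (b : Bool) : G9 false ≤ G9 b := cl_mono (by revert b; decide)
theorem isP_T9 (b : Bool) : IsPGroup 2 (T9 b) :=
  IsPGroup.of_card (n := bif b then 7 else 6) (((isT b).card (by revert b; decide +kernel)).trans
    (by revert b; decide +kernel))
theorem G9_W (b : Bool) : G9 b ≤ St 9 8 :=
  le_St (fun l hl => cd_g9 l (by revert l b; decide)) (by revert b; decide +kernel)
theorem fix_G9 {b : Bool} {g : Au 9} (hg : g ∈ G9 b) (h : g ∈ Fx 9 [1, 2, 4]) :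
    g ∈ A9 ∨ b = true ∧ mk 9 xb * g ∈ A9 := by
  obtain ⟨x, hx, k, hk, y, hy, rfl⟩ := dec hg
  have hm : ∀ x ∈ [1, 2, 4], x < 2 ^ 9 := by decide
  have h1 := (mem_Fx hm).1 (mid (le_Fx (cX b) hm (by cases b <;> decide +kernel) hx)
    (le_Fx cA hm (by decide +kernel) hy) h)
  obtain rfl : k = 1 := cd_inj (((by decide +kernel : ∀ l ∈ tab9, (∀ x ∈ [1, 2, 4], lin l x = x) → l = idn 9) _
    (isL.1 k hk) h1).trans cd_one.symm)
  rcases List.mem_cons.1 ((isX b).1 x hx) with e | e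
  · obtain rfl : x = 1 := cd_inj (e.trans cd_one.symm)
    exact Or.inl (by simpa using hy)
  · cases b with
    | false => exact absurd e List.not_mem_nil
    | true =>
      have e2 : mk 9 xb * x = 1 := by
        rw [cd_eq_iff, cd_mul, cx, List.mem_singleton.1 e, cd_one]
        decide +kernel
      exact Or.inr ⟨rfl, by rwa [mul_one, ← mul_assoc, e2, one_mul]⟩
theorem flag_G9 {b : Bool} {g : Au 9} (hg : g ∈ G9 b) (h : g ∈ St 9 2) (h' : g ∈ St 9 4) : g ∈ T9 b := by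
  obtain ⟨x, hx, k, hk, y, hy, rfl⟩ := dec hg
  have h1 := mem_sg.1 (mid (le_St (cX b) (by cases b <;> decide +kernel) hx) (le_St cA (by decide +kernel) hy) h)
  have h2 := mem_sg.1 (mid (le_St (cX b) (by cases b <;> decide +kernel) hx) (le_St cA (by decide +kernel) hy) h')
  have h3 := isU.iff.2 ((by decide +kernel : ∀ l ∈ tab9, lin l 1 < 2 → lin l 2 < 4 → l ∈ tab9.take 8) _
    (isL.1 k hk) ((h1 1 (by omega)).resolve_right (by omega)) ((h2 2 (by omega)).resolve_right (by omega)))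
  exact mul_mem (mul_mem (cl_mono (fun _ => List.mem_append_right _) hx) (cl_mono (by cases b <;> decide) h3))
    (A9_T b hy)
theorem xb_not : mk 9 xb ∉ G9 false := fun h => by
  have := (fix_G9 h ((mem_Fx (by decide)).2 (by rw [cx]; decide +kernel))).resolve_right (by simp)
  rw [mem_A9, cx] at this
  revert this
  decide

end H12.E64
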