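import Cfsg.Agent.Lib.E64.Defs

/-! Certificates for the list of codes of a subgroup of `Au n`. -/

set_option autoImplicit false

namespace H12.E64.M9G

open Subgroup

variable {n : ℕ}

/-- `L` is the list of the codes of `H` -/
def Is (H : Subgroup (Au n)) (L : List (List ℕ)) : Prop :=
  (∀ g ∈ H, cd g ∈ L) ∧ ∀ l ∈ L, ∃ g ∈ H, cd g = l

/-- the value of the word with base four digits `w` -/
def ev (n : ℕ) (s : List (List ℕ)) : ℕ → ℕ → List ℕ
  | 0, _ => idn n
  | f + 1, w => bif w == 0 then idn n else cm (s.getD (w % 4 - 1) (idn n)) (ev n s f (w / 4))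

/-- `L` consists of words, and is closed under the generators -/
def chk (n : ℕ) (s L : List (List ℕ)) (W : List ℕ) : Bool :=
  L == W.map (ev n s 12) && L.elem (idn n) && s.all fun l => L.all fun m => L.elem (cm l m)

/-- the elements of `s` conjugate the elements of `t` into `T` -/
def nchk (s t T : List (List ℕ)) : Bool := s.all fun l => t.all fun m => T.any fun k => cm l m == cm k l

theorem eqns_M9G : True := by
  have := @Is.eq_1
  have := @ev.eq_1
  have := @ev.eq_2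
  have := @ev.eq_def
  have := @chk.eq_1
  have := @nchk.eq_1
  trivial

theorem Is.iff {H : Subgroup (Au n)} {L : List (List ℕ)} (h : Is H L) {g : Au n} : g ∈ H ↔ cd g ∈ L :=
  ⟨h.1 g, fun hg => by
    obtain ⟨k, hk, e⟩ := h.2 _ hg
    rwa [← cd_inj e]⟩

theorem Is.card {H : Subgroup (Au n)} {L : List (List ℕ)} (h : Is H L) (hn : L.Nodup) :
    Nat.card H = L.length := by
  rw [← List.toFinset_card_of_nodup hn, ← Nat.card_eq_finsetCard]
  refine Nat.card_congr (Equiv.ofBijective (fun g => ⟨cd g.1, List.mem_toFinset.2 (h.1 _ g.2)⟩)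
    ⟨fun a b e => Subtype.ext (cd_inj (congrArg Subtype.val e)), fun l => ?_⟩)
  obtain ⟨g, hg, e⟩ := h.2 _ (List.mem_toFinset.1 l.2)
  exact ⟨⟨g, hg⟩, Subtype.ext e⟩

theorem mk_mem {s : List (List ℕ)} {l : List ℕ} (hl : l ∈ s) : mk n l ∈ cl n s := subset_closure ⟨l, hl, rfl⟩

theorem cl_le {s : List (List ℕ)} {H : Subgroup (Au n)} (h : ∀ l ∈ s, mk n l ∈ H) : cl n s ≤ H :=
  (closure_le H).2 (by rintro _ ⟨l, hl, rfl⟩; exact h l hl)

theorem cl_mono {s t : List (List ℕ)} (h : ∀ l ∈ s, l ∈ t) : cl n s ≤ cl n t := cl_le fun l hl => mk_mem (h l hl)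

theorem cl_app (s t : List (List ℕ)) : cl n (s ++ t) = cl n t ⊔ cl n s :=
  le_antisymm (cl_le fun _ hl => (List.mem_append.1 hl).elim (fun h => mem_sup_right (mk_mem h))
    fun h => mem_sup_left (mk_mem h))
    (sup_le (cl_mono fun _ h => List.mem_append_right _ h) (cl_mono fun _ h => List.mem_append_left _ h))

theorem gens {s : List (List ℕ)} (hs : ∀ l ∈ s, cd (mk n l) = l) : ∀ l ∈ s, ∃ g ∈ cl n s, cd g = l :=
  fun l hl => ⟨_, mk_mem hl, hs l hl⟩

theorem ev_mem {s : List (List ℕ)} (hs : ∀ l ∈ s, cd (mk n l) = l) : ∀ f w, ∃ g ∈ cl n s, cd g = ev n s f w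
  | 0, _ => ⟨1, one_mem _, cd_one⟩
  | f + 1, w => by
    rw [ev]
    cases w == 0 with
    | true => exact ⟨1, one_mem _, cd_one⟩
    | false =>
      obtain ⟨g, hg, e⟩ := ev_mem hs f (w / 4)
      obtain ⟨k, hk, e'⟩ : ∃ k ∈ cl n s, cd k = s.getD (w % 4 - 1) (idn n) := by
        rcases lt_or_ge (w % 4 - 1) s.length with h | h
        · rw [List.getD_eq_getElem _ _ h]
          exact gens hs _ (List.getElem_mem h)
        · rw [List.getD_eq_default _ _ h]
          exact ⟨1, one_mem _, cd_one⟩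
      exact ⟨k * g, mul_mem hk hg, by rw [cd_mul, e, e']; rfl⟩

theorem Is.of_chk {s L : List (List ℕ)} (hs : ∀ l ∈ s, cd (mk n l) = l) (W : List ℕ)
    (h : chk n s L W = true) : Is (cl n s) L := by
  simp only [chk, Bool.and_eq_true, beq_iff_eq, List.all_eq_true, List.elem_eq_mem, decide_eq_true_eq] at h
  refine ⟨fun g hg => mem_of_closed hs (P := (· ∈ L)) h.1.2 h.2 hg, fun l hl => ?_⟩
  rw [h.1.1] at hl
  obtain ⟨w, -, rfl⟩ := List.mem_map.1 hl
  exact ev_mem hs _ w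

theorem norm_of {s t T : List (List ℕ)} (hs : ∀ l ∈ s, cd (mk n l) = l) (ht : ∀ l ∈ t, cd (mk n l) = l)
    (hT : ∀ k ∈ T, ∃ g ∈ cl n t, cd g = k) (h : nchk s t T = true) :
    cl n s ≤ normalizer (cl n t : Set (Au n)) := by
  simp only [nchk, List.all_eq_true, List.any_eq_true, beq_iff_eq] at h
  refine cl_le fun l hl => mem_normalizer_fintype fun x hx => ?_
  refine (closure_le ((cl n t).comap (MulAut.conj (mk n l)).toMonoidHom)).2 ?_ hx
  rintro _ ⟨m, hm, rfl⟩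
  obtain ⟨k, hk, e⟩ := h l hl m hm
  obtain ⟨g, hg, rfl⟩ := hT k hk
  have : mk n l * mk n m = g * mk n l := by rw [cd_eq_iff, cd_mul, cd_mul, hs l hl, ht m hm, e]
  show mk n l * mk n m * (mk n l)⁻¹ ∈ cl n t
  rwa [this, mul_inv_cancel_right]

theorem exists_mul {H K : Subgroup (Au n)} (h : H ≤ normalizer (K : Set (Au n))) {g : Au n} (hg : g ∈ H ⊔ K) :
    ∃ a ∈ H, ∃ b ∈ K, a * b = g := by
  have : g ∈ (↑(H ⊔ K) : Set (Au n)) := hg
  rwa [coe_mul_of_left_le_normalizer_right H K h] at this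

theorem Is.sup {H K : Subgroup (Au n)} {L M : List (List ℕ)} (hH : Is H L) (hK : Is K M)
    (h : H ≤ normalizer (K : Set (Au n))) : Is (H ⊔ K) (prods L M) := by
  refine ⟨fun g hg => ?_, fun l hl => ?_⟩
  · obtain ⟨a, ha, b, hb, rfl⟩ := exists_mul h hg
    rw [cd_mul]
    exact List.mem_flatMap.2 ⟨_, hH.1 a ha, List.mem_map_of_mem (hK.1 b hb)⟩
  · obtain ⟨x, hx, hl⟩ := List.mem_flatMap.1 hl
    obtain ⟨y, hy, rfl⟩ := List.mem_map.1 hl
    obtain ⟨a, ha, rfl⟩ := hH.2 x hx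
    obtain ⟨b, hb, rfl⟩ := hK.2 y hy
    exact ⟨a * b, mul_mem (mem_sup_left ha) (mem_sup_right hb), cd_mul a b⟩

theorem le_St {s : List (List ℕ)} {k : ℕ} (hs : ∀ l ∈ s, cd (mk n l) = l) (h : ∀ l ∈ s, ∀ x < k, lin l x < k) :
    cl n s ≤ St n k := cl_le fun l hl => mem_sg.2 fun x hx => Or.inl (by rw [hs l hl]; exact h l hl x hx)

theorem mem_Fx {g : Au n} {m : List ℕ} (hm : ∀ x ∈ m, x < 2 ^ n) : g ∈ Fx n m ↔ ∀ x ∈ m, lin (cd g) x = x :=
  mem_sg.trans (forall₂_congr fun x hx => by rw [app_bv g (hm x hx), bv_eq (lin_lt (cd_lt g) x) (hm x hx)])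

theorem le_Fx {s : List (List ℕ)} {m : List ℕ} (hs : ∀ l ∈ s, cd (mk n l) = l) (hm : ∀ x ∈ m, x < 2 ^ n)
    (h : ∀ l ∈ s, ∀ x ∈ m, lin l x = x) : cl n s ≤ Fx n m :=
  cl_le fun l hl => (mem_Fx hm).2 fun x hx => by rw [hs l hl]; exact h l hl x hx

/-- the Levi words -/
def lw : List ℕ := [0, 102, 2, 25, 1, 38, 6, 9, 28159, 11739, 14189, 3547, 11775, 28123, 14047, 3583, 32159, 46951, 15807, 14183, 15775, 112487, 32191, 14327, 47103, 14335, 13949, 46717, 112639, 14191, 30333, 56759, 411, 3, 103, 11, 1789, 473, 1014, 509, 155, 7, 39, 27, 765, 217, 729, 253, 12255, 4063, 11679, 3487, 28639, 8159, 16239, 7583, 759, 13, 247, 45, 447, 118, 438, 127, 191, 54, 182, 63, 621, 29, 157, 109, 7159, 4059, 1895, 2039, 1661, 6589, 189, 61, 415, 1647, 47, 15, 3063, 2919, 871, 1015, 637, 2493, 445, 125, 159, 623, 111, 31, 4095, 1911, 3519, 7031, 7039, 7607, 2934, 886, 8039, 3951, 11737, 3545, 3549, 887, 3510, 2935, 3943, 8047, 28121, 3581,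 2943, 3511, 7030, 895, 1791, 1755, 475, 511, 6646, 26358, 246, 758, 991, 3039, 55, 183, 2550, 9974, 502, 1782, 631, 2487, 119, 439, 767, 731, 219, 255, 2527, 479, 1901, 1759, 2047, 1903, 221, 733, 2011, 10203, 985, 3033, 987, 26587, 2009, 7129, 1023, 879, 477, 1757, 2925, 223, 877, 735]

theorem eqns_M9G2 : True := by
  have := @lw.eq_1
  trivial

end H12.E64.M9G
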