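import Cfsg.Agent.Lib.E64.MB
import Cfsg.Agent.Lib.E64.Gen
import Cfsg.Agent.Lib.E64.Wd

/-! The action of `P0` on `F0` (see blueprint/E64/README.md) -/

set_option autoImplicit false

namespace H12.E64

open Subgroup Cfsg H69 H45 Gold Wd
open scoped commutatorElement

namespace MA

theorem gA : ∀ l ∈ gM.take 3, mk 7 l ∈ A0 := by
  intro l hl
  obtain ⟨v, hv, rfl⟩ := (by decide : ∀ l ∈ gM.take 3, ∃ v < 64, l = tauc v) l hl
  exact tau_mem hv

theorem cdk (k : ℕ) : ∀ l ∈ gM.take k, cd (mk 7 l) = l := fun l hl => cd_gM l (List.mem_of_mem_take hl)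

theorem cd9 : ∀ i < 6, cd (mk 9 (g9.getD i [])) = g9.getD i [] := fun i hi =>
  cd_mki ((by decide +kernel : ∀ i < 6, oki 9 (g9.getD i []) = true) i hi)

theorem lv_wd : ∀ s ∈ gl3, lv s ∈ cl 7 gM := by
  intro s hs
  obtain ⟨w, -, e⟩ := al2_ex (p := fun s w => lvc s == wd 7 gM 10 w) (l := gl3) (t :=
    [0, 2405, 5, 300, 4, 357, 37, 44, 9915830, 1527086, 1730932, 216366, 1527222, 9915694, 1727798, 216502,
    10177334, 12216678, 1788854, 1730918, 1788726, 79325542, 10177462, 1732006, 12217782, 1732022, 1726900,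
    12212660, 79326646, 1730934, 10115508, 13847462, 19246, 6, 2406, 46, 155060, 19756, 28069, 19892, 2862, 38,
    358, 302, 23988, 3372, 23852, 3508, 1535286, 224566, 1526582, 215862, 9923894, 1273142, 1796470, 1264438,
    23974, 52, 3494, 372, 19382, 2469, 19365, 2486, 2998, 421, 2981, 438, 22900, 308, 2868, 2420, 1240486,
    224558, 158054, 159142, 154036, 1231796, 2996, 436, 19254, 153974, 374, 54, 191910, 190822, 26982, 28070,
    22964, 183220, 19380, 2484, 2870, 22902, 2422, 310, 224694, 158118, 215990, 1239462, 1239478, 1264550,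
    190885, 27045, 1272166, 223606, 1527084, 216364, 216372, 27046, 215973, 190886, 223590, 1272182, 9915692,
    216500, 190902, 215974, 1239461, 27062, 155062, 154926, 19758, 19894, 1232293, 9854373, 3493, 23973, 27958,
    191798, 422, 2982, 183717, 1465765, 19877, 155045, 22950, 183206, 2470, 19366, 23990, 23854, 3374, 3510,
    183606, 19766, 158068, 154934, 159158, 158070, 3380, 23860, 159022, 1469742, 27948, 191788, 27950, 9858350,
    159020, 1240364, 28086, 26998, 19764, 154932, 190836, 3382, 26996, 23862]) (by decide +kernel) s hs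
  exact mem_of_wd cd_gM ((cd_lv s hs).trans (beq_iff_eq.1 e))

theorem lv_wd' : ∀ s ∈ gl3.take 8, lv s ∈ cl 7 (gM.take 5) := by
  intro s hs
  obtain ⟨w, -, e⟩ := al2_ex (p := fun s w => lvc s == wd 7 (gM.take 5) 10 w) (l := gl3.take 8) (t :=
    [0, 2405, 5, 300, 4, 357, 37, 44]) (by decide +kernel) s hs
  exact mem_of_wd (cdk 5) ((cd_lv s (List.mem_of_mem_take hs)).trans (beq_iff_eq.1 e))

theorem tau_wd : ∀ y < 8, tau (8 * y) ∈ cl 7 (gM.take 3) := by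
  intro y hy
  obtain ⟨w, -, e⟩ := al2_ex (p := fun y w => tauc (8 * y) == wd 7 (gM.take 3) 10 w) (l := List.range 8) (t :=
    [0, 1, 2, 10, 3, 11, 19, 83]) (by decide +kernel) y (List.mem_range.2 hy)
  exact mem_of_wd (cdk 3) ((cd_tau _ (by omega)).trans (beq_iff_eq.1 e))

theorem ffh_bv (x : ℕ) : cd (ffh (bv 9 x)) = ffc (x % 2 ^ 9) := by
  have h : ∀ v : BV 9, cd (ffh v) = ffc v.1 := fun v => by
    rw [ffh, MonoidHom.mk'_apply]
    exact cd_ff v.1 (lt_of_lt_of_eq v.lt (by norm_num))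
  rw [h, bv]

theorem R0_le : R0 ≤ cl 7 (gM.take 3) ⊔ F0 := by
  intro g hg
  obtain ⟨y, hy, v, hv, rfl⟩ := mem_R0.1 hg
  exact mul_mem (mem_sup_left (tau_wd y hy)) (mem_sup_right (ff_mem hv))

end MA

open MA

theorem gM_mem : ∀ l ∈ gM, mk 7 l ∈ P0 := by
  intro l hl
  rcases (by decide : ∀ l ∈ gM, l ∈ gM.take 3 ∨ ∃ s ∈ gl3, l = lvc s) l hl with h | ⟨s, hs, rfl⟩
  · exact (mem_inf.1 (R0_T (A0_R (gA l h)))).1
  · exact lv_mem hs

theorem gM_mem' : ∀ l ∈ gM.take 5, mk 7 l ∈ T0 := by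
  intro l hl
  rcases (by decide : ∀ l ∈ gM.take 5, l ∈ gM.take 3 ∨ ∃ s ∈ gl3.take 8, l = lvc s) l hl with h | ⟨s, hs, rfl⟩
  · exact R0_T (A0_R (gA l h))
  · exact lv_mem' hs

theorem P0_le : P0 ≤ cl 7 gM ⊔ F0 := by
  intro g hg
  obtain ⟨s, hs, r, hr, rfl⟩ := mem_P0 hg
  exact mul_mem (mem_sup_left (lv_wd s hs))
    (sup_le_sup_right (cl_mono (List.take_subset _ _)) _ (R0_le hr))

theorem T0_le : T0 ≤ cl 7 (gM.take 5) ⊔ F0 := by
  intro g hg
  obtain ⟨s, hs, r, hr, rfl⟩ := mem_T0 hg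
  exact mul_mem (mem_sup_left (lv_wd' s hs)) (sup_le_sup_right (cl_mono (by decide)) _ (R0_le hr))

theorem A0_le : A0 ≤ cl 7 (gM.take 3) ⊔ F0 := A0_R.trans R0_le

theorem act_gM : ∀ i < 6, Act ffh (mk 7 (gM.getD i [])) (mk 9 (g9.getD i [])) := by
  intro i hi
  refine act_of_basis fun j hj => ?_
  have hm : gM.getD i [] ∈ gM := (by decide : ∀ i < 6, gM.getD i [] ∈ gM) i hi
  rw [mul_inv_eq_iff_eq_mul, cd_eq_iff, cd_mul, cd_mul, cd_gM _ hm, cd9 i hi]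
  rw [ffh_bv, ffh_bv]
  exact (by decide +kernel : ∀ i < 6, ∀ j < 9, cm (gM.getD i []) (ffc (2 ^ j % 2 ^ 9)) =
    cm (ffc (lin (g9.getD i []) (2 ^ j) % 2 ^ 9)) (gM.getD i [])) i hi j hj

namespace MA

theorem act_F {g : Au 7} (hg : g ∈ F0) : Act ffh g 1 := by
  obtain ⟨u, rfl⟩ := hg
  intro v
  rw [← map_mul, mul_comm, map_mul, mul_inv_cancel_right, MulAut.one_apply]

theorem ex_act {k : ℕ} (hk : k ≤ 6) {g : Au 7} (hg : g ∈ cl 7 (gM.take k) ⊔ F0) :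
    ∃ γ ∈ cl 9 (g9.take k), Act ffh g γ := by
  refine (sup_le (a := cl 7 (gM.take k)) (b := F0) (c := sg (fun g => ∃ γ ∈ cl 9 (g9.take k), Act ffh g γ)
    ⟨1, one_mem _, Act.one⟩ fun _ _ ⟨γ, h, a⟩ ⟨δ, h', b⟩ => ⟨γ * δ, mul_mem h h', a.mul b⟩)
    (cl_le fun l hl => ?_) fun g hg => ⟨1, one_mem _, act_F hg⟩) hg
  obtain ⟨i, hi, rfl, h⟩ := (by decide : ∀ k ≤ 6, ∀ l ∈ gM.take k, ∃ i < 6, l = gM.getD i [] ∧
    g9.getD i [] ∈ g9.take k) k hk l hl
  exact ⟨_, mk_mem h, act_gM i hi⟩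

theorem aut_of {k : ℕ} (hk : k ≤ 6) {H : Subgroup (Au 7)} (h1 : H ≤ cl 7 (gM.take k) ⊔ F0)
    (h2 : ∀ l ∈ gM.take k, mk 7 l ∈ H) : AutG ffh H = cl 9 (g9.take k) := by
  refine le_antisymm (fun γ hγ => ?_) (cl_le fun l hl => ?_)
  · obtain ⟨g, hg, a⟩ := mem_autG.1 hγ
    obtain ⟨δ, hδ, b⟩ := ex_act hk (h1 hg)
    rwa [a.uniq ffh_inj b]
  · obtain ⟨i, hi, rfl, h⟩ := (by decide : ∀ k ≤ 6, ∀ l ∈ g9.take k, ∃ i < 6, l = g9.getD i [] ∧
      gM.getD i [] ∈ gM.take k) k hk l hl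
    exact mem_autG.2 ⟨_, h2 _ h, act_gM i hi⟩

end MA

theorem P0_nF : P0 ≤ 𝐍(F0) := fun _ hg => by
  obtain ⟨γ, -, a⟩ := ex_act le_rfl (P0_le hg)
  exact a.nrm

theorem aut_P0 : AutG ffh P0 = G9 false :=
  (aut_of (k := 6) le_rfl P0_le gM_mem).trans (congrArg (cl 9) (by decide : g9.take 6 = g9 ++ xl false))
theorem aut_T0 : AutG ffh T0 = T9 false :=
  (aut_of (k := 5) (by norm_num) T0_le gM_mem').trans
    (congrArg (cl 9) (by decide : g9.take 5 = g9.take 5 ++ xl false))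
theorem aut_A0 : AutG ffh A0 = A9 := aut_of (by norm_num) A0_le gA

end H12.E64
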