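import Cfsg.Agent.Lib.E64.Defs

/-! Basic facts on `M0` (see blueprint/E64/README.md) -/

set_option autoImplicit false

namespace H12.E64

open Subgroup Cfsg H69 H45 Gold
open scoped commutatorElement

namespace MB

theorem x64 {x y : ℕ} (hx : x < 64) (hy : y < 64) : x ^^^ y < 64 := Nat.xor_lt_two_pow (n := 6) hx hy

theorem ind_lin {P : ℕ → Prop} (h0 : P 0) (hx : ∀ x y, P x → P y → P (x ^^^ y)) :
    ∀ (l : List ℕ), (∀ c ∈ l, P c) → ∀ x, P (lin l x)
  | [], _, _ => h0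
  | c :: l, h, x => by
    refine hx _ _ ?_ (ind_lin h0 hx l (fun d hd => h d (List.mem_cons_of_mem _ hd)) _)
    rcases Nat.mod_two_eq_zero_or_one x with k | k <;> rw [k]
    · simpa using h0
    · simpa using h c List.mem_cons_self

theorem ind {n : ℕ} {P : ℕ → Prop} (h0 : P 0) (hb : ∀ c ∈ idn n, P c)
    (hx : ∀ x < 2 ^ n, ∀ y < 2 ^ n, P x → P y → P (x ^^^ y)) : ∀ x < 2 ^ n, P x := by
  intro x h
  have := ind_lin (P := fun x => x < 2 ^ n ∧ P x) ⟨Nat.two_pow_pos n, h0⟩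
    (fun x y a b => ⟨Nat.xor_lt_two_pow a.1 b.1, hx x a.1 y b.1 a.2 b.2⟩) (idn n)
    (fun c hc => ⟨by
      simp only [idn, List.mem_map, List.mem_range] at hc
      obtain ⟨i, hi, rfl⟩ := hc
      exact Nat.pow_lt_pow_right (by norm_num) hi, hb c hc⟩) x
  rw [lin_idn h] at this
  exact this.2

theorem om_comm : ∀ x < 64, ∀ y < 64, om x y = om y x := by decide +kernel

theorem om_zero (y : ℕ) : om 0 y = false := by simp [om]

theorem om_xor {x y : ℕ} (hx : x < 64) (hy : y < 64) (z : ℕ) :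
    om (x ^^^ y) z = xor (om x z) (om y z) := by
  have h : ∀ a < 64, ∀ b < 64, Nat.testBit 0x6996966996696996 (a ^^^ b) =
      xor (Nat.testBit 0x6996966996696996 a) (Nat.testBit 0x6996966996696996 b) := by decide +kernel
  rw [om, om, om, Nat.and_xor_distrib_right]
  exact h _ (Nat.and_le_left.trans_lt hx) _ (Nat.and_le_left.trans_lt hy)

theorem mem_M0 {g : Au 7} (h1 : ∀ c ∈ idn 6, lin (cd g) c < 64)
    (h2 : ∀ c ∈ idn 6, ∀ d ∈ idn 6, om (lin (cd g) c) (lin (cd g) d) = om c d) : g ∈ M0 := by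
  have a : ∀ x < 64, lin (cd g) x < 64 :=
    ind (n := 6) (by rw [lin_zero]; omega) h1 fun x _ y _ hx hy => by rw [lin_xor]; exact x64 hx hy
  have hb : ∀ c ∈ idn 6, c < 64 := by decide
  refine ⟨a, fun x hx y hy => ?_⟩
  revert x
  refine ind (n := 6) (by rw [lin_zero, om_zero, om_zero]) (fun c hc => ?_) fun x hx x' hx' e e' => by
    rw [lin_xor, om_xor (a x hx) (a x' hx'), om_xor hx hx', e, e']
  rw [om_comm _ (a c (hb c hc)) _ (a y hy), om_comm c (hb c hc) y hy]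
  revert y
  refine ind (n := 6) (by rw [lin_zero, om_zero, om_zero]) (fun d hd => h2 d hd c hc)
    fun x hx x' hx' e e' => by rw [lin_xor, om_xor (a x hx) (a x' hx'), om_xor hx hx', e, e']

def chk (l : List ℕ) : Bool :=
  (idn 6).all fun c => lin l c < 64 && (idn 6).all fun d => om (lin l c) (lin l d) == om c d

theorem of_chk {g : Au 7} {l : List ℕ} (e : cd g = l) (h : chk l = true) : g ∈ M0 := by
  simp only [chk, List.all_eq_true, Bool.and_eq_true, decide_eq_true_eq, beq_iff_eq] at h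
  exact mem_M0 (fun c hc => e ▸ (h c hc).1) fun c hc d hd => e ▸ (h c hc).2 d hd

theorem lin_inj (g : Au 7) {x y : ℕ} (hx : x < 128) (hy : y < 128) (h : lin (cd g) x = lin (cd g) y) :
    x = y := by
  have : g (bv 7 x) = g (bv 7 y) := by rw [app_bv g hx, app_bv g hy, h]
  exact (bv_eq hx hy).1 (g.injective this)

theorem lt128 (g : Au 7) (x : ℕ) : lin (cd g) x < 128 := lin_lt (cd_lt g) x

theorem lin_inv (g : Au 7) {x : ℕ} (hx : x < 128) : lin (cd g) (lin (cd g⁻¹) x) = x := by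
  rw [← lin_cm, ← cd_mul, mul_inv_cancel, cd_one, lin_idn hx]

theorem ext7 {g k : Au 7} (h1 : ∀ x < 64, lin (cd g) x = lin (cd k) x)
    (h2 : lin (cd g) 64 = lin (cd k) 64) : g = k := by
  refine MulEquiv.ext (forall_bv fun x hx => ?_)
  rw [app_bv g hx, app_bv k hx]
  congr 1
  revert x
  refine ind (n := 7) (by rw [lin_zero, lin_zero]) (fun c hc => ?_) fun x _ y _ a b => by
    rw [lin_xor, lin_xor, a, b]
  rcases (by decide : ∀ c ∈ idn 7, c < 64 ∨ c = 64) c hc with h | rfl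
  exacts [h1 c h, h2]

theorem hi64 {m : Au 7} (h : ∀ x < 64, lin (cd m) x < 64) : ∃ t < 64, lin (cd m) 64 = 64 ^^^ t := by
  have h1 : 64 ≤ lin (cd m) 64 := by
    by_contra hlt
    have inj : Function.Injective fun x : Fin 64 => (⟨lin (cd m) x, h x x.2⟩ : Fin 64) :=
      fun x y e => Fin.ext (lin_inj m (by omega) (by omega) (congrArg Fin.val e))
    obtain ⟨x, hx⟩ := Finite.injective_iff_surjective.1 inj ⟨lin (cd m) 64, by omega⟩
    have := lin_inj m (by omega) (by omega) (congrArg Fin.val hx)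
    omega
  exact (by decide +kernel : ∀ h < 128, 64 ≤ h → ∃ t < 64, h = 64 ^^^ t) _ (lt128 m 64) h1

theorem tau_lo {v x : ℕ} (hv : v < 64) (hx : x < 64) : lin (cd (tau v)) x = x := by
  rw [cd_tau v hv]
  exact (by decide +kernel : ∀ v < 64, ∀ x < 64, lin (tauc v) x = x) v hv x hx

theorem tau_hi {v : ℕ} (hv : v < 64) : lin (cd (tau v)) 64 = 64 ^^^ v := by
  rw [cd_tau v hv]
  exact (by decide +kernel : ∀ v < 64, lin (tauc v) 64 = 64 ^^^ v) v hv

theorem tau_inj {v w : ℕ} (hv : v < 64) (hw : w < 64) (h : tau v = tau w) : v = w := by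
  have := tau_hi hv
  rw [h, tau_hi hw] at this
  exact (Nat.xor_right_inj.1 this).symm

theorem mem_Fx {g : Au 7} : g ∈ Fx 7 [1, 2, 4] ↔ ∀ x < 8, lin (cd g) x = x := by
  constructor
  · intro h
    refine ind (n := 3) (lin_zero _) (fun c hc => ?_) fun x _ y _ a b => by rw [lin_xor, a, b]
    have hc' : c ∈ [1, 2, 4] := hc
    have h8 : c < 128 := (by decide : ∀ c ∈ [1, 2, 4], c < 128) c hc'
    have := h c hc'
    rwa [app_bv g h8, bv_eq (lt128 g c) h8] at this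
  · intro h c hc
    have h8 : c < 8 := (by decide : ∀ c ∈ [1, 2, 4], c < 8) c hc
    rw [app_bv g (by omega), h c h8]

theorem mem_St {g : Au 7} {k : ℕ} (hk : k ≤ 128) : g ∈ St 7 k ↔ ∀ x < k, lin (cd g) x < k :=
  ⟨fun h x hx => (h x hx).resolve_right (by omega), fun h x hx => Or.inl (h x hx)⟩

theorem tauh_eq (v : BV 6) : tauh v = tau v.1 := by simp only [tauh, MonoidHom.mk'_apply]
theorem ffh_eq (v : BV 9) : ffh v = ff v.1 := by simp only [ffh, MonoidHom.mk'_apply]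

theorem of_A0 {g : Au 7} (h : g ∈ A0) : ∃ v < 64, g = tau v := by
  obtain ⟨v, hv⟩ := h
  exact ⟨v.1, v.lt, by rw [← hv, tauh_eq]⟩

theorem of_F0 {g : Au 7} (h : g ∈ F0) : ∃ v < 512, g = ff v := by
  obtain ⟨v, hv⟩ := h
  exact ⟨v.1, v.lt, by rw [← hv, ffh_eq]⟩

end MB

open MB

theorem cd_lv : ∀ s ∈ gl3, cd (lv s) = lvc s := fun s hs =>
  cd_mki (List.all_eq_true.1 (by decide +kernel : gl3.all (fun s => oki 7 (lvc s)) = true) s hs)
theorem cd_gM : ∀ l ∈ gM, cd (mk 7 l) = l := fun l hl =>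
  cd_mki (List.all_eq_true.1 (by decide +kernel : gM.all (fun s => oki 7 s) = true) l hl)
theorem tau_ff : ∀ w < 8, tau w = ff w := fun w hw => by
  rw [cd_eq_iff, cd_tau w (by omega), cd_ff w (by omega)]
  exact (by decide +kernel : ∀ w < 8, tauc w = ffc w) w hw
theorem tau_mem {v : ℕ} (h : v < 64) : tau v ∈ A0 := ⟨bv 6 v, by rw [tauh_eq, val_bv h]⟩
theorem ff_mem {v : ℕ} (h : v < 512) : ff v ∈ F0 := ⟨bv 9 v, by rw [ffh_eq, val_bv h]⟩
theorem tv_mem {v : ℕ} (h : v < 64) : tv v ∈ M0 :=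
  of_chk (cd_tv v h) ((by decide +kernel : ∀ v < 64, chk (tvc v) = true) v h)
theorem lv_mem {s : List ℕ} (h : s ∈ gl3) : lv s ∈ P0 := by
  have := List.all_eq_true.1 (by decide +kernel :
    gl3.all (fun s => chk (lvc s) && (List.range 8).all fun x => lin (lvc s) x < 8) = true) s h
  simp only [Bool.and_eq_true, List.all_eq_true, List.mem_range, decide_eq_true_eq] at this
  exact ⟨of_chk (cd_lv s h) this.1, (mem_St (by omega)).2 (cd_lv s h ▸ this.2)⟩
theorem lv_mem' {s : List ℕ} (h : s ∈ gl3.take 8) : lv s ∈ T0 := by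
  have hs := List.mem_of_mem_take h
  have := (by decide +kernel : ∀ s ∈ gl3.take 8, (∀ x < 2, lin (lvc s) x < 2) ∧ ∀ x < 4, lin (lvc s) x < 4) s h
  exact ⟨lv_mem hs, (mem_St (by omega)).2 (cd_lv s hs ▸ this.1), (mem_St (by omega)).2 (cd_lv s hs ▸ this.2)⟩
theorem A0_R : A0 ≤ R0 := by
  intro g hg
  obtain ⟨v, hv, e⟩ := of_A0 hg
  rw [e]
  exact ⟨⟨fun x hx => (tau_lo hv hx).trans_lt hx, fun x hx y hy => by rw [tau_lo hv hx, tau_lo hv hy]⟩,
    mem_Fx.2 fun x hx => tau_lo hv (by omega)⟩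
theorem F0_R : F0 ≤ R0 := by
  intro g hg
  obtain ⟨v, hv, e⟩ := of_F0 hg
  rw [e]
  have := (by decide +kernel : ∀ v < 512, chk (ffc v) = true ∧ ∀ x < 8, lin (ffc v) x = x) v hv
  exact ⟨of_chk (cd_ff v hv) this.1, mem_Fx.2 (cd_ff v hv ▸ this.2)⟩
theorem R0_T : R0 ≤ T0 := fun g hg => by
  have := mem_Fx.1 hg.2
  refine ⟨⟨hg.1, (mem_St (by omega)).2 fun x hx => ?_⟩, (mem_St (by omega)).2 fun x hx => ?_,
    (mem_St (by omega)).2 fun x hx => ?_⟩ <;> rwa [this x (by omega)]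
theorem mem_A0 {g : Au 7} : g ∈ A0 ↔ ∀ x < 64, lin (cd g) x = x := by
  constructor
  · intro hg x hx
    obtain ⟨v, hv, e⟩ := of_A0 hg
    rw [e]
    exact tau_lo hv hx
  · intro h
    obtain ⟨t, ht, e⟩ := hi64 (m := g) fun x hx => (h x hx).trans_lt hx
    rw [ext7 (g := g) (k := tau t) (fun x hx => by rw [h x hx, tau_lo ht hx]) (by rw [e, tau_hi ht])]
    exact tau_mem ht

theorem MB.agree {g k : Au 7} (hk : k ∈ M0) (h : ∀ c ∈ idn 6, lin (cd g) c = lin (cd k) c) :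
    ∃ t < 64, g = tau t * k := by
  have h1 : ∀ x < 64, lin (cd g) x = lin (cd k) x :=
    ind (n := 6) (by rw [lin_zero, lin_zero]) h fun x _ y _ a b => by rw [lin_xor, lin_xor, a, b]
  obtain ⟨t, ht, e⟩ := of_A0 (g := g * k⁻¹) (mem_A0.2 fun x hx => by
    rw [cd_mul, lin_cm, h1 _ ((M0.inv_mem hk).1 x hx), lin_inv k (by omega)])
  exact ⟨t, ht, by rw [← e, inv_mul_cancel_right]⟩

theorem mem_R0 {g : Au 7} : g ∈ R0 ↔ ∃ y < 8, ∃ v < 512, g = tau (8 * y) * ff v := by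
  constructor
  · intro hg
    have f := mem_Fx.1 hg.2
    have col : ∀ c ∈ [8, 16, 32], ∃ w < 8, lin (cd g) c = c ^^^ w := fun c hc => by
      have h64 : c < 64 := (by decide : ∀ c ∈ [8, 16, 32], c < 64) c hc
      have e := fun i (hi : i < 8) => hg.1.2 c h64 i (by omega)
      have e1 := e 1 (by omega)
      have e2 := e 2 (by omega)
      have e4 := e 4 (by omega)
      rw [f 1 (by omega)] at e1
      rw [f 2 (by omega)] at e2
      rw [f 4 (by omega)] at e4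
      exact (by decide +kernel : ∀ c ∈ [8, 16, 32], ∀ d < 64, om d 1 = om c 1 → om d 2 = om c 2 →
        om d 4 = om c 4 → ∃ w < 8, d = c ^^^ w) c hc _ (hg.1.1 c h64) e1 e2 e4
    obtain ⟨w1, h1, e1⟩ := col 8 (by decide)
    obtain ⟨w2, h2, e2⟩ := col 16 (by decide)
    obtain ⟨w3, h3, e3⟩ := col 32 (by decide)
    have o12 := hg.1.2 8 (by omega) 16 (by omega)
    have o13 := hg.1.2 8 (by omega) 32 (by omega)
    have o23 := hg.1.2 16 (by omega) 32 (by omega)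
    rw [e1, e2] at o12
    rw [e1, e3] at o13
    rw [e2, e3] at o23
    have key : ∀ w1 < 8, ∀ w2 < 8, ∀ w3 < 8, (om (8 ^^^ w1) (16 ^^^ w2) == om 8 16 &&
        om (8 ^^^ w1) (32 ^^^ w3) == om 8 32 && om (16 ^^^ w2) (32 ^^^ w3) == om 16 32) = true →
        (idn 6).map (lin (ffc (8 * (w1 % 2) + 16 * (w2 / 2 % 2) + 32 * (w3 / 4) + 64 * (w1 / 2) +
          256 * (w2 / 4)))) = [1, 2, 4, 8 ^^^ w1, 16 ^^^ w2, 32 ^^^ w3] := by decide +kernel
    have k := key w1 h1 w2 h2 w3 h3 (by simp [o12, o13, o23])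
    have hv : 8 * (w1 % 2) + 16 * (w2 / 2 % 2) + 32 * (w3 / 4) + 64 * (w1 / 2) + 256 * (w2 / 4) < 512 := by
      omega
    generalize 8 * (w1 % 2) + 16 * (w2 / 2 % 2) + 32 * (w3 / 4) + 64 * (w1 / 2) + 256 * (w2 / 4) = v at k hv
    have k' : (idn 6).map (lin (cd g)) = (idn 6).map (lin (cd (ff v))) := by
      rw [cd_ff v hv, k, ← e1, ← e2, ← e3, show idn 6 = [1, 2, 4, 8, 16, 32] from rfl]
      simp only [List.map, f 1 (by omega), f 2 (by omega), f 4 (by omega)]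
    obtain ⟨t, ht, e⟩ := agree (F0_R (ff_mem hv)).1 (List.map_inj_left.1 k')
    obtain ⟨y, hy, w, hw, rfl⟩ := (by decide +kernel : ∀ t < 64, ∃ y < 8, ∃ w < 8, t = 8 * y ^^^ w) t ht
    refine ⟨y, hy, w ^^^ v, Nat.xor_lt_two_pow (n := 9) (by omega) hv, ?_⟩
    rw [e, tau_mul (by omega) (by omega), tau_ff w hw, ff_mul (by omega) hv, mul_assoc]
  · rintro ⟨y, hy, v, hv, rfl⟩
    exact mul_mem (A0_R (tau_mem (by omega))) (F0_R (ff_mem hv))
theorem R0_eq : R0 = A0 ⊔ F0 := by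
  refine le_antisymm (fun g hg => ?_) (sup_le A0_R F0_R)
  obtain ⟨y, hy, v, hv, rfl⟩ := mem_R0.1 hg
  exact mul_mem_sup (tau_mem (by omega)) (ff_mem hv)

namespace MB

def eq3 (a b c : ℕ) : List ℕ → Bool
  | [x, y, z] => Nat.beq x a && Nat.beq y b && Nat.beq z c
  | _ => false

theorem eq3_eq {a b c : ℕ} : ∀ {s : List ℕ}, eq3 a b c s = true → s = [a, b, c]
  | [], h => by simp [eq3] at h
  | [_], h => by simp [eq3] at h
  | [_, _], h => by simp [eq3] at h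
  | [x, y, z], h => by simpa [eq3, and_assoc] using h
  | _ :: _ :: _ :: _ :: _, h => by simp [eq3] at h

def ind3 (a b c : ℕ) : Bool := (List.range 8).all fun x => x == 0 || lin [a, b, c] x != 0

theorem levi {g : Au 7} (hg : g ∈ M0) (L : List (List ℕ)) (hL : ∀ s ∈ L, s ∈ gl3)
    (h : ind3 (lin (cd g) 1) (lin (cd g) 2) (lin (cd g) 4) = true →
      L.any (eq3 (lin (cd g) 1) (lin (cd g) 2) (lin (cd g) 4)) = true) :
    ∃ s ∈ L, ∃ r ∈ R0, g = lv s * r := by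
  have e : ∀ x < 8, lin [lin (cd g) 1, lin (cd g) 2, lin (cd g) 4] x = lin (cd g) x := fun x hx =>
    (lin_cm (cd g) (idn 3) x).trans (by rw [lin_idn (n := 3) hx])
  obtain ⟨s, hs, h3⟩ := List.any_eq_true.1 (h (by
    simp only [ind3, List.all_eq_true, List.mem_range, Bool.or_eq_true, beq_iff_eq, bne_iff_ne]
    exact fun x hx => or_iff_not_imp_left.2 fun h0 e0 => h0
      (lin_inj g (by omega) (by omega) (by rw [← e x hx, e0, lin_zero]))))
  have h4 := eq3_eq h3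
  refine ⟨s, hs, (lv s)⁻¹ * g, ⟨M0.mul_mem (M0.inv_mem (lv_mem (hL s hs)).1) hg, fun c hc => ?_⟩, by group⟩
  have h8 : c < 128 := (by decide : ∀ c ∈ [1, 2, 4], c < 128) c hc
  rw [MulAut.mul_apply, MulAut.inv_apply, MulEquiv.symm_apply_eq, app_bv _ h8, app_bv _ h8,
    cd_lv s (hL s hs), h4]
  congr 1
  simp only [List.mem_cons, List.not_mem_nil, or_false] at hc
  rcases hc with rfl | rfl | rfl <;> simp [lvc, lin]

end MB

theorem mem_P0 {g : Au 7} (hg : g ∈ P0) : ∃ s ∈ gl3, ∃ r ∈ R0, g = lv s * r := by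
  have h := (mem_St (by omega)).1 hg.2
  exact levi hg.1 gl3 (fun _ h => h) ((by decide +kernel : ∀ a < 8, ∀ b < 8, ∀ c < 8,
    ind3 a b c = true → gl3.any (eq3 a b c) = true) _ (h 1 (by omega)) _
      (h 2 (by omega)) _ (h 4 (by omega)))
theorem mem_T0 {g : Au 7} (hg : g ∈ T0) : ∃ s ∈ gl3.take 8, ∃ r ∈ R0, g = lv s * r :=
  levi hg.1.1 (gl3.take 8) (fun _ h => List.mem_of_mem_take h) ((by decide +kernel : ∀ a < 2, ∀ b < 4,
    ∀ c < 8, ind3 a b c = true → (gl3.take 8).any (eq3 a b c) = true) _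
      ((mem_St (by omega)).1 hg.2.1 1 (by omega)) _ ((mem_St (by omega)).1 hg.2.2 2 (by omega)) _
      ((mem_St (by omega)).1 hg.1.2 4 (by omega)))
theorem tauh_inj : Function.Injective tauh := fun v w h =>
  BV.ext (tau_inj v.lt w.lt (by rwa [tauh_eq, tauh_eq] at h))
theorem ffh_inj : Function.Injective ffh := (injective_iff_map_eq_one ffh).2 fun v h => by
  have e : cd (ff v.1) = idn 7 := by rw [← ffh_eq, h, cd_one]
  rw [cd_ff v.1 v.lt] at e
  exact BV.ext ((by decide +kernel : ∀ v < 512, ffc v = idn 7 → v = 0) v.1 v.lt e)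

theorem MB.cj {m : Au 7} (hm : m ∈ M0) {v : ℕ} (hv : v < 64) : m * tau v = tau (lin (cd m) v) * m := by
  have h1 := hm.1 v hv
  refine ext7 (fun x hx => ?_) ?_
  · rw [cd_mul, cd_mul, lin_cm, lin_cm, tau_lo hv hx, tau_lo h1 (hm.1 x hx)]
  · obtain ⟨t, ht, e⟩ := hi64 hm.1
    rw [cd_mul, cd_mul, lin_cm, lin_cm, tau_hi hv, lin_xor, e, lin_xor, tau_hi h1, tau_lo h1 ht]
    ac_rfl

theorem MB.fix {m : Au 7} (hm : m ∈ M0) {v : ℕ} (hv : v < 64) (h : m * tau v = tau v * m) :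
    lin (cd m) v = v :=
  tau_inj (hm.1 v hv) hv (mul_right_cancel ((cj hm hv).symm.trans h))

theorem MB.ff_fix {y : ℕ} (hy : y < 64) (h : ∀ u ∈ [8, 16, 32], ff u * tau y = tau y * ff u) : y < 8 := by
  refine (by decide +kernel : ∀ y < 64, (∀ u ∈ [8, 16, 32], lin (ffc u) y = y) → y < 8) y hy fun u hu => ?_
  have h9 : u < 512 := (by decide : ∀ c ∈ [8, 16, 32], c < 512) u hu
  rw [← cd_ff u h9]
  exact fix (F0_R (ff_mem h9)).1 hy (h u hu)

theorem MB.ff_comm {u v : ℕ} (hu : u < 512) (hv : v < 512) : ff u * ff v = ff v * ff u := by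
  rw [← ff_mul hu hv, ← ff_mul hv hu, Nat.xor_comm]

theorem card_R0 : Nat.card R0 = 2 ^ 12 := by
  let φ : BV 3 × BV 9 → R0 := fun p => ⟨tau (8 * p.1.1) * ff p.2.1, mem_R0.2 ⟨_, p.1.2, _, p.2.2, rfl⟩⟩
  have hφ : Function.Bijective φ := by
    refine ⟨fun p q h => ?_, fun g => ?_⟩
    · have e : tau (8 * p.1.1) * ff p.2.1 = tau (8 * q.1.1) * ff q.2.1 := by
        simpa only [φ, Subtype.mk.injEq] using h
      have hp : p.1.1 < 8 := p.1.2
      have hq : q.1.1 < 8 := q.1.2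
      have hi : ∀ y < 8, ∀ v < 512, lin (cd (tau (8 * y) * ff v)) 64 / 8 = 8 + y := fun y hy v hv => by
        rw [cd_mul, lin_cm, cd_ff v hv, cd_tau _ (by omega)]
        exact (by decide +kernel : ∀ y < 8, ∀ v < 512, lin (tauc (8 * y)) (lin (ffc v) 64) / 8 = 8 + y)
          y hy v hv
      have e1 : p.1 = q.1 := BV.ext (by
        have := hi _ hp _ p.2.2
        rw [e, hi _ hq _ q.2.2] at this
        omega)
      rw [e1] at e
      exact Prod.ext e1 (ffh_inj (by rw [ffh_eq, ffh_eq]; exact mul_left_cancel e))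
    · obtain ⟨y, hy, v, hv, e⟩ := mem_R0.1 g.2
      exact ⟨(⟨y, hy⟩, ⟨v, hv⟩), Subtype.ext e.symm⟩
  rw [← Nat.card_eq_of_bijective φ hφ, Nat.card_prod, card_BV, card_BV]
  norm_num
theorem card_T0 : Nat.card T0 = 2 ^ 15 := by
  have hm : ∀ i : Fin 8, gl3.getD i [] ∈ gl3.take 8 := by decide +kernel
  let φ : Fin 8 × R0 → T0 := fun p => ⟨lv (gl3.getD p.1 []) * p.2, mul_mem (lv_mem' (hm p.1)) (R0_T p.2.2)⟩
  have hφ : Function.Bijective φ := by
    refine ⟨fun p q h => ?_, fun g => ?_⟩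
    · have e : lv (gl3.getD p.1 []) * p.2 = lv (gl3.getD q.1 []) * q.2 := by
        simpa only [φ, Subtype.mk.injEq] using h
      have hi : ∀ (i : Fin 8) (r : R0), ∀ x < 8, lin (cd (lv (gl3.getD i []) * (r : Au 7))) x =
          lin (lvc (gl3.getD i [])) x := fun i r x hx => by
        rw [cd_mul, lin_cm, mem_Fx.1 r.2.2 x hx, cd_lv _ (List.mem_of_mem_take (hm i))]
      have e1 : p.1 = q.1 := (by decide +kernel : ∀ i j : Fin 8, (∀ x < 8, lin (lvc (gl3.getD i [])) x =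
        lin (lvc (gl3.getD j [])) x) → i = j) _ _ fun x hx => by rw [← hi _ p.2 x hx, e, hi _ q.2 x hx]
      rw [e1] at e
      exact Prod.ext e1 (Subtype.ext (mul_left_cancel e))
    · obtain ⟨s, hs, r, hr, e⟩ := mem_T0 g.2
      obtain ⟨i, rfl⟩ := (by decide +kernel : ∀ s ∈ gl3.take 8, ∃ i : Fin 8, s = gl3.getD i []) s hs
      exact ⟨(i, ⟨r, hr⟩), Subtype.ext e.symm⟩
  rw [← Nat.card_eq_of_bijective φ hφ, Nat.card_prod, card_R0, Nat.card_fin]
  norm_num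
theorem isP_T0 : IsPGroup 2 T0 := IsPGroup.of_card card_T0
theorem cj_tau {m : Au 7} (hm : m ∈ M0) {v : ℕ} (hv : v < 64) :
    lin (cd m) v < 64 ∧ m * tau v * m⁻¹ = tau (lin (cd m) v) :=
  ⟨hm.1 v hv, by rw [cj hm hv, mul_inv_cancel_right]⟩
theorem cent_A0 {m : Au 7} (hm : m ∈ M0) (h : ∀ v < 64, m * tau v = tau v * m) : m ∈ A0 :=
  mem_A0.2 fun v hv => fix hm hv (h v hv)
theorem cent_F0 {m : Au 7} (hm : m ∈ M0) (h : ∀ v < 512, m * ff v = ff v * m) : m ∈ F0 := by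
  have hR : m ∈ R0 := ⟨hm, mem_Fx.2 fun x hx => fix hm (by omega) (by
    rw [tau_ff x hx]; exact h x (by omega))⟩
  obtain ⟨y, hy, v, hv, rfl⟩ := mem_R0.1 hR
  have := ff_fix (y := 8 * y) (by omega) fun u hu => by
    have h9 : u < 512 := (by decide : ∀ c ∈ [8, 16, 32], c < 512) u hu
    have e := h u h9
    rw [mul_assoc, ff_comm hv h9, ← mul_assoc, ← mul_assoc] at e
    exact (mul_right_cancel e).symm
  rw [tau_ff _ this]
  exact mul_mem (ff_mem (by omega)) (ff_mem hv)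

theorem MB.cj_R0 {m r : Au 7} (hm : m ∈ P0) (hr : r ∈ R0) : m * r * m⁻¹ ∈ R0 :=
  ⟨M0.mul_mem (M0.mul_mem hm.1 hr.1) (M0.inv_mem hm.1), mem_Fx.2 fun x hx => by
    rw [cd_mul, cd_mul, lin_cm, lin_cm, mem_Fx.1 hr.2 _ ((mem_St (by omega)).1 (P0.inv_mem hm).2 x hx),
      lin_inv m (by omega)]⟩

theorem nR0 {m : Au 7} (hm : m ∈ M0) : m ∈ 𝐍(R0) ↔ m ∈ P0 := by
  constructor
  · intro h
    refine ⟨hm, (mem_St (by omega)).2 fun x hx => ff_fix (hm.1 x (by omega)) fun u hu => ?_⟩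
    have h9 : u < 512 := (by decide : ∀ c ∈ [8, 16, 32], c < 512) u hu
    have h1 : m⁻¹ * ff u * m ∈ R0 := (mem_normalizer_iff.1 h _).2 (by
      simpa [mul_assoc] using F0_R (ff_mem h9))
    have h2 := cj h1.1 (v := x) (by omega)
    rw [mem_Fx.1 h1.2 x hx] at h2
    rw [← (cj_tau hm (v := x) (by omega)).2]
    calc ff u * (m * tau x * m⁻¹) = m * (m⁻¹ * ff u * m * tau x) * m⁻¹ := by group
      _ = m * tau x * m⁻¹ * ff u := by rw [h2]; group
  · intro h
    exact mem_normalizer_iff.2 fun r => ⟨cj_R0 h, fun hr => by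
      simpa [mul_assoc] using cj_R0 (P0.inv_mem h) hr⟩
theorem split0 {m : Au 7} (hm : m ∈ M0) (h : m * m ∈ A0) : ∃ v < 64, tau v * m * (tau v * m) = 1 := by
  obtain ⟨t, ht, e⟩ := hi64 hm.1
  have h64 : lin (cd (tau t * m)) 64 = 64 := by
    rw [cd_mul, lin_cm, e, lin_xor, tau_hi ht, tau_lo ht ht, Nat.xor_assoc, Nat.xor_self, Nat.xor_zero]
  have hlo : ∀ x < 64, lin (cd (tau t * m)) x = lin (cd m) x := fun x hx => by
    rw [cd_mul, lin_cm, tau_lo ht (hm.1 x hx)]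
  refine ⟨t, ht, ext7 (fun x hx => ?_) ?_⟩
  · rw [cd_mul, lin_cm, hlo x hx, hlo _ (hm.1 x hx), ← lin_cm, ← cd_mul, mem_A0.1 h x hx, cd_one,
      lin_idn (by omega)]
  · rw [cd_mul, lin_cm, h64, h64, cd_one, lin_idn (by omega)]

theorem MB.eqns_mb : True := by
  have := @MB.chk.eq_1
  have := @MB.ind3.eq_1
  have := @MB.eq3.eq_1
  have := @MB.eq3.eq_2
  trivial

end H12.E64
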