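import Cfsg.Agent.Lib.E64.MQ1

/-! The group `Q0` (see blueprint/E64/README.md) (helper65) -/

set_option autoImplicit false

namespace H12.E64

open Subgroup Cfsg H69 H45 Gold
open scoped commutatorElement

attribute [local irreducible] mk

theorem mq_ffQ0 : (List.range 512).all (fun v => v &&& 816 != 0 ||
    [0, 1, 8, 9].any fun z => ffc v == cm (prc qb (lin [0, 5, 80, 0, 0, 0, 10, 160] v)) (ffc z)) = true := by
  decide +kernel

theorem mq_Q {g : Au 7} {v z : ℕ} (hz : z ∈ [0, 1, 8, 9]) (h : cd g = cm (prc qb v) (ffc z)) : g ∈ Q0 := by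
  rw [← (mq_q0 v).2, ← cd_ff z (mq_z4 z hz).1, ← cd_mul, ← cd_eq_iff] at h
  rw [h]
  exact mul_mem (X0_Q (mq_q0 v).1) (Z0_Q (mem_Z0.2 ⟨z, hz, rfl⟩))

theorem mq_gens : ∀ l ∈ ffc 1 :: ffc 8 :: qb, cd (mk 7 l) = l := fun l hl => by
  rcases List.mem_cons.1 hl with rfl | hl
  · exact cd_ff 1 (by norm_num)
  rcases List.mem_cons.1 hl with rfl | hl
  · exact cd_ff 8 (by norm_num)
  exact cd_qb l hl

theorem ff_Q : ∀ v < 512, (ff v ∈ Q0 ↔ v &&& 816 = 0) := by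
  intro v hv
  constructor
  · intro h
    have := mem_of_closed (P := fun m => lin m 16 ∈ [16, 17] ∧ lin m 32 ∈ [32, 33]) mq_gens (by decide)
      (fun l hl m hm => by
        rw [lin_cm, lin_cm]
        have := (by decide +kernel : ∀ l ∈ ffc 1 :: ffc 8 :: qb, (∀ x ∈ [16, 17], lin l x ∈ [16, 17]) ∧
          ∀ x ∈ [32, 33], lin l x ∈ [32, 33]) l hl
        exact ⟨this.1 _ hm.1, this.2 _ hm.2⟩) h
    rw [cd_ff v hv] at this
    exact (by decide +kernel : ∀ v < 512, lin (ffc v) 16 ∈ [16, 17] ∧ lin (ffc v) 32 ∈ [32, 33] → v &&& 816 = 0)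
      v hv this
  · intro h
    have := List.all_eq_true.1 mq_ffQ0 _ (List.mem_range.2 hv)
    simp only [Bool.or_eq_true, bne_iff_ne, List.any_eq_true, beq_iff_eq] at this
    obtain ⟨z, hz, e⟩ := this.resolve_left fun k => k h
    exact mq_Q hz ((cd_ff v hv).trans e)

theorem ff_two : ff 2 = q0 5 * ff 1 := by
  rw [cd_eq_iff, cd_mul, (mq_q0 5).2, cd_ff 1 (by norm_num), cd_ff 2 (by norm_num)]; decide +kernel

theorem tau_Q : ∀ v < 64, v &&& 8 = 0 → tau v ∈ Q0 := by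
  intro v hv h
  obtain ⟨z, hz, e⟩ := (by decide +kernel : ∀ v < 64, v &&& 8 = 0 → ∃ z ∈ [0, 1, 8, 9],
    tauc v = cm (prc qb (lin [0, 5, 80, 0, 11, 176] v)) (ffc z)) v hv h
  exact mq_Q hz ((cd_tau v hv).trans e)

/-- the characterisation of `Q0` -/
theorem mq_char {g : Au 7} (hg : g ∈ M0) (h1 : om (lin (cd g) 64 ^^^ 64) 1 = false) (h1' : lin (cd g) 64 ^^^ 64 < 64)
    (h2 : ∀ y < 64, om y 1 = false → lin (cd g) y ^^^ y ∈ [0, 1]) (h3 : lin (cd g) 1 = 1) : g ∈ Q0 := by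
  obtain ⟨hl, ho⟩ := mem_sg.1 hg
  have x2 : ∀ {y : ℕ}, lin (cd g) y ^^^ y ∈ [0, 1] → ∃ a ∈ [0, 1], lin (cd g) y = y ^^^ a := fun {y} h =>
    ⟨_, h, by rw [Nat.xor_comm (lin _ y), Nat.xor_xor_cancel_left]⟩
  obtain ⟨a, ha, ea⟩ := x2 (h2 2 (by norm_num) (by decide))
  obtain ⟨b, hb, eb⟩ := x2 (h2 4 (by norm_num) (by decide))
  obtain ⟨c, hc, ec⟩ := x2 (h2 16 (by norm_num) (by decide))
  obtain ⟨d, hd, ed⟩ := x2 (h2 32 (by norm_num) (by decide))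
  have o1 := ho 8 (by norm_num) 1 (by norm_num)
  have o2 := ho 8 (by norm_num) 2 (by norm_num)
  have o3 := ho 8 (by norm_num) 4 (by norm_num)
  have o4 := ho 8 (by norm_num) 16 (by norm_num)
  have o5 := ho 8 (by norm_num) 32 (by norm_num)
  have l8 := hl 8 (by norm_num)
  rw [h3] at o1; rw [ea] at o2; rw [eb] at o3; rw [ec] at o4; rw [ed] at o5
  obtain ⟨z, hz, e⟩ := (by decide +kernel : ∀ a ∈ [0, 1], ∀ b ∈ [0, 1], ∀ c ∈ [0, 1], ∀ d ∈ [0, 1], ∀ u < 64,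
    om u 1 = om 8 1 → om u (2 ^^^ a) = om 8 2 → om u (4 ^^^ b) = om 8 4 → om u (16 ^^^ c) = om 8 16 →
    om u (32 ^^^ d) = om 8 32 → ∃ z ∈ [0, 1, 8, 9], [1, 2 ^^^ a, 4 ^^^ b, u, 16 ^^^ c, 32 ^^^ d, 64] =
      cm (prc qb (a * 13 ^^^ b * 208 ^^^ c * 10 ^^^ d * 160)) (ffc z)) a ha b hb c hc d hd _ l8 o1 o2 o3 o4 o5
  have t8 := (by decide +kernel : ∀ t < 64, om t 1 = false → t &&& 8 = 0) _ h1' h1
  have cg : cd g = (idn 7).map (lin (cd g)) := by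
    have := cd_mul g 1
    rwa [mul_one, cd_one] at this
  have e1 : lin (cd g) 64 = 64 ^^^ (lin (cd g) 64 ^^^ 64) := by
    rw [Nat.xor_comm (lin _ 64), Nat.xor_xor_cancel_left]
  rw [show idn 7 = [1, 2, 4, 8, 16, 32, 64] by decide +kernel, List.map_cons, List.map_cons, List.map_cons,
    List.map_cons, List.map_cons, List.map_cons, List.map_cons, List.map_nil, h3, ea, eb, ec, ed, e1] at cg
  have l2 := ea ▸ hl 2 (by norm_num)
  have l4 := eb ▸ hl 4 (by norm_num)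
  have l16 := ec ▸ hl 16 (by norm_num)
  have l32 := ed ▸ hl 32 (by norm_num)
  generalize lin (cd g) 64 ^^^ 64 = t at cg h1' t8
  generalize lin (cd g) 8 = u at cg e l8
  have hk : tau t * g ∈ Q0 := by
    refine mq_Q hz (Eq.trans ?_ e)
    have fx := mem_A0.1 (tau_mem h1')
    have e64 : lin (cd (tau t)) (64 ^^^ t) = 64 := by
      rw [lin_xor, fx _ h1', cd_tau _ h1', (by decide +kernel : ∀ t < 64, lin (tauc t) 64 = 64 ^^^ t) t h1',
        Nat.xor_xor_cancel_right]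
    rw [cd_mul, cg, cm, List.map_cons, List.map_cons, List.map_cons,
      List.map_cons, List.map_cons, List.map_cons, List.map_cons, List.map_nil, fx 1 (by norm_num), fx _ l2, fx _ l4,
      fx _ l8, fx _ l16, fx _ l32, e64]
  have := mul_mem (inv_mem (tau_Q _ h1' t8)) hk
  rwa [inv_mul_cancel_left] at this

theorem mq_nm {X : Type*} [Group X] [Finite X] {s : Set X} {m : X} (h : ∀ x ∈ s, m * x * m⁻¹ ∈ closure s) :
    m ∈ 𝐍(closure s) := by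
  refine mem_normalizer_fintype fun x hx => ?_
  induction hx using closure_induction with
  | mem x hx => exact h x hx
  | one => simp
  | mul x y _ _ a b => simpa [mul_assoc] using mul_mem a b
  | inv x _ a => simpa [mul_assoc] using inv_mem a

theorem mq_li {n : ℕ} (m : Au n) {y : ℕ} (hy : y < 2 ^ n) : lin (cd m) (lin (cd m⁻¹) y) = y := by
  rw [← lin_cm, ← cd_mul, mul_inv_cancel, cd_one, lin_idn hy]

theorem mq_cj {n : ℕ} (m x : Au n) {y : ℕ} (hy : y < 2 ^ n) : lin (cd (m * x * m⁻¹)) y ^^^ y =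
    lin (cd m) (lin (cd x) (lin (cd m⁻¹) y) ^^^ lin (cd m⁻¹) y) := by
  rw [cd_mul, cd_mul, lin_cm, lin_cm, lin_xor, mq_li m hy]

theorem mq_gch : ∀ l ∈ ffc 1 :: ffc 8 :: qb, (∀ y < 128, lin l y ^^^ y < 64 ∧ om (lin l y ^^^ y) 1 = false) ∧
    (∀ y < 64, om y 1 = false → lin l y ^^^ y ∈ [0, 1]) ∧ lin l 1 = 1 := by decide +kernel

theorem nQ0 {m : Au 7} (hm : m ∈ M0) (h : lin (cd m) 1 = 1) : m ∈ 𝐍(Q0) := by
  refine mq_nm fun x hx => ?_
  obtain ⟨l, hl, hx⟩ := hx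
  have hM : x ∈ M0 := (Q0_T (hx ▸ mq_gen hl)).1.1
  obtain ⟨c1, c2, c3⟩ := mq_gch l hl
  rw [← mq_gens l hl, ← hx] at c1 c2 c3
  obtain ⟨ml, mo⟩ := mem_sg.1 hm
  obtain ⟨nl, no⟩ := mem_sg.1 (inv_mem hm)
  have n1 : lin (cd m⁻¹) 1 = 1 := by
    have := mq_li m⁻¹ (y := 1) (by norm_num)
    rwa [inv_inv, h] at this
  have b64 := c1 _ (lin_lt (n := 7) (cd_lt m⁻¹) 64)
  refine mq_char (mul_mem (mul_mem hm hM) (inv_mem hm)) ?_ ?_ (fun y hy oy => ?_) ?_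
  · have := mo _ b64.1 1 (by norm_num)
    rw [h, b64.2] at this
    rw [mq_cj m x (by norm_num), this]
  · rw [mq_cj m x (by norm_num)]; exact ml _ b64.1
  · rw [mq_cj m x (show y < 2 ^ 7 by omega)]
    have o := no y hy 1 (by norm_num)
    rw [n1, oy] at o
    rcases List.mem_cons.1 (c2 _ (nl y hy) o) with e | e
    · rw [e, lin_zero]; exact List.mem_cons_self
    · rw [List.mem_singleton.1 e, h]; exact List.mem_cons_of_mem _ List.mem_cons_self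
  · rw [cd_mul, cd_mul, lin_cm, lin_cm, n1, c3, h]

theorem mq_tv0 : [(16, [12, 4, 2, 3, 16, 32, 64, 128]), (48, [220, 100, 98, 179, 205, 70, 38, 59])].all (fun p =>
    (List.range 256).all fun v => [0, 1, 8, 9].any fun z =>
      cm (cm (tvc p.1) (prc qb v)) (tvc p.1) == cm (prc qb (lin p.2 v)) (ffc z)) = true := by
  decide +kernel

theorem tv_Q : ∀ p ∈ [(16, 6), (48, 102)], tv p.1 * ff 1 = ff 1 * tv p.1 ∧ tv p.1 * ff 8 = ff 8 * tv p.1 ∧
    ∀ v < 256, ∃ z ∈ [0, 1, 8, 9], tv p.1 * q0 v * (tv p.1)⁻¹ = q0 (lin (tac p.2) v) * ff z := by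
  intro p hp
  obtain ⟨h1, h2, h3, h4, h5⟩ := (by decide +kernel : ∀ p ∈ [(16, 6), (48, 102)], p.1 < 64 ∧
    cm (tvc p.1) (ffc 1) = cm (ffc 1) (tvc p.1) ∧ cm (tvc p.1) (ffc 8) = cm (ffc 8) (tvc p.1) ∧
    ok 7 (tvc p.1) (tvc p.1) = true ∧
    (p.1, tac p.2) ∈ [(16, [12, 4, 2, 3, 16, 32, 64, 128]), (48, [220, 100, 98, 179, 205, 70, 38, 59])]) p hp
  refine ⟨?_, ?_, fun v hv => ?_⟩
  · rw [cd_eq_iff, cd_mul, cd_mul, cd_tv _ h1, cd_ff 1 (by norm_num), h2]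
  · rw [cd_eq_iff, cd_mul, cd_mul, cd_tv _ h1, cd_ff 8 (by norm_num), h3]
  · obtain ⟨z, hz, e⟩ := List.any_eq_true.1
      (List.all_eq_true.1 (List.all_eq_true.1 mq_tv0 _ h5) v (List.mem_range.2 hv))
    refine ⟨z, hz, ?_⟩
    rw [cd_eq_iff, cd_mul, cd_mul, cd_mul, cd_inv (l := tvc p.1) (by rw [cd_tv _ h1]; exact h4), cd_tv _ h1,
      (mq_q0 _).2, (mq_q0 _).2, cd_ff z (mq_z4 z hz).1]
    exact beq_iff_eq.1 e

end H12.E64
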