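import Cfsg.Agent.Lib.E64.MB

/-! The group `Q0` (see blueprint/E64/README.md) (helper65) -/

set_option autoImplicit false

namespace H12.E64

open Subgroup Cfsg H69 H45 Gold
open scoped commutatorElement

attribute [local irreducible] mk

theorem cd_qb : ∀ l ∈ qb, cd (mk 7 l) = l := fun l hl =>
  cd_mk (cm l (cm l l)) ((by decide +kernel : ∀ l ∈ qb, ok 7 l (cm l (cm l l)) = true) l hl)

theorem mq_prc {H : Subgroup (Au 7)} : ∀ (l : List (List ℕ)), (∀ c ∈ l, ∃ g ∈ H, cd g = c) →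
    ∀ v, ∃ g ∈ H, cd g = prc l v
  | [], _, _ => ⟨1, one_mem _, cd_one⟩
  | c :: l, h, v => by
    obtain ⟨g, hg, e⟩ := mq_prc l (fun d hd => h d (List.mem_cons_of_mem _ hd)) (v / 2)
    obtain ⟨k, hk, e'⟩ := h c List.mem_cons_self
    rw [prc]
    cases (v % 2 == 1)
    · exact ⟨g, hg, e⟩
    · exact ⟨k * g, mul_mem hk hg, by rw [cd_mul, e, e']; rfl⟩

theorem mq_gen {n : ℕ} {s : List (List ℕ)} {l : List ℕ} (h : l ∈ s) : mk n l ∈ cl n s := subset_closure ⟨l, h, rfl⟩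

theorem mq_q0 (v : ℕ) : q0 v ∈ X0 ∧ cd (q0 v) = prc qb v := by
  obtain ⟨g, hg, e⟩ := mq_prc (H := X0) qb (fun c hc => ⟨mk 7 c, mq_gen (List.mem_cons_of_mem _ hc), cd_qb c hc⟩) v
  rw [q0, ← e, mk_cd]
  exact ⟨hg, rfl⟩

theorem cd_q0 : ∀ v < 256, cd (q0 v) = prc qb v := fun v _ => (mq_q0 v).2

theorem q0_zero : q0 0 = 1 := by
  rw [cd_eq_iff, (mq_q0 0).2, cd_one]; decide +kernel

theorem mq_qb {l : List ℕ} (h : l ∈ qb) : ∃ e ∈ idn 8, mk 7 l = q0 e := by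
  obtain ⟨e, he, h⟩ := (by decide +kernel : ∀ l ∈ qb, ∃ e ∈ idn 8, l = prc qb e) l h
  exact ⟨e, he, by rw [h]; rfl⟩

theorem Q0_T : Q0 ≤ T0 := by
  refine (closure_le _).2 ?_
  rintro _ ⟨l, hl, rfl⟩
  rcases List.mem_cons.1 hl with rfl | hl
  · exact R0_T (F0_R (ff_mem (v := 1) (by norm_num)))
  rcases List.mem_cons.1 hl with rfl | hl
  · exact R0_T (F0_R (ff_mem (v := 8) (by norm_num)))
  obtain ⟨p, -, hs, hy, hv, e⟩ := (by decide +kernel : ∀ l ∈ qb, ∃ p ∈ [([1, 2, 4], 16, 64), ([1, 3, 4], 0, 67),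
    ([1, 2, 4], 16, 66), ([1, 3, 4], 0, 3), ([1, 2, 4], 32, 128), ([1, 2, 5], 0, 133), ([1, 2, 4], 32, 132),
    ([1, 2, 5], 0, 5)], p.1 ∈ gl3.take 8 ∧ p.2.1 < 64 ∧ p.2.2 < 512 ∧
      l = cm (lvc p.1) (cm (tauc p.2.1) (ffc p.2.2))) l hl
  have : mk 7 l = lv p.1 * (tau p.2.1 * ff p.2.2) := by
    rw [cd_eq_iff, cd_qb l hl, cd_mul, cd_mul, cd_lv _ (List.mem_of_mem_take hs), cd_tau _ hy, cd_ff _ hv, e]
  show mk 7 l ∈ T0
  rw [this]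
  exact mul_mem (lv_mem' hs) (R0_T (mul_mem (A0_R (tau_mem hy)) (F0_R (ff_mem hv))))

theorem Z0_Q : Z0 ≤ Q0 := closure_mono (by
  rintro _ ⟨l, hl, rfl⟩
  exact ⟨l, by simp only [List.mem_cons] at hl ⊢; tauto, rfl⟩)

theorem X0_Q : X0 ≤ Q0 := closure_mono (by
  rintro _ ⟨l, hl, rfl⟩
  exact ⟨l, by simp only [List.mem_cons] at hl ⊢; tauto, rfl⟩)

theorem mq_ff0 : ff 0 = 1 := by rw [cd_eq_iff, cd_ff 0 (by norm_num), cd_one]; decide +kernel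

theorem mq_z4 : ∀ z ∈ [0, 1, 8, 9], z < 512 ∧ ∀ w ∈ [0, 1, 8, 9], z ^^^ w ∈ [0, 1, 8, 9] := by decide
theorem mq_z2 : ∀ z ∈ [0, 1], z ∈ [0, 1, 8, 9] ∧ ∀ w ∈ [0, 1], z ^^^ w ∈ [0, 1] := by decide

theorem mem_Z0 {g : Au 7} : g ∈ Z0 ↔ ∃ z ∈ [0, 1, 8, 9], g = ff z := by
  constructor
  · intro hg
    refine (closure_le (sg (fun g => ∃ z ∈ [0, 1, 8, 9], g = ff z) ⟨0, by simp, mq_ff0.symm⟩ ?_)).2 ?_ hg
    · rintro _ _ ⟨z, hz, rfl⟩ ⟨w, hw, rfl⟩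
      exact ⟨z ^^^ w, (mq_z4 z hz).2 w hw, (ff_mul (mq_z4 z hz).1 (mq_z4 w hw).1).symm⟩
    · rintro _ ⟨l, hl, rfl⟩
      simp only [List.mem_cons, List.not_mem_nil, or_false] at hl
      rcases hl with rfl | rfl
      exacts [⟨1, by simp, rfl⟩, ⟨8, by simp, rfl⟩]
  · rintro ⟨z, hz, rfl⟩
    have h1 : ff 1 ∈ Z0 := mq_gen (by simp)
    have h8 : ff 8 ∈ Z0 := mq_gen (by simp)
    simp only [List.mem_cons, List.not_mem_nil, or_false] at hz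
    rcases hz with rfl | rfl | rfl | rfl
    · rw [mq_ff0]; exact one_mem _
    · exact h1
    · exact h8
    · rw [show 9 = 1 ^^^ 8 by decide, ff_mul (by norm_num) (by norm_num)]; exact mul_mem h1 h8

theorem q0_Z : ∀ g ∈ Q0, ∀ z ∈ Z0, g * z = z * g := by
  intro g hg z0 hz0
  obtain ⟨z, hz, rfl⟩ := mem_Z0.1 hz0
  have hz' := (mq_z4 z hz).1
  refine (closure_le (sg (fun g => g * ff z = ff z * g) (by simp) fun a b ha hb => by
    rw [mul_assoc, hb, ← mul_assoc, ha, mul_assoc])).2 ?_ hg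
  rintro _ ⟨l, hl, rfl⟩
  have e : cd (mk 7 l) = l := by
    rcases List.mem_cons.1 hl with rfl | hl
    · exact cd_ff 1 (by norm_num)
    rcases List.mem_cons.1 hl with rfl | hl
    · exact cd_ff 8 (by norm_num)
    exact cd_qb l hl
  show mk 7 l * ff z = ff z * mk 7 l
  rw [cd_eq_iff, cd_mul, cd_mul, e, cd_ff z hz']
  exact (by decide +kernel : ∀ z ∈ [0, 1, 8, 9], ∀ l ∈ ffc 1 :: ffc 8 :: qb, cm l (ffc z) = cm (ffc z) l) z hz l hl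

theorem mq_c (v : ℕ) {z : ℕ} (hz : z ∈ [0, 1, 8, 9]) : q0 v * ff z = ff z * q0 v :=
  q0_Z _ (X0_Q (mq_q0 v).1) _ (mem_Z0.2 ⟨z, hz, rfl⟩)

theorem mq_step0 : ((idn 8).zip qb).all (fun p => (List.range 256).all fun w =>
    cm p.2 (prc qb w) == prc qb (p.1 ^^^ w) || cm p.2 (prc qb w) == cm (prc qb (p.1 ^^^ w)) (ffc 1)) = true := by
  decide +kernel

theorem mq_step {e : ℕ} (he : e ∈ idn 8) {w : ℕ} (hw : w < 256) : ∃ z ∈ [0, 1], q0 e * q0 w = q0 (e ^^^ w) * ff z := by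
  obtain ⟨p, hp, rfl, e2⟩ := (by decide +kernel : ∀ e ∈ idn 8, ∃ p ∈ (idn 8).zip qb, e = p.1 ∧ prc qb p.1 = p.2) e he
  have := List.all_eq_true.1 (List.all_eq_true.1 mq_step0 p hp) w (List.mem_range.2 hw)
  simp only [Bool.or_eq_true, beq_iff_eq] at this
  rcases this with h | h
  · exact ⟨0, by simp, by rw [mq_ff0, mul_one, cd_eq_iff, cd_mul, (mq_q0 _).2, (mq_q0 _).2, (mq_q0 _).2, e2, h]⟩
  · exact ⟨1, by simp, by
      rw [cd_eq_iff, cd_mul, cd_mul, (mq_q0 _).2, (mq_q0 _).2, (mq_q0 _).2, e2, h, cd_ff 1 (by norm_num)]⟩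

theorem mq_ffsq {z : ℕ} (hz : z < 512) : ff z * ff z = 1 := by rw [← ff_mul hz hz, Nat.xor_self, mq_ff0]

theorem q0_mul : ∀ v < 256, ∀ w < 256, ∃ z ∈ [0, 1], q0 v * q0 w = q0 (v ^^^ w) * ff z := by
  intro v
  induction v using Nat.strong_induction_on with
  | _ v ih =>
    intro hv w hw
    by_cases v0 : v = 0
    · subst v0
      exact ⟨0, by simp, by rw [q0_zero, mq_ff0, Nat.zero_xor, one_mul, mul_one]⟩
    obtain ⟨e, he, e8, lt⟩ := (by decide +kernel : ∀ v < 256, v ≠ 0 → ∃ e ∈ idn 8, e < 256 ∧ e ^^^ v < v) v hv v0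
    obtain ⟨z1, h1, e1⟩ := mq_step he (lt.trans hv)
    obtain ⟨z2, h2, e2⟩ := ih _ lt (lt.trans hv) w hw
    obtain ⟨z3, h3, e3⟩ := mq_step he (Nat.xor_lt_two_pow (n := 8) (lt.trans hv) hw)
    rw [Nat.xor_xor_cancel_left] at e1
    rw [← Nat.xor_assoc, Nat.xor_xor_cancel_left] at e3
    have l1 := (mq_z4 _ (mq_z2 z1 h1).1).1
    have l2 := (mq_z4 _ (mq_z2 z2 h2).1).1
    have l3 := (mq_z4 _ (mq_z2 z3 h3).1).1
    refine ⟨z3 ^^^ (z2 ^^^ z1), (mq_z2 z3 h3).2 _ ((mq_z2 z2 h2).2 _ h1), ?_⟩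
    have e4 : q0 v = q0 e * q0 (e ^^^ v) * ff z1 := by rw [e1, mul_assoc, mq_ffsq l1, mul_one]
    rw [ff_mul l3 (Nat.xor_lt_two_pow (n := 9) l2 l1), ff_mul l2 l1, ← mul_assoc, ← e3, ← mul_assoc,
      mul_assoc (q0 e), ← e2]
    conv_lhs => rw [e4, mul_assoc, ← mq_c w (mq_z2 z1 h1).1]
    simp only [mul_assoc]

theorem mq_mem {Z : List ℕ} (hZ : ∀ z ∈ Z, z ∈ [0, 1, 8, 9] ∧ ∀ w ∈ Z, z ^^^ w ∈ Z) (h01 : ∀ z ∈ [0, 1], z ∈ Z)
    {s : List (List ℕ)} (hs : ∀ l ∈ s, l ∈ qb ∨ ∃ z ∈ Z, l = ffc z) {g : Au 7} (hg : g ∈ cl 7 s) :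
    ∃ v < 256, ∃ z ∈ Z, g = q0 v * ff z := by
  refine (closure_le (sg (fun g => ∃ v < 256, ∃ z ∈ Z, g = q0 v * ff z)
    ⟨0, by norm_num, 0, h01 0 (by simp), by rw [q0_zero, mq_ff0, one_mul]⟩ ?_)).2 ?_ hg
  · rintro _ _ ⟨v, hv, z, hz, rfl⟩ ⟨w, hw, y, hy, rfl⟩
    obtain ⟨x, hx, e⟩ := q0_mul v hv w hw
    have l1 := (mq_z4 _ (hZ z hz).1).1
    have l2 := (mq_z4 _ (hZ y hy).1).1
    have l3 := (mq_z4 _ (mq_z2 x hx).1).1
    refine ⟨v ^^^ w, Nat.xor_lt_two_pow (n := 8) hv hw, x ^^^ (z ^^^ y), (hZ x (h01 x hx)).2 _ ((hZ z hz).2 y hy), ?_⟩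
    rw [ff_mul l3 (Nat.xor_lt_two_pow (n := 9) l1 l2), ff_mul l1 l2, ← mul_assoc (q0 (v ^^^ w)), ← e,
      mul_assoc (q0 v) (ff z), ← mul_assoc (ff z), ← mq_c w (hZ z hz).1]
    simp only [mul_assoc]
  · rintro _ ⟨l, hl, rfl⟩
    rcases hs l hl with h | ⟨z, hz, rfl⟩
    · obtain ⟨e, he, h⟩ := mq_qb h
      exact ⟨e, (by decide : ∀ e ∈ idn 8, e < 256) e he, 0, h01 0 (by simp), by rw [h, mq_ff0, mul_one]⟩
    · exact ⟨0, by norm_num, z, hz, by rw [q0_zero, one_mul]; rfl⟩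

theorem mem_X0 {g : Au 7} : g ∈ X0 ↔ ∃ v < 256, ∃ z ∈ [0, 1], g = q0 v * ff z := by
  constructor
  · refine mq_mem mq_z2 (fun _ h => h) fun l hl => ?_
    rcases List.mem_cons.1 hl with rfl | hl
    exacts [Or.inr ⟨1, by simp, rfl⟩, Or.inl hl]
  · rintro ⟨v, -, z, hz, rfl⟩
    refine mul_mem (mq_q0 v).1 ?_
    simp only [List.mem_cons, List.not_mem_nil, or_false] at hz
    rcases hz with rfl | rfl
    · rw [mq_ff0]; exact one_mem _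
    · exact mq_gen (by simp)

theorem mem_Q0 {g : Au 7} : g ∈ Q0 ↔ ∃ v < 256, ∃ z ∈ [0, 1, 8, 9], g = q0 v * ff z := by
  constructor
  · refine mq_mem (fun z hz => ⟨hz, (mq_z4 z hz).2⟩) (fun z h => (mq_z2 z h).1) fun l hl => ?_
    rcases List.mem_cons.1 hl with rfl | hl
    · exact Or.inr ⟨1, by simp, rfl⟩
    rcases List.mem_cons.1 hl with rfl | hl
    exacts [Or.inr ⟨8, by simp, rfl⟩, Or.inl hl]
  · rintro ⟨v, -, z, hz, rfl⟩
    exact mul_mem (X0_Q (mq_q0 v).1) (Z0_Q (mem_Z0.2 ⟨z, hz, rfl⟩))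

theorem mq_inj0 : (List.range 256).all (fun u => u == 0 || [0, 1, 8, 9].all fun z => prc qb u != ffc z) = true := by
  decide +kernel

theorem q0_inj : ∀ v < 256, ∀ w < 256, (q0 v)⁻¹ * q0 w ∈ Z0 → v = w := by
  intro v hv w hw h
  have hu := Nat.xor_lt_two_pow (n := 8) hv hw
  obtain ⟨x, hx, e⟩ := q0_mul v hv _ hu
  rw [Nat.xor_xor_cancel_left] at e
  have h2 : q0 (v ^^^ w) ∈ Z0 := by
    have : q0 (v ^^^ w) = (q0 v)⁻¹ * q0 w * ff x := by rw [mul_assoc, ← e]; group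
    rw [this]; exact mul_mem h (mem_Z0.2 ⟨x, (mq_z2 x hx).1, rfl⟩)
  obtain ⟨z, hz, e2⟩ := mem_Z0.1 h2
  rw [cd_eq_iff, (mq_q0 _).2, cd_ff z (mq_z4 z hz).1] at e2
  have := List.all_eq_true.1 mq_inj0 _ (List.mem_range.2 hu)
  simp only [Bool.or_eq_true, beq_iff_eq, List.all_eq_true, bne_iff_ne] at this
  exact Nat.xor_eq_zero_iff.1 (this.resolve_right fun k => k z hz e2)

theorem mq_sq0 : (List.range 256).all (fun v => cm (prc qb v) (prc qb v) == ffc (bif q8 v then 1 else 0)) = true := by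
  decide +kernel

theorem mq_b (b : Bool) : (bif b then 1 else 0) ∈ [0, 1, 8, 9] := by cases b <;> simp

theorem q0_sq : ∀ v < 256, q0 v * q0 v = ff (bif q8 v then 1 else 0) := by
  intro v hv
  rw [cd_eq_iff, cd_mul, (mq_q0 v).2, cd_ff _ (mq_z4 _ (mq_b _)).1]
  exact beq_iff_eq.1 (List.all_eq_true.1 mq_sq0 _ (List.mem_range.2 hv))

theorem q0_cm : ∀ v < 256, ∀ w < 256, q0 v * q0 w = q0 w * q0 v * ff (bif b8 v w then 1 else 0) := by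
  intro v hv w hw
  obtain ⟨x, hx, e⟩ := q0_mul v hv w hw
  have hx' := (mq_z2 x hx).1
  have s1 := q0_sq v hv
  have s2 := q0_sq w hw
  have s3 := q0_sq _ (Nat.xor_lt_two_pow (n := 8) hv hw)
  have e1 : q0 v * q0 w * (q0 v * q0 w) = ff (bif q8 (v ^^^ w) then 1 else 0) := by
    rw [e, ← s3, mul_assoc, ← mul_assoc (ff x), ← mq_c _ hx', mul_assoc, mq_ffsq (mq_z4 x hx').1, mul_one]
  have e2 : ff (bif b8 v w then 1 else 0) =
      ff (bif q8 (v ^^^ w) then 1 else 0) * (ff (bif q8 v then 1 else 0) * ff (bif q8 w then 1 else 0)) := by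
    rw [← ff_mul (mq_z4 _ (mq_b _)).1 (mq_z4 _ (mq_b _)).1,
      ← ff_mul (mq_z4 _ (mq_b _)).1 (mq_z4 _ ((mq_z4 _ (mq_b _)).2 _ (mq_b _))).1, b8]
    cases q8 (v ^^^ w) <;> cases q8 v <;> cases q8 w <;> rfl
  set a := ff (bif q8 v then 1 else 0)
  set b := ff (bif q8 w then 1 else 0)
  set c := ff (bif q8 (v ^^^ w) then 1 else 0)
  have cv : q0 v * c = c * q0 v := mq_c v (mq_b _)
  have bv' : q0 v * b = b * q0 v := mq_c v (mq_b _)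
  have aa : a * a = 1 := mq_ffsq (mq_z4 _ (mq_b _)).1
  have bb : b * b = 1 := mq_ffsq (mq_z4 _ (mq_b _)).1
  have aw : q0 w * a = a * q0 w := mq_c w (mq_b _)
  have av : q0 v * a = a * q0 v := mq_c v (mq_b _)
  rw [e2, ← e1]
  symm
  calc q0 w * q0 v * (q0 v * q0 w * (q0 v * q0 w) * (a * b))
      = q0 w * (q0 v * q0 v) * q0 w * q0 v * (q0 w * a) * b := by simp only [mul_assoc]
    _ = a * (q0 w * q0 w) * (q0 v * a) * q0 w * b := by rw [s1, aw]; simp only [mul_assoc]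
    _ = a * (b * a) * q0 v * (q0 w * b) := by rw [s2, av]; simp only [mul_assoc]
    _ = a * (a * b) * q0 v * (b * q0 w) := by
      rw [mq_c w (mq_b _), show b * a = a * b from
        (ff_mul (mq_z4 _ (mq_b _)).1 (mq_z4 _ (mq_b _)).1).symm.trans
          ((congrArg ff (Nat.xor_comm _ _)).trans (ff_mul (mq_z4 _ (mq_b _)).1 (mq_z4 _ (mq_b _)).1))]
    _ = (a * a) * (b * (q0 v * b)) * q0 w := by simp only [mul_assoc]
    _ = _ := by rw [aa, bv', ← mul_assoc b, bb, one_mul, one_mul]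

theorem b8_nd : ∀ v < 256, v ≠ 0 → ∃ w < 256, b8 v w = true := by
  intro v hv h
  obtain ⟨w, -, h⟩ := (by decide +kernel : ∀ v < 256, v ≠ 0 → ∃ w ∈ idn 8, w < 256 ∧ b8 v w = true) v hv h
  exact ⟨w, h⟩

theorem card_X0 : Nat.card X0 = 2 ^ 9 := by
  let f : Fin 256 × Fin 2 → X0 := fun p => ⟨q0 p.1 * ff p.2, mem_X0.2 ⟨p.1, p.1.2, p.2, by
    have := p.2.2
    simp only [List.mem_cons, List.not_mem_nil, or_false]; omega, rfl⟩⟩
  have m : ∀ z : Fin 2, (z : ℕ) ∈ [0, 1, 8, 9] := by decide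
  have hf : Function.Bijective f := by
    constructor
    · rintro ⟨v, z⟩ ⟨w, y⟩ h
      have h' : q0 v * ff z = q0 w * ff y := congrArg Subtype.val h
      obtain rfl : v = w := Fin.ext (q0_inj _ v.2 _ w.2 (by
        have : (q0 v)⁻¹ * q0 w = ff z * (ff y)⁻¹ := by
          rw [eq_mul_inv_iff_mul_eq, mul_assoc, ← h']; group
        rw [this]
        exact mul_mem (mem_Z0.2 ⟨_, m z, rfl⟩) (inv_mem (mem_Z0.2 ⟨_, m y, rfl⟩))))
      have h2 := mul_left_cancel h'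
      rw [cd_eq_iff, cd_ff _ (mq_z4 _ (m z)).1, cd_ff _ (mq_z4 _ (m y)).1] at h2
      obtain rfl : z = y := (by decide +kernel : ∀ z y : Fin 2, ffc z = ffc y → z = y) z y h2
      rfl
    · rintro ⟨g, hg⟩
      obtain ⟨v, hv, z, hz, rfl⟩ := mem_X0.1 hg
      exact ⟨(⟨v, hv⟩, ⟨z, by simp only [List.mem_cons, List.not_mem_nil, or_false] at hz; omega⟩), rfl⟩
  rw [← Nat.card_eq_of_bijective f hf]
  simp

end H12.E64
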