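import Cfsg.Agent.Lib.E64.CL

/-! Normal subgroups and fusion (see blueprint/E64/README.md) -/

set_option autoImplicit false

namespace H12.E64

open Subgroup Cfsg H69 H45 Gold
open scoped commutatorElement

variable {G : Type*} [Group G] [Finite G] {c : Fr G} {e : BV 10 →* G} {S : Subgroup G}

namespace NRMx

omit [Finite G] in
theorem cj_sq {i g : G} (ii : i * i = 1) : g * i * g⁻¹ * (g * i * g⁻¹) = 1 := by rw [conj_mul, ii]; simp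

/-- every involution is conjugate into `E` -/
theorem toE (h : c.Cg e S) {P L : Subgroup G} (hS : S ≤ P) (hN : c.N ≤ P) (hE : 𝐍(e.range) ≤ P)
    (hL : L.Normal) (hS' : S ≤ L) {i : G} (iL : i ∈ L) (iP : i ∈ P) (ii : i * i = 1) :
    ∃ k ∈ L, k ∈ P ∧ ∃ w < 1024, k * i * k⁻¹ = e (bv 10 w) := by
  obtain ⟨g, hg, k⟩ := (h.syl.mono (le_inf hS' hS) le_top).exists_cj_le (El2.of_mul_self ii).isPGroup
    (zpowers_le.2 ⟨iL, iP⟩)
  have s := k (cj_mem g (mem_zpowers i))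
  by_cases hE' : g * i * g⁻¹ ∈ e.range
  · obtain ⟨u, hu⟩ := hE'
    exact ⟨g, hg.1, hg.2, u.1, u.2, by rw [bv_val, hu]⟩
  obtain ⟨n, nL, nE, v, hv, k1⟩ := h.co hL hS' s hE' (cj_sq ii ▸ one_mem _)
  obtain ⟨m, mL, mN, w, hw, k2, -⟩ := h.y0cl hL hS' hv (k1 ▸ cj_sq (cj_sq ii))
  exact ⟨m * n * g, mul_mem (mul_mem mL nL) hg.1, mul_mem (mul_mem (hN mN) (hE nE)) hg.2, w, hw, by
    rw [← k2, ← k1]; group⟩

theorem mv (h : c.Cg e S) {L : Subgroup G} (hL : L.Normal) (hS : S ≤ L) {u w : ℕ} (hu : u < 1024)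
    (k : ∃ g ∈ L1, lin (cd g) u = w) : ∃ l ∈ L, l ∈ 𝐍(e.range) ∧ l * e (bv 10 u) * l⁻¹ = e (bv 10 w) := by
  obtain ⟨g, hg, rfl⟩ := k
  obtain ⟨l, hl, a⟩ := mem_autG.1 (h.big hL hS hg)
  exact ⟨l, hl, a.nrm, a.bv hu⟩

end NRMx

open NRMx

namespace Fr

theorem Cg.three (h : c.Cg e S) {L : Subgroup G} (hL : L.Normal) (hS : S ≤ L) : ∀ i ∈ L, i * i = 1 →
    ∃ g ∈ L, g * i * g⁻¹ = 1 ∨ g * i * g⁻¹ = c.a ∨ g * i * g⁻¹ = e (bv 10 10) ∨ g * i * g⁻¹ = c.d := by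
  intro i hi ii
  obtain ⟨k, kL, -, w, hw, k1⟩ := toE h (P := ⊤) le_top le_top le_top hL hS hi (mem_top _) ii
  have f : ∀ u < 1024, (∃ g ∈ L1, lin (cd g) u = w) → ∃ g ∈ L, g * i * g⁻¹ = e (bv 10 u) := fun u hu m => by
    obtain ⟨l, hl, -, k2⟩ := mv h hL hS hu m
    exact ⟨l⁻¹ * k, mul_mem (inv_mem hl) kL, by
      rw [show l⁻¹ * k * i * (l⁻¹ * k)⁻¹ = l⁻¹ * (k * i * k⁻¹) * l by group, k1, ← k2]; group⟩
  by_cases w0 : w = 0
  · exact ⟨k, kL, Or.inl (by rw [k1, w0, bv_zero, map_one])⟩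
  by_cases wO : w ∈ Om
  · exact (f 8 (by norm_num) (orb_Om w wO)).imp fun g m => ⟨m.1, by simp [m.2, h.ea.2.1]⟩
  cases wX : inX w
  · exact (f 10 (by norm_num) (orb_C w hw w0 wX wO)).imp fun g m => ⟨m.1, by simp [m.2]⟩
  · exact (f 1 (by norm_num) (orb_X w hw wX)).imp fun g m => ⟨m.1, by simp [m.2, h.ea.1]⟩

theorem Cg.fusP (h : c.Cg e S) {P L : Subgroup G} (hS : S ≤ P) (hN : c.N ≤ P) (hE : 𝐍(e.range) ≤ P)
    (hL : L.Normal) (hS' : S ≤ L) (g : G) (hg : g * c.a * g⁻¹ ∈ P) :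
    ∃ k ∈ L, k ∈ P ∧ k * c.a * k⁻¹ = g * c.a * g⁻¹ := by
  have e1 := h.ea.1
  obtain ⟨k, kL, kP, w, hw, k1⟩ := toE h hS hN hE hL hS' (hL.conj_mem _ (hS' (h.ES ⟨_, e1⟩)) g) hg
    (cj_sq (by rw [← e1, ← map_mul, bv_sq, map_one]))
  obtain ⟨l, hl, lE, k2⟩ := mv h hL hS' (by norm_num)
    (orb_X w hw ((h.cl_a hw).1 (isConj_iff.2 ⟨k * g, by rw [← k1]; group⟩)))
  exact ⟨k⁻¹ * l, mul_mem (inv_mem kL) hl, mul_mem (inv_mem kP) (hE lE), by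
    rw [show k⁻¹ * l * c.a * (k⁻¹ * l)⁻¹ = k⁻¹ * (l * c.a * l⁻¹) * k by group, ← e1, k2, ← k1, e1]; group⟩

theorem Cg.nrm (h : c.Cg e S) (hO : oddCore G = ⊥) {L : Subgroup G} (hL : L.Normal) (h1 : L ≠ ⊥) : S ≤ L := by
  have nL : ∀ X : Subgroup G, X ≤ 𝐍(L) := fun X => le_normalizer_of_normal
  have ev : 2 ∣ Nat.card L := by
    by_contra o
    exact h1 (le_bot_iff.1 ((le_Od le_top o (nL _)).trans (Od_top.trans hO).le))
  obtain ⟨R, RL, pR, R1⟩ := exists_isPGroup_ne_bot_of_dvd ev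
  obtain ⟨i, hi, oi⟩ := exists_orderOf_eq_prime pR R1
  obtain ⟨k, -, -, w, hw, k1⟩ := toE h (P := ⊤) (L := ⊤) le_top le_top le_top inferInstance le_top (mem_top i)
    (mem_top _) (by rw [← pow_two, ← oi, pow_orderOf_eq_one])
  have EL : e.range ≤ L := by
    rcases irr10 (U := L.comap e) (fun g hg u hu => by
      obtain ⟨l, -, a⟩ := mem_autG.1 (h.l1 hg)
      exact mem_comap.2 (a u ▸ hL.conj_mem _ hu l)) with k2 | k2
    · have : bv 10 w ∈ L.comap e := mem_comap.2 (k1 ▸ hL.conj_mem _ (RL hi) k)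
      rw [k2, mem_bot] at this
      rw [this, map_one, conj_eq_one_iff] at k1
      simp [k1] at oi
    · rintro _ ⟨u, rfl⟩
      exact (k2.ge (mem_top u) :)
  have AL : c.A ≤ L := by
    rintro _ ⟨v, rfl⟩
    by_cases v0 : v.1 = 0
    · rw [show v = 1 from BV.ext v0, map_one]; exact one_mem _
    obtain ⟨n, -, -, k2⟩ := c.conj_al (L := ⊤) (fun m hm => (c.π_surj m hm).imp fun a ha => ⟨ha.1, trivial, ha.2⟩)
      v.2 v0
    rw [← bv_val v, ← Fr.al, ← k2]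
    exact hL.conj_mem _ (EL ⟨_, h.ea.1⟩) n
  intro s hs
  obtain ⟨γ, hγ, a⟩ := h.act hs
  obtain ⟨l, hl, b⟩ := mem_autG.1 (ncl_L1 (h.l1.trans (autG_nrm hL)) (h.ga.aA ▸ autG_mono AL) (S10_L hγ))
  have cE := b.cent a
  obtain ⟨o, ho, t, ht, oo, t2, k2⟩ := exists_parts (l⁻¹ * s)
  have tC := zpowers_le.2 cE ht
  have tE := h.ga.sylE.le_of_le_normalizer' t2.isPGroup (zpowers_le.2 tC)
    (zpowers_le.2 (centralizer_le_normalizer _ tC)) (mem_zpowers t)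
  refine mem_of_el2 (oddS_zpowers oo) (nL _) ?_ (El2.of_mem h.syl.isP hs)
  rw [inv_mul_eq_iff_eq_mul.1 k2]
  exact mul_mem (mem_sup_left hl) (mul_mem (mem_sup_right (mem_zpowers o)) (mem_sup_left (EL tE)))

end Fr

end H12.E64
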