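import Cfsg.Agent.Lib.E64.Defs
import Cfsg.Agent.S0205
import Cfsg.Agent.S0217

/-! The signalizer functor of the cores (see blueprint/E64/README.md) -/

set_option autoImplicit false
set_option linter.style.haveILetI false

namespace H12.E64

open Subgroup Cfsg H69 H45 Gold
open scoped commutatorElement

variable {G : Type*} [Group G] [Finite G]

theorem bal {a b : G} {Q : Subgroup G} (pQ : IsPGroup 2 Q) (QC : Q ≤ 𝐂[a]) (nQ : 𝐂[a] ≤ 𝐍(Q ⊔ Oc a))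
    (cQ : 𝐂[a] ⊓ 𝐂(Q) ≤ Q ⊔ Oc a) (bb : b * b = 1) (ab : b * a = a * b) : Oc b ⊓ 𝐂[a] ≤ Oc a := by
  haveI hn : ((Oc a).subgroupOf 𝐂[a]).Normal := normal_subgroupOf_of_le_normalizer (cent_norm_Oc a)
  obtain ⟨f, hk⟩ : ∃ f : 𝐂[a] →* 𝐂[a] ⧸ (Oc a).subgroupOf 𝐂[a], kerOf f = Oc a := ⟨QuotientGroup.mk' _, by
    rw [kerOf, QuotientGroup.ker_mk', subgroupOf_map_subtype, inf_eq_left.2 (Oc_le a)]⟩
  haveI : Finite (𝐂[a] ⧸ (Oc a).subgroupOf 𝐂[a]) := inferInstance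
  generalize (QuotientGroup.Quotient.group ((Oc a).subgroupOf 𝐂[a])) = inst at f hk
  generalize (𝐂[a] ⧸ (Oc a).subgroupOf 𝐂[a]) = X at *
  have ok : OddS (kerOf f) := hk ▸ Oc_odd a
  have oY : OddS (Oc b ⊓ 𝐂[a] : Subgroup G) := (Oc_odd b).mono inf_le_left
  have pb : IsPGroup 2 (zpowers b) := (El2.of_mul_self bb).isPGroup
  have bC : zpowers b ≤ 𝐂[a] := zpowers_le.2 (mem_centralizer_singleton_iff.2 ab)
  have pU : IsPGroup 2 (im f Q) := morphim_isPGroup f pQ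
  have nU : ∀ {B : Subgroup G}, B ≤ 𝐂[a] → im f B ≤ 𝐍(im f Q) := fun h => by
    rw [← morphimYidr f QC, hk]; exact morphim_norms f (h.trans nQ)
  have c1 : im f (Oc b ⊓ 𝐂[a]) ≤ 𝐂(im f Q) := by
    refine H2.thompson_PxQ (morphim_isPGroup f pb) (oY.im f).cop pU (morphim_cents f (le_centralizer_iff.1 ?_))
      (nU bC) (nU inf_le_right) fun x hx => ?_
    · rw [centralizer_zpowers]; exact inf_le_left.trans (Oc_le b)
    · obtain ⟨h1, h2⟩ := mem_inf.1 hx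
      have h3 : x ∈ im f 𝐂(zpowers b) := by
        rw [morphim_coprime_cent f bC (ok.coprime pb) (Or.inl (solv2 pb))]
        exact mem_inf.2 ⟨im_le_im_dom f Q h1, h2⟩
      obtain ⟨u, hu, ua, rfl⟩ := (mem_im_ap f).1 h3
      rw [centralizer_zpowers] at hu
      intro y' hy'
      obtain ⟨y, hy, rfl⟩ := (mem_im_of_le f inf_le_right).1 hy'
      obtain ⟨yb, ya⟩ := mem_inf.1 hy
      have k1 : ⁅y, u⁆ ∈ Oc b := commutator_le_left_of_le_normalizer (cent_norm_Oc b) (commutator_mem_commutator yb hu)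
      have k2 : ⁅ap f y, ap f u⁆ ∈ im f Q := commutator_le_right_of_le_normalizer (nU inf_le_right)
        (commutator_mem_commutator (ap_mem_im f hy) h1)
      rw [← commutatorElement_eq_one_iff_mul_comm]
      refine (El2.of_mem pU k2).eq_one ?_
      rw [← ap_commutator f ya ua]
      exact odd_ap f (commutator_le_of_le le_rfl le_rfl (commutator_mem_commutator ya ua)) ((Oc_odd b).odd k1)
  intro y hy
  have h3 : ap f y ∈ im f 𝐂(Q) := by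
    rw [morphim_coprime_cent f QC (ok.coprime pQ) (Or.inl (solv2 pQ))]
    exact mem_inf.2 ⟨ap_mem_im f (mem_inf.1 hy).2, c1 (ap_mem_im f hy)⟩
  rw [← im_dom_inf] at h3
  have h4 := morphimS f cQ h3
  rw [← hk, morphimYidr f QC] at h4
  rw [← hk, ← ap_eq_one_iff f (mem_inf.1 hy).2]
  exact (El2.of_mem pU h4).eq_one (odd_ap f (mem_inf.1 hy).2 (oY.odd hy))

theorem SIG.bal' {a b c : G} {Q : Subgroup G} (pQ : IsPGroup 2 Q) (QC : Q ≤ 𝐂[a]) (nQ : 𝐂[a] ≤ 𝐍(Q ⊔ Oc a))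
    (cQ : 𝐂[a] ⊓ 𝐂(Q) ≤ Q ⊔ Oc a) (ac : IsConj a c) (bb : b * b = 1) (bc : b * c = c * b) :
    Oc b ⊓ 𝐂[c] ≤ Oc c := by
  obtain ⟨g, rfl⟩ := isConj_iff.1 ac
  have := cj_mono g (bal (b := g⁻¹ * b * g) pQ QC nQ cQ
    (by rw [show g⁻¹ * b * g * (g⁻¹ * b * g) = g⁻¹ * (b * b) * g by group, bb]; group)
    (by calc _ = g⁻¹ * (b * (g * a * g⁻¹)) * g := by group
      _ = _ := by rw [bc]; group))
  rwa [cj_inf, Oc_cj, Oc_cj, cj_centralizer_singleton, show g * (g⁻¹ * b * g) * g⁻¹ = b by group] at this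

theorem sig {a : G} {Q A : Subgroup G} (pQ : IsPGroup 2 Q) (QC : Q ≤ 𝐂[a]) (nQ : 𝐂[a] ≤ 𝐍(Q ⊔ Oc a))
    (cQ : 𝐂[a] ⊓ 𝐂(Q) ≤ Q ⊔ Oc a) (A2 : ∀ b ∈ A, b * b = 1) (A8 : 8 ≤ Nat.card A)
    (Aa : ∀ b ∈ A, b ≠ 1 → IsConj a b) :
    ∃ Θ : Subgroup G, OddS Θ ∧ (∀ b ∈ A, b ≠ 1 → Oc b ≤ Θ) ∧ ∀ g, ∀ U ≤ A, ∀ V ≤ A, 4 ≤ Nat.card U →
      4 ≤ Nat.card V → U ^ᶜ g ≤ 𝐂(V) → g ∈ 𝐍(Θ) := by
  have hA : IsElementaryAbelian 2 A := ea_of_sq A2
  have c : ∀ a ∈ A, A ≤ 𝐂[a] := fun a ha => H43.ea_le_centralizer_singleton hA ha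
  let WO : Subgroup G → Subgroup G := fun A => ⨆ a : {a : G // a ∈ A ∧ a ≠ 1}, Oc (a : G)
  have l1 : ∀ {A : Subgroup G} {a : G}, a ∈ A → a ≠ 1 → Oc a ≤ WO A := fun {A a} ha h1 =>
    le_iSup (fun a : {a : G // a ∈ A ∧ a ≠ 1} => Oc (a : G)) ⟨a, ha, h1⟩
  have l0 : ∀ (A : Subgroup G) (g : G), WO A ^ᶜ g ≤ WO (A ^ᶜ g) := fun A g => by
    rw [cj_iSup]
    exact iSup_le fun a => (Oc_cj _ g).le.trans (l1 (cj_mem g a.2.1) (by simpa using a.2.2))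
  have l2 : ∀ A : Subgroup G, 𝐍(A) ≤ 𝐍(WO A) := fun A g hg => mem_normalizer_of_cj_le (by
    have := l0 A g
    rwa [cj_eq_of_mem_normalizer hg] at this)
  obtain ⟨h1, h2⟩ := Cfsg.Agent.S0217.result (p := 2) A (fun a ha b hb => ea_cent hA hb a ha)
    (fun a ha => by rw [pow_two, A2 a ha]) (by norm_num [A8]) Oc (fun a _ _ => Oc_le a)
    (fun a _ _ => Oc_odd a)
    (fun a ha _ b hb x hx => conj_mem_of_mem_normalizer (cent_norm_Oc a (c a ha hb)) hx)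
    (fun a _ _ => Cfsg.Agent.S0205.result (oddS_iff.1 (Oc_odd a))) fun a ha _ b hb b1 =>
      SIG.bal' pQ QC nQ cQ (Aa b hb b1) (A2 a ha) (mem_centralizer_singleton_iff.1 (c b hb ha))
  replace h1 : OddS (WO A) := h1
  have e : ∀ V ≤ A, 4 ≤ Nat.card V → WO A = WO V := fun V hV V4 =>
    le_antisymm (H43.le_of_forall_elt (H43.ea_of_le hA hV) (by norm_num [V4])
      (hV.trans (le_normalizer.trans (l2 A))) h1 fun a ha a1 =>
        (h2 a (hV ha) a1).le.trans (l1 ha a1)) (iSup_le fun a => l1 (hV a.2.1) a.2.2)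
  refine ⟨WO A, h1, fun b hb b1 => l1 hb b1, fun g U hU V hV U4 V4 hc => ?_⟩
  have k : WO A ≤ WO (U ^ᶜ g) := H43.le_of_forall_elt (ea_cj (H43.ea_of_le hA hU) g)
    (by rw [card_cj]; norm_num [U4])
    (hc.trans ((centralizer_le_normalizer _).trans (e V hV V4 ▸ l2 V))) h1 fun b' hb' b1 => by
      have Vb : V ≤ 𝐂[b'] := fun v hv => mem_centralizer_singleton_iff.2 (hc hb' v hv)
      refine H43.le_of_forall_elt (H43.ea_of_le hA hV) (by norm_num [V4])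
        (le_normalizer_inf (hV.trans (le_normalizer.trans (l2 A))) (Vb.trans le_normalizer))
        (h1.mono inf_le_left) fun v hv v1 => le_trans ?_ (l1 hb' b1)
      rw [inf_right_comm, h2 v (hV hv) v1]
      obtain ⟨u, hu, rfl⟩ := mem_cj'.1 hb'
      exact SIG.bal' pQ QC nQ cQ ((Aa u (hU hu) (by simpa using b1)).trans (isConj_iff.2 ⟨g, rfl⟩))
        (A2 v (hV hv)) (mem_centralizer_singleton_iff.1 (Vb hv))
  have k2 := (cj_mono g⁻¹ k).trans (l0 _ _)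
  rw [cj_cj_inv, ← e U hU U4] at k2
  exact inv_mem_iff.1 (mem_normalizer_of_cj_le k2)

end H12.E64
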