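import Cfsg.Agent.Lib.E64.M9

/-! The normaliser of `W` and the Sylow subgroup (see blueprint/E64/README.md) -/

set_option autoImplicit false

namespace H12.E64

open Subgroup Cfsg H69 H45 Gold
open scoped commutatorElement

namespace P9A

variable {g h y z : Au 9}

theorem lm (g h : Au 9) (x : ℕ) : lin (cd (g * h)) x = lin (cd g) (lin (cd h) x) := by rw [cd_mul, lin_cm]

theorem lt (g : Au 9) (x : ℕ) : lin (cd g) x < 512 := lin_lt (n := 9) (cd_lt g) x

theorem li (g : Au 9) {x : ℕ} (hx : x < 512) : lin (cd g) (lin (cd g⁻¹) x) = x := by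
  rw [← lm, mul_inv_cancel, cd_one, lin_idn (n := 9) hx]

theorem li' (g : Au 9) {x : ℕ} (hx : x < 512) : lin (cd g⁻¹) (lin (cd g) x) = x := li g⁻¹ hx

theorem mem_St {k : ℕ} (hk : k ≤ 512) : g ∈ St 9 k ↔ ∀ x < k, lin (cd g) x < k :=
  forall₂_congr fun x hx => or_iff_left (by omega)

/-- the commutator space contains `W` -/
def On (l : List ℕ) : Prop := ∀ x < 8, ∃ u < 512, x = lin l u ^^^ u
/-- the commutator space lies in `W` -/
def In (l : List ℕ) : Prop := ∀ u < 512, lin l u ^^^ u < 8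

instance instDecOn (l : List ℕ) : Decidable (On l) := by unfold On; infer_instance
instance instDecIn (l : List ℕ) : Decidable (In l) := by unfold In; infer_instance

theorem eqns_p9a : True := by
  have := @On.eq_1
  have := @In.eq_1
  trivial

theorem st_of (a : On (cd y)) (b : In (cd z)) (e : g * y = z * g) : g ∈ St 9 8 :=
  (mem_St (by omega)).2 fun x hx => by
    obtain ⟨u, -, rfl⟩ := a x hx
    rw [lin_xor, ← lm, e, lm]
    exact b _ (lt _ _)

theorem f_y : ∀ l ∈ y9, In l ∧ (∀ x < 8, lin l x = x) ∧ (l = idn 9 ∨ On l ∧ ¬ On (cm xb l)) := by decide +kernel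

theorem f_A (hy : y ∈ A9) : In (cd y) ∧ (∀ x < 8, lin (cd y) x = x) ∧ (y = 1 ∨ On (cd y) ∧ ¬ On (cm xb (cd y))) := by
  have := f_y _ (mem_A9.1 hy)
  rwa [← cd_one, ← cd_eq_iff] at this

theorem On.cj (hg : g ∈ St 9 8) (a : On (cd y)) : On (cd (g * y * g⁻¹)) := fun x hx => by
  obtain ⟨u, hu, e⟩ := a _ ((mem_St (by omega)).1 (inv_mem hg) x hx)
  refine ⟨_, lt g u, ?_⟩
  rw [lm, lm, li' g hu, ← lin_xor, ← e, li g (by omega)]

theorem In.cj (hg : g ∈ St 9 8) (a : In (cd y)) : In (cd (g * y * g⁻¹)) := fun u hu => by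
  have := (mem_St (by omega)).1 hg _ (a _ (lt g⁻¹ u))
  rwa [lin_xor, li g hu, ← lm, ← lm] at this

theorem comm (a : In (cd y)) (a' : ∀ x < 8, lin (cd y) x = x) (b : In (cd z)) (b' : ∀ x < 8, lin (cd z) x = x) :
    y * z = z * y := MulEquiv.ext fun v => BV.ext (by
  have e1 := a' _ (b _ v.lt)
  have e2 := b' _ (a _ v.lt)
  rw [lin_xor] at e1 e2
  rw [app, app, lm, lm, ← Nat.xor_xor_cancel_right (lin (cd y) (lin (cd z) v.1)) (lin (cd y) v.1), e1,
    ← Nat.xor_xor_cancel_right (lin (cd z) (lin (cd y) v.1)) (lin (cd z) v.1), e2]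
  ac_rfl)

theorem cd_xb : cd (mk 9 xb) = xb := cd_g9 _ (by simp)

theorem xb_sq : mk 9 xb * mk 9 xb = 1 := by
  rw [cd_eq_iff, cd_mul, cd_xb, cd_one]
  decide +kernel

theorem xb_cm : cd g = cm xb (cm xb (cd g)) := by
  have : cd (mk 9 xb * (mk 9 xb * g)) = cd g := by rw [← mul_assoc, xb_sq, one_mul]
  rwa [cd_mul, cd_mul, cd_xb, eq_comm] at this

theorem f_t : ∀ b, ∀ t ∈ t9 b, lin t 1 = 1 ∧ (∀ x < 4, lin t x ^^^ x < 2) ∧
    cm t (g9.getD 2 []) = cm (g9.getD 2 []) t ∧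
    ((∀ i < 5, cm t (g9.getD i []) = cm (g9.getD i []) t) → In t) := by decide +kernel

theorem gen (b : Bool) {i : ℕ} (hi : i < 5) :
    mk 9 (g9.getD i []) ∈ T9 b ∧ cd (mk 9 (g9.getD i [])) = g9.getD i [] := by
  have a : ∀ i < 5, g9.getD i [] ∈ g9.take 5 := by decide +kernel
  exact ⟨subset_closure ⟨_, List.mem_append_left _ (a i hi), rfl⟩,
    cd_g9 _ (List.mem_append_left _ (List.mem_of_mem_take (a i hi)))⟩

end P9A

open P9A

variable {b : Bool} {Γ : Subgroup (Au 9)}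

theorem cy9 {g y : Au 9} (hy : y ∈ A9) (y1 : y ≠ 1) (h : g * y = y * g) : g ∈ St 9 8 :=
  st_of ((f_A hy).2.2.resolve_left y1).1 (f_A hy).1 h

theorem H9.nW (h : H9 b Γ) : Γ ⊓ St 9 8 ≤ G9 b := by
  intro g ⟨hg, hs⟩
  replace hg : g ∈ Γ := hg
  replace hs : g ∈ St 9 8 := hs
  have AΓ : A9 ≤ Γ := (A9_T b).trans ((T9_G b).trans h.le)
  have k : ∀ y ∈ A9, g * y * g⁻¹ ∈ A9 ∨ g * y * g⁻¹ = E64.mk 9 xb := fun y hy => by
    obtain ⟨a, a', o⟩ := f_A hy
    have f : ∀ x < 8, lin (cd (g * y * g⁻¹)) x = x := fun x hx => by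
      rw [lm, lm, a' _ ((mem_St (by omega)).1 (inv_mem hs) x hx), li g (by omega)]
    refine (fix_G9 (h.nA ⟨Γ.mul_mem (Γ.mul_mem hg (AΓ hy)) (Γ.inv_mem hg), centralizer_le_normalizer _ fun z hz =>
      comm (f_A hz).1 (f_A hz).2.1 (a.cj hs) f⟩) fun x hx => ?_).imp_right fun ⟨_, c⟩ => ?_
    · have : x < 8 := (show ∀ x ∈ [1, 2, 4], x < 8 by decide) x hx
      rw [app_bv _ (by omega), f x this]
    · rcases (f_A c).2.2 with e | ⟨-, e⟩
      · rw [← mul_left_cancel_iff (a := E64.mk 9 xb), e, xb_sq]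
      · rcases o with rfl | ⟨o, -⟩
        · rw [mul_one g, mul_inv_cancel, mul_one] at c
          exact absurd (T9_G false (A9_T false c)) xb_not
        · refine absurd ?_ e
          rw [cd_mul, cd_xb, ← xb_cm]
          exact o.cj hs
  refine h.nA ⟨hg, mem_normalizer_fintype fun y hy => (k y hy).resolve_right fun e => ?_⟩
  obtain ⟨z, hz, z1, zy⟩ : ∃ z ∈ A9, z ≠ 1 ∧ z ≠ y := by
    have a : ∀ i < 2, E64.mk 9 (g9.getD i []) ∈ A9 := fun i hi =>
      subset_closure ⟨_, (show ∀ i < 2, g9.getD i [] ∈ g9.take 3 by decide +kernel) i hi, rfl⟩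
    have c0 := (gen b (i := 0) (by omega)).2
    have c1 := (gen b (i := 1) (by omega)).2
    by_cases e : E64.mk 9 (g9.getD 0 []) = y
    · refine ⟨_, a 1 (by omega), ?_, ?_⟩
      · rw [Ne, cd_eq_iff, c1, cd_one]; decide +kernel
      · rw [← e, Ne, cd_eq_iff, c1, c0]; decide +kernel
    · exact ⟨_, a 0 (by omega), by rw [Ne, cd_eq_iff, c0, cd_one]; decide +kernel, e⟩
  have m := (k z hz).resolve_right fun f => zy (by simpa using f.trans e.symm)
  have e' : g * (y * z) * g⁻¹ = E64.mk 9 xb * (g * z * g⁻¹) := by rw [← e, conj_mul]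
  rcases k _ (mul_mem hy hz) with c | c
  · rw [e', mul_mem_cancel_right m] at c
    exact xb_not (T9_G false (A9_T false c))
  · rw [e', mul_eq_left, conj_eq_one_iff] at c
    exact z1 c

theorem H9.self (h : H9 b Γ) : Γ ⊓ 𝐍(T9 b) ≤ T9 b := by
  intro g ⟨hg, hn⟩
  replace hg : g ∈ Γ := hg
  replace hn : g ∈ 𝐍(T9 b) := hn
  have n : ∀ t ∈ T9 b, g⁻¹ * t * g ∈ T9 b := fun t ht => by
    simpa using (mem_normalizer_iff.1 (inv_mem hn) t).1 ht
  obtain ⟨y, hy, ey⟩ : ∃ y ∈ T9 b, cd y = g9.getD 2 [] := ⟨_, gen b (by omega)⟩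
  have hs : g ∈ St 9 8 := st_of (y := y) (z := g * y * g⁻¹) (by rw [ey]; decide +kernel)
    ((f_t b _ (mem_T9.1 ((mem_normalizer_iff.1 hn y).1 hy))).2.2.2 fun i hi => by
      obtain ⟨m, e⟩ := gen b hi
      have := (f_t b _ (mem_T9.1 (n _ m))).2.2.1
      rw [← ey, ← cd_mul, ← cd_mul, ← cd_eq_iff] at this
      rw [← e, ← cd_mul, ← cd_mul, ← cd_eq_iff]
      generalize E64.mk 9 (g9.getD i []) = t at this
      calc g * y * g⁻¹ * t = g * (y * (g⁻¹ * t * g)) * g⁻¹ := by group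
        _ = _ := by rw [← this]; group) (by group)
  have s := (mem_St (by omega)).1 hs
  have k : ∀ i < 5, ∀ x, lin (g9.getD i []) (lin (cd g) x) =
      lin (cd g) (lin (cd (g⁻¹ * E64.mk 9 (g9.getD i []) * g)) x) := fun i hi x => by
    rw [← lm, ← mul_assoc, ← mul_assoc, mul_inv_cancel, one_mul, lm, (gen b hi).2]
  have s2 : ∀ x < 2, lin (cd g) x < 2 := fun x hx => by
    interval_cases x
    · rw [lin_zero]; omega
    · refine (show ∀ x < 8, lin (g9.getD 3 []) x = x → lin (g9.getD 4 []) x = x → x < 2 by decide +kernel)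
        _ (s 1 (by omega)) ?_ ?_ <;> rw [k _ (by omega), (f_t b _ (mem_T9.1 (n _ (gen b (by omega)).1))).1]
  refine flag_G9 (h.nW ⟨hg, hs⟩) ((mem_St (by omega)).2 s2) ((mem_St (by omega)).2 fun x hx => ?_)
  refine (show ∀ x < 8, lin (g9.getD 4 []) x ^^^ x < 2 → x < 4 by decide +kernel) _ (s x (by omega)) ?_
  rw [k _ (by omega), ← lin_xor]
  exact s2 _ ((f_t b _ (mem_T9.1 (n _ (gen b (by omega)).1))).2.1 x hx)

theorem H9.syl (h : H9 b Γ) : IsSylowIn 2 (T9 b) Γ :=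
  isSylowIn_of_normalizer ((T9_G b).trans h.le) ⟨le_inf ((T9_G b).trans h.le) le_normalizer, isP_T9 b,
    fun _ a c _ => le_antisymm (c.trans h.self) a⟩

end H12.E64
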