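import Cfsg.Agent.Lib.E64.Bas
import Cfsg.Agent.Lib.E64.MQ

/-! The action on `Q / Z` (see blueprint/E64/README.md) -/

set_option autoImplicit false
set_option linter.unusedSectionVars false

namespace H12.E64

open Subgroup Cfsg H69 H45 Gold
open scoped commutatorElement

namespace QA

theorem bv_ind {n : ℕ} {P : BV n → Prop} (h1 : P 1) (hm : ∀ a b, P a → P b → P (a * b))
    (h : ∀ i < n, P (bv n (2 ^ i))) (v : BV n) : P v := by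
  have k : ∀ k ≤ n, ∀ x < 2 ^ k, P (bv n x) := by
    intro k
    induction k with
    | zero =>
      intro _ x hx
      obtain rfl : x = 0 := by omega
      rwa [bv_zero]
    | succ k ih =>
      intro hk x hx
      rcases lt_or_ge x (2 ^ k) with h1 | h1
      · exact ih (by omega) x h1
      have h2 : x ^^^ 2 ^ k < 2 ^ k := Nat.lt_pow_two_of_testBit _ fun i hi => by
        rw [Nat.testBit_xor, Nat.testBit_two_pow]
        rcases hi.eq_or_lt with rfl | hi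
        · simp [Nat.testBit_of_two_pow_le_and_two_pow_add_one_gt h1 hx]
        · simp [Nat.testBit_lt_two_pow (hx.trans_le (Nat.pow_le_pow_right two_pos hi)), hi.ne]
      have e : x = (x ^^^ 2 ^ k) ^^^ 2 ^ k := by simp
      rw [e, bv_xor]
      exact hm _ _ (ih (by omega) _ h2) (h k (by omega))
  simpa [bv_val] using k n le_rfl v.1 v.2

theorem ffT {v : ℕ} (h : v < 512) : ff v ∈ T0 := R0_T (F0_R (ff_mem h))
theorem ff_zero : ff 0 = 1 := by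
  rw [cd_eq_iff, cd_ff 0 (by norm_num), cd_one]
  decide +kernel
theorem q0Q {v : ℕ} (h : v < 256) : q0 v ∈ Q0 := mem_Q0.2 ⟨v, h, 0, by simp, by rw [ff_zero, mul_one]⟩
theorem q0T {v : ℕ} (h : v < 256) : q0 v ∈ T0 := Q0_T (q0Q h)
theorem z4 {z : ℕ} (h : z ∈ [0, 1, 8, 9]) : z < 512 := by
  simp only [List.mem_cons, List.not_mem_nil, or_false] at h
  omega
theorem z2 {z : ℕ} (h : z ∈ [0, 1]) : z ∈ [0, 1, 8, 9] := by
  simp only [List.mem_cons, List.not_mem_nil, or_false] at h ⊢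
  omega
theorem x256 {v w : ℕ} (hv : v < 256) (hw : w < 256) : v ^^^ w < 256 := Nat.xor_lt_two_pow (n := 8) hv hw
theorem l256 (μ : Au 8) (v : ℕ) : lin (cd μ) v < 256 := lin_lt (cd_lt μ) v
theorem T0_one {t : Au 7} (ht : t ∈ T0) : lin (cd t) 1 = 1 := by
  have h1 : lin (cd t) 1 < 2 := (ht.2.1 1 (by norm_num)).resolve_right (by norm_num)
  have h2 : lin (cd t) 1 ≠ 0 := fun e => by
    have := app_bv t (x := 1) (by norm_num)
    rw [e, bv_zero, map_eq_one_iff t t.injective, ← bv_zero, bv_eq (by norm_num) (by norm_num)] at this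
    exact one_ne_zero this
  omega

end QA

open QA

variable {G : Type*} [Group G] [Finite G] {c : Fr G}

namespace Fr

theorem fl_zero : c.fl 0 = 1 := by rw [fl, bv_zero, map_one]
theorem fl_inj {v w : ℕ} (hv : v < 512) (hw : w < 512) (h : c.fl v = c.fl w) : v = w :=
  (bv_eq (n := 9) hv hw).1 (c.f_inj h)
theorem fl_sq (v : ℕ) : c.fl v * c.fl v = 1 := by rw [← fl_xor, Nat.xor_self, fl_zero]
theorem fl_nine : c.fl 9 = c.d * c.a := c.fl_xor 8 1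
theorem q_zero : c.q 0 = 1 := by rw [q, q0_zero, ι_one]
theorem q_fl {v z : ℕ} (hv : v < 256) (hz : z < 512) : c.ι (q0 v * ff z) = c.q v * c.fl z := by
  rw [c.ι_mul _ (q0T hv) _ (ffT hz), c.fl_eq hz, q]

theorem a_sq : c.a * c.a = 1 ∧ c.d * c.d = 1 ∧ c.a * c.d = c.d * c.a ∧ c.a ≠ 1 ∧ c.d ≠ 1 ∧ c.d ≠ c.a :=
  ⟨fl_sq 1, fl_sq 8, (c.fl_xor 1 8).symm.trans (c.fl_xor 8 1),
    fun e => absurd (fl_inj (by norm_num) (by norm_num) (e.trans fl_zero.symm)) (by norm_num),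
    fun e => absurd (fl_inj (by norm_num) (by norm_num) (e.trans fl_zero.symm)) (by norm_num),
    fun e => absurd (fl_inj (by norm_num) (by norm_num) e) (by norm_num)⟩
theorem mem_Z' {g : G} : g ∈ c.Z ↔ ∃ z ∈ [0, 1, 8, 9], g = c.fl z := by
  rw [Z, c.mem_im (Z0_Q.trans Q0_T)]
  constructor
  · rintro ⟨b, hb, rfl⟩
    obtain ⟨z, hz, e⟩ := mem_Z0.1 hb
    exact ⟨z, hz, by rw [e, c.fl_eq (z4 hz)]⟩
  · rintro ⟨z, hz, rfl⟩
    exact ⟨ff z, mem_Z0.2 ⟨z, hz, rfl⟩, (c.fl_eq (z4 hz)).symm⟩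
theorem fl_Z {z : ℕ} (h : z ∈ [0, 1, 8, 9]) : c.fl z ∈ c.Z := mem_Z'.2 ⟨z, h, rfl⟩
theorem mem_Z {g : G} : g ∈ c.Z ↔ g = 1 ∨ g = c.a ∨ g = c.d ∨ g = c.d * c.a := by
  simp only [mem_Z', List.mem_cons, List.not_mem_nil, or_false, exists_eq_or_imp, exists_eq_left, fl_zero, fl_nine]
  rfl
theorem a_Z : c.a ∈ c.Z := mem_Z.2 (.inr (.inl rfl))
theorem d_Z : c.d ∈ c.Z := mem_Z.2 (.inr (.inr (.inl rfl)))
theorem Z_sq {z : G} (h : z ∈ c.Z) : z * z = 1 := by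
  obtain ⟨z, -, rfl⟩ := mem_Z'.1 h
  exact fl_sq z
theorem mem_Q {g : G} : g ∈ c.Q ↔ ∃ v < 256, ∃ z ∈ c.Z, g = c.q v * z := by
  rw [Q, c.mem_im Q0_T]
  constructor
  · rintro ⟨b, hb, rfl⟩
    obtain ⟨v, hv, z, hz, rfl⟩ := mem_Q0.1 hb
    exact ⟨v, hv, _, fl_Z hz, q_fl hv (z4 hz)⟩
  · rintro ⟨v, hv, z, hz, rfl⟩
    obtain ⟨y, hy, rfl⟩ := mem_Z'.1 hz
    exact ⟨_, mem_Q0.2 ⟨v, hv, y, hy, rfl⟩, q_fl hv (z4 hy)⟩
theorem q_mem {v : ℕ} (h : v < 256) : c.q v ∈ c.Q := mem_Q.2 ⟨v, h, 1, one_mem _, (mul_one _).symm⟩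
theorem Z_Q : c.Z ≤ c.Q := c.im_mono Z0_Q
theorem Q_T : c.Q ≤ c.T := c.im_mono Q0_T
theorem Q_cZ : c.Q ≤ 𝐂(c.Z) := fun g hg => mem_centralizer_iff.2 fun z hz => by
  obtain ⟨b, hb, rfl⟩ := (c.mem_im Q0_T).1 hg
  obtain ⟨y, hy, rfl⟩ := (c.mem_im (Z0_Q.trans Q0_T)).1 hz
  rw [← c.ι_mul _ (Q0_T (Z0_Q hy)) _ (Q0_T hb), ← c.ι_mul _ (Q0_T hb) _ (Q0_T (Z0_Q hy)), q0_Z b hb y hy]
theorem QZ {g z : G} (hg : g ∈ c.Q) (hz : z ∈ c.Z) : z * g = g * z := mem_centralizer_iff.1 (Q_cZ hg) z hz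
theorem Q_nZ : c.Q ≤ 𝐍(c.Z) := cents_norm Q_cZ
theorem T_nQ : c.T ≤ 𝐍(c.Q) := c.im_nrm Q0_T le_rfl fun _ ht => nQ0 ht.1.1 (T0_one ht)
theorem isP_Q : IsPGroup 2 c.Q := c.isP_T.to_le Q_T
theorem mem_cZ {g : G} : g ∈ 𝐂(c.Z) ↔ g * c.a = c.a * g ∧ g * c.d = c.d * g :=
  ⟨fun h => ⟨(mem_centralizer_iff.1 h _ a_Z).symm, (mem_centralizer_iff.1 h _ d_Z).symm⟩,
    fun h => mem_centralizer_iff.2 fun z hz => by
      rcases mem_Z.1 hz with rfl | rfl | rfl | rfl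
      · rw [one_mul, mul_one]
      · exact h.1.symm
      · exact h.2.symm
      · rw [mul_assoc, ← h.1, ← mul_assoc, ← h.2, mul_assoc]⟩
theorem q_inj {v w : ℕ} (hv : v < 256) (hw : w < 256) (h : (c.q v)⁻¹ * c.q w ∈ c.Z) : v = w := by
  rw [q, q, ← c.ι_inv (q0T hv), ← c.ι_mul _ (inv_mem (q0T hv)) _ (q0T hw), Z,
    c.ι_mem_im (Z0_Q.trans Q0_T) (mul_mem (inv_mem (q0T hv)) (q0T hw))] at h
  exact q0_inj v hv w hw h
theorem q_mul {v w : ℕ} (hv : v < 256) (hw : w < 256) : (c.q (v ^^^ w))⁻¹ * (c.q v * c.q w) ∈ c.Z := by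
  obtain ⟨z, hz, e⟩ := q0_mul v hv w hw
  have : c.q v * c.q w = c.q (v ^^^ w) * c.fl z := by
    rw [← q_fl (x256 hv hw) (z4 (z2 hz)), ← e, c.ι_mul _ (q0T hv) _ (q0T hw), q, q]
  rw [this, inv_mul_cancel_left]
  exact fl_Z (z2 hz)
theorem fl_bif (b : Bool) : c.ι (ff (bif b then 1 else 0)) = bif b then c.a else 1 := by
  cases b
  · exact (c.fl_eq (by norm_num)).symm.trans fl_zero
  · exact (c.fl_eq (by norm_num)).symm
theorem q_sq {v : ℕ} (hv : v < 256) {z : G} (hz : z ∈ c.Z) :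
    c.q v * z * (c.q v * z) = bif q8 v then c.a else 1 := by
  rw [mul_assoc, ← mul_assoc z, QZ (q_mem hv) hz, mul_assoc, Z_sq hz, mul_one, q,
    ← c.ι_mul _ (q0T hv) _ (q0T hv), q0_sq v hv, fl_bif]
theorem Q_sq {g : G} (hg : g ∈ c.Q) : g * g = 1 ∨ g * g = c.a := by
  obtain ⟨v, hv, z, hz, rfl⟩ := mem_Q.1 hg
  rw [q_sq hv hz]
  cases q8 v
  exacts [.inl rfl, .inr rfl]
theorem q_cm {v w : ℕ} (hv : v < 256) (hw : w < 256) :
    c.q v * c.q w = c.q w * c.q v * bif b8 v w then c.a else 1 := by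
  rw [← fl_bif, q, q, ← c.ι_mul _ (q0T hv) _ (q0T hw), ← c.ι_mul _ (q0T hw) _ (q0T hv), q0_cm v hv w hw,
    c.ι_mul _ (mul_mem (q0T hw) (q0T hv)) _ (ffT (by cases b8 v w <;> simp))]
theorem qz_cm {v w : ℕ} (hv : v < 256) (hw : w < 256) {y z : G} (hy : y ∈ c.Z) (hz : z ∈ c.Z) :
    c.q v * y * (c.q w * z) = c.q w * z * (c.q v * y) * bif b8 v w then c.a else 1 := by
  have m : (bif b8 v w then c.a else 1) ∈ c.Z := by cases b8 v w; exacts [one_mem _, a_Z]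
  rw [mul_assoc, ← mul_assoc y, QZ (q_mem hw) hy, mul_assoc, ← mul_assoc, q_cm hv hw,
    mul_assoc (c.q w) z, ← mul_assoc z, QZ (q_mem hv) hz, mul_assoc (c.q w * c.q v),
    QZ (Z_Q (mul_mem hy hz)) m, QZ (Z_Q hz) hy]
  group
theorem Q_cm {g h : G} (hg : g ∈ c.Q) (hh : h ∈ c.Q) : g * h = h * g ∨ g * h = h * g * c.a := by
  obtain ⟨v, hv, y, hy, rfl⟩ := mem_Q.1 hg
  obtain ⟨w, hw, z, hz, rfl⟩ := mem_Q.1 hh
  rw [qz_cm hv hw hy hz]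
  cases b8 v w
  exacts [.inl (mul_one _), .inr rfl]
theorem Q_cen : c.Q ⊓ 𝐂(c.Q) = c.Z := by
  refine le_antisymm (fun g hg => ?_) (le_inf Z_Q (centsC.1 Q_cZ))
  obtain ⟨v, hv, y, hy, rfl⟩ := mem_Q.1 hg.1
  by_cases h0 : v = 0
  · rwa [h0, q_zero, one_mul]
  obtain ⟨w, hw, e⟩ := b8_nd v hv h0
  have := qz_cm hv hw hy (one_mem _)
  rw [e, mul_one, mem_centralizer_iff.1 hg.2 _ (q_mem hw)] at this
  exact absurd (mul_eq_left.1 this.symm) a_sq.2.2.2.1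
theorem nQ_Z {g : G} (hg : g ∈ 𝐍(c.Q)) : g ∈ 𝐍(c.Z) ∧ g * c.a = c.a * g := by
  refine ⟨Q_cen (c := c) ▸ ((normalIn_normalizer c.Q).inf (centralizer_normalIn_normalizer c.Q)).2 hg, ?_⟩
  have h1 : c.q 1 * c.q 1 = c.a := by
    have := q_sq (c := c) (v := 1) (by norm_num) (one_mem _)
    rwa [mul_one] at this
  rcases Q_sq ((mem_normalizer_iff.1 hg _).1 (q_mem (v := 1) (by norm_num))) with e | e <;>
    rw [conj_mul, h1] at e
  · exact absurd (conj_eq_one_iff.1 e) a_sq.2.2.2.1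
  · exact mul_inv_eq_iff_eq_mul.1 e
theorem nZ_a {g : G} (hg : g ∈ 𝐍(c.Z)) (ha : g * c.a = c.a * g) :
    g * c.d * g⁻¹ = c.d ∨ g * c.d * g⁻¹ = c.d * c.a := by
  rcases mem_Z.1 ((mem_normalizer_iff.1 hg _).1 d_Z) with e | e | e
  · exact absurd (conj_eq_one_iff.1 e) a_sq.2.2.2.2.1
  · rw [mul_inv_eq_iff_eq_mul, ← ha] at e
    exact absurd (mul_left_cancel e) a_sq.2.2.2.2.2
  · exact e
theorem al8 : c.al 8 ∈ 𝐍(c.Q) ∧ c.al 8 * c.d * (c.al 8)⁻¹ = c.d * c.a := by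
  have t : tau 8 ∈ T0 := R0_T (A0_R (tau_mem (by norm_num)))
  refine ⟨T_nQ (c.R_T (c.R_eq ▸ mem_sup_left (c.al_mem 8))), ?_⟩
  rw [mul_inv_eq_iff_eq_mul, ← fl_nine, d, c.al_eq (by norm_num), c.fl_eq (by norm_num), c.fl_eq (by norm_num),
    ← c.ι_mul _ t _ (ffT (by norm_num)), ← c.ι_mul _ (ffT (by norm_num)) _ t]
  refine congrArg c.ι ?_
  rw [cd_eq_iff, cd_mul, cd_mul, cd_tau _ (by norm_num), cd_ff _ (by norm_num), cd_ff _ (by norm_num)]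
  decide +kernel
theorem AQ.mul {g h : G} {μ ν : Au 8} (a : c.AQ g μ) (b : c.AQ h ν) : c.AQ (g * h) (μ * ν) :=
  ⟨mul_mem a.1 b.1, mul_mem a.2.1 b.2.1, fun v => by
    have := mul_mem (a.2.2 (ν v)) ((mem_normalizer_iff.1 a.2.1 _).1 (b.2.2 v))
    rw [MulAut.mul_apply]
    convert this using 1
    group⟩
theorem AQ.inv {g : G} {μ : Au 8} (a : c.AQ g μ) : c.AQ g⁻¹ μ⁻¹ :=
  ⟨inv_mem a.1, inv_mem a.2.1, fun v => by
    have := (mem_normalizer_iff''.1 a.2.1 _).1 (inv_mem (a.2.2 (μ⁻¹ v)))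
    rw [MulAut.apply_inv_self] at this
    convert this using 1
    group⟩
theorem AQ.uniq {g : G} {μ ν : Au 8} (a : c.AQ g μ) (b : c.AQ g ν) : μ = ν :=
  MulEquiv.ext fun v => BV.ext (q_inj (c := c) (μ v).2 (ν v).2 (by
    have := mul_mem (a.2.2 v) (inv_mem (b.2.2 v))
    convert this using 1
    group))
theorem AQ.app {g : G} {μ : Au 8} (a : c.AQ g μ) {v : ℕ} (hv : v < 256) :
    ∃ z ∈ c.Z, g * c.q v * g⁻¹ = c.q (lin (cd μ) v) * z := by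
  have := a.2.2 (bv 8 v)
  rw [H12.E64.app, val_bv (n := 8) hv] at this
  exact ⟨_, this, (mul_inv_cancel_left _ _).symm⟩
theorem AQ.q8 {g : G} {μ : Au 8} (a : c.AQ g μ) : ∀ v < 256, q8 (lin (cd μ) v) = q8 v := fun v hv => by
  obtain ⟨z, hz, e⟩ := a.app hv
  have h1 := q_sq (c := c) hv (one_mem _)
  have h2 := q_sq (l256 μ v) hz
  have ha := (nQ_Z a.1).2
  rw [mul_one] at h1
  rw [← e, conj_mul, h1] at h2
  have a1 := (a_sq (c := c)).2.2.2.1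
  generalize H12.E64.q8 v = x at h2
  generalize H12.E64.q8 (lin (cd μ) v) = y at h2
  cases x <;> cases y
  · rfl
  · exact absurd (by simpa using h2.symm) a1
  · exact absurd (conj_eq_one_iff.1 h2) a1
  · rfl
theorem aq_step {g : G} (hg : g ∈ 𝐍(c.Z)) {v w v' w' : ℕ} (hv : v < 256) (hw : w < 256) (hv' : v' < 256)
    (hw' : w' < 256) (h1 : (c.q v')⁻¹ * (g * c.q v * g⁻¹) ∈ c.Z) (h2 : (c.q w')⁻¹ * (g * c.q w * g⁻¹) ∈ c.Z) :
    (c.q (v' ^^^ w'))⁻¹ * (g * c.q (v ^^^ w) * g⁻¹) ∈ c.Z := by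
  have := mul_mem (mul_mem (q_mul hv' hw') (mul_mem ((mem_normalizer_iff''.1 (Q_nZ (q_mem hw')) _).1 h1) h2))
    ((mem_normalizer_iff.1 hg _).1 (inv_mem (q_mul hv hw)))
  convert this using 1
  group
theorem aq_of {g : G} (hg : g ∈ 𝐍(c.Z)) {μ : Au 8}
    (h : ∀ v : BV 8, (c.q (μ v).1)⁻¹ * (g * c.q v.1 * g⁻¹) ∈ c.Z) : c.AQ g μ :=
  ⟨mem_normalizer_fintype fun x hx => by
    obtain ⟨v, hv, z, hz, rfl⟩ := mem_Q.1 hx
    have := mul_mem (mul_mem (q_mem (μ ⟨v, hv⟩).2) (Z_Q (h ⟨v, hv⟩))) (Z_Q ((mem_normalizer_iff.1 hg _).1 hz))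
    rw [mul_inv_cancel_left, conj_mul] at this
    exact this, hg, h⟩
theorem aq_of_basis {g : G} (hg : g ∈ 𝐍(c.Z)) {μ : Au 8}
    (h : ∀ i < 8, ∃ z ∈ c.Z, g * c.q (2 ^ i) * g⁻¹ = c.q (lin (cd μ) (2 ^ i)) * z) : c.AQ g μ := by
  refine aq_of hg (bv_ind ?_ (fun a b ha hb => ?_) fun i hi => ?_)
  · rw [map_one, val_one, q_zero, mul_one, mul_inv_cancel, mul_one, inv_one]
    exact one_mem _
  · rw [map_mul, val_mul, val_mul]
    exact aq_step hg a.2 b.2 (μ a).2 (μ b).2 ha hb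
  · obtain ⟨z, hz, e⟩ := h i hi
    rwa [H12.E64.app, val_bv (Nat.pow_lt_pow_right one_lt_two hi), e, inv_mul_cancel_left]
theorem aq_one_iff {g : G} (hg : g ∈ 𝐍(c.Q)) : c.AQ g 1 ↔ ∀ x ∈ c.Q, ⁅x, g⁆ ∈ c.Z := by
  refine ⟨fun a x hx => ?_, fun h => ⟨hg, (nQ_Z hg).1, fun v => ?_⟩⟩
  · obtain ⟨v, hv, z, hz, e⟩ := mem_Q.1 (inv_mem hx)
    obtain rfl : x = (c.q v * z)⁻¹ := by rw [← e, inv_inv]
    have k : (c.q v)⁻¹ * (g * c.q v * g⁻¹) ∈ c.Z := a.2.2 ⟨v, hv⟩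
    have := mul_mem (mul_mem (inv_mem hz) k) ((mem_normalizer_iff.1 a.2.1 _).1 hz)
    rw [commutatorElement_def]
    convert this using 1
    group
  · have := h _ (inv_mem (q_mem v.2))
    rw [commutatorElement_def] at this
    convert this using 1
    simp only [MulAut.one_apply]
    group
theorem aq_Q {g : G} (hg : g ∈ c.Q) : c.AQ g 1 :=
  (aq_one_iff (le_normalizer hg)).2 fun x hx => by
    rw [commutatorElement_def, mul_assoc, ← mul_inv_rev]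
    rcases Q_cm hx hg with e | e <;> rw [e]
    · rw [mul_inv_cancel]; exact one_mem _
    · exact (mem_normalizer_iff.1 (Q_nZ (mul_mem hg hx)) _).1 a_Z
theorem exists_aq {g : G} (hg : g ∈ 𝐍(c.Q)) : ∃ μ, c.AQ g μ := by
  have hz := (nQ_Z hg).1
  have k : ∀ v : BV 8, ∃ w : BV 8, (c.q w.1)⁻¹ * (g * c.q v.1 * g⁻¹) ∈ c.Z := fun v => by
    obtain ⟨w, hw, z, hz, e⟩ := mem_Q.1 ((mem_normalizer_iff.1 hg _).1 (q_mem v.2))
    exact ⟨⟨w, hw⟩, by rwa [e, inv_mul_cancel_left]⟩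
  choose φ hφ using k
  let f : BV 8 →* BV 8 := MonoidHom.mk' φ fun a b => BV.ext (q_inj (c := c) (φ _).2 (φ a * φ b).2 (by
    have := mul_mem (hφ (a * b)) (inv_mem (aq_step hz a.2 b.2 (φ a).2 (φ b).2 (hφ a) (hφ b)))
    rw [val_mul] at this ⊢
    convert this using 1
    group))
  have inj : Function.Injective f := fun a b e => BV.ext (q_inj (c := c) a.2 b.2 (by
    have e' : φ a = φ b := e
    have := (mem_normalizer_iff''.1 hz _).1 (mul_mem (inv_mem (hφ a)) (e' ▸ hφ b))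
    convert this using 1
    group))
  exact ⟨MulEquiv.ofBijective f (Finite.injective_iff_bijective.1 inj), hg, hz, hφ⟩
theorem mem_autQ {H : Subgroup G} {μ : Au 8} : μ ∈ c.AutQ H ↔ ∃ g ∈ H, c.AQ g μ := mem_sg
theorem exists_rho : ∃ ρ : 𝐍(c.Q) →* Au 8, ∀ g : 𝐍(c.Q), c.AQ g (ρ g) := by
  choose φ hφ using fun g : 𝐍(c.Q) => exists_aq g.2
  exact ⟨MonoidHom.mk' φ fun a b => (hφ (a * b)).uniq ((hφ a).mul (hφ b)), hφ⟩

end Fr

end H12.E64
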