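import Cfsg.Agent.Lib.E64.Defs

/-! The unitary group on `BV 8` (see blueprint/E64/README.md) -/

set_option autoImplicit false

namespace H12.E64

open Subgroup Cfsg H69 H45 Gold
open scoped commutatorElement

namespace V8

theorem all2 {p : ℕ → ℕ → Bool} (h : (List.range 256).all (fun x => (List.range 256).all (p x)) = true)
    {x y : ℕ} (hx : x < 256) (hy : y < 256) : p x y = true :=
  List.all_eq_true.1 (List.all_eq_true.1 h x (List.mem_range.2 hx)) y (List.mem_range.2 hy)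

abbrev qT (v : ℕ) : Bool :=
  Nat.testBit 0x111e111e111eeee1111e111e111eeee1111e111e111eeee1eee1eee1eee1111e v
abbrev pT (v : ℕ) : Bool :=
  Nat.testBit 0x6996966996696996966969966996966996696996699696696996966996696996 v
abbrev sw (y : ℕ) : ℕ := (y &&& 85) * 2 ^^^ (y &&& 170) / 2

theorem q_eq : ∀ v < 256, q8 v = qT v := by decide +kernel

theorem xlt {x y : ℕ} (hx : x < 256) (hy : y < 256) : x ^^^ y < 256 :=
  Nat.xor_lt_two_pow (n := 8) hx hy

theorem b_eq {x y : ℕ} (hx : x < 256) (hy : y < 256) : b8 x y = pT (x &&& sw y) := by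
  rw [b8, q_eq _ (xlt hx hy), q_eq _ hx, q_eq _ hy]
  exact beq_iff_eq.1 (all2 (p := fun x y => xor (qT (x ^^^ y)) (xor (qT x) (qT y)) == pT (x &&& sw y))
    (by decide +kernel) hx hy)

theorem p_add {x y : ℕ} (hx : x < 256) (hy : y < 256) : pT (x ^^^ y) = xor (pT x) (pT y) :=
  beq_iff_eq.1 (all2 (p := fun x y => pT (x ^^^ y) == xor (pT x) (pT y)) (by decide +kernel) hx hy)

abbrev Q (x : BV 8) : Bool := q8 x.1
abbrev B (x y : BV 8) : Bool := b8 x.1 y.1
/-- a Siegel transformation -/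
abbrev S (v u x : BV 8) : BV 8 := x * (bif B x v then u else 1) * (bif B x u then v else 1)
noncomputable abbrev ω : Au 8 := mk 8 omc

theorem B_mul (x y v : BV 8) : B (x * y) v = xor (B x v) (B y v) := by
  show b8 (x.1 ^^^ y.1) v.1 = xor (b8 x.1 v.1) (b8 y.1 v.1)
  rw [b_eq (xlt x.2 y.2) v.2, b_eq x.2 v.2, b_eq y.2 v.2, Nat.and_xor_distrib_right,
    p_add (Nat.and_le_left.trans_lt x.2) (Nat.and_le_left.trans_lt y.2)]

theorem B_comm (x y : BV 8) : B x y = B y x := by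
  show b8 _ _ = b8 _ _
  rw [b8, b8, Nat.xor_comm, Bool.xor_comm (q8 x.1)]

theorem Q_one : Q 1 = false := by decide +kernel

theorem Q_mul (x y : BV 8) : Q (x * y) = xor (B x y) (xor (Q x) (Q y)) := by
  show q8 (x.1 ^^^ y.1) = xor (b8 _ _) (xor (q8 _) (q8 _))
  rw [b8]
  cases q8 (x.1 ^^^ y.1) <;> cases q8 x.1 <;> cases q8 y.1 <;> rfl

theorem B_one (x : BV 8) : B 1 x = false := by
  have := B_mul 1 1 x
  rwa [mul_one, Bool.xor_self] at this

theorem B_self (x : BV 8) : B x x = false := by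
  show b8 _ _ = _
  rw [b8, Nat.xor_self, Bool.xor_self]
  rfl

theorem B_map {μ : Au 8} (h : ∀ x, Q (μ x) = Q x) (x y : BV 8) : B (μ x) (μ y) = B x y := by
  have := h (x * y)
  rw [map_mul, Q_mul, Q_mul, h, h] at this
  revert this
  cases B (μ x) (μ y) <;> cases B x y <;> cases xor (Q x) (Q y) <;> decide

theorem sq' (x y : BV 8) : x * (x * y) = y := by rw [← mul_assoc, bv_sq, one_mul]

theorem S_mul (v u x y : BV 8) : S v u (x * y) = S v u x * S v u y := by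
  simp only [S, B_mul]
  cases B x v <;> cases B y v <;> cases B x u <;> cases B y u <;>
    simp [mul_assoc, mul_comm, mul_left_comm, sq', bv_sq]

theorem S_q {v u : BV 8} (hv : Q v = false) (hu : Q u = false) (h : B u v = false) (x : BV 8) :
    Q (S v u x) = Q x := by
  unfold S
  cases e : B x v <;> cases e' : B x u <;> simp [Q_mul, B_mul, *]

theorem S_map {μ : Au 8} (h : ∀ x, Q (μ x) = Q x) (v u x : BV 8) :
    μ (S v u x) = S (μ v) (μ u) (μ x) := by
  simp only [S, map_mul, B_map h]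
  cases B x v <;> cases B x u <;> simp

theorem S_comm {w u u' : BV 8} (h : B u w = false) (h' : B u' w = false) (x : BV 8) :
    S w u (S w u' x) = S w u' (S w u x) := by
  have k := (B_comm _ _).trans h
  have k' := (B_comm _ _).trans h'
  have c := B_comm u' u
  unfold S
  cases e1 : B x w <;> cases e2 : B x u <;> cases e3 : B x u' <;> cases e4 : B u u' <;>
    simp [B_mul, B_self, mul_assoc, e1, e2, e3, e4, h, h', k, k', c] <;>
    simp [mul_comm, mul_left_comm, sq', bv_sq]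

theorem lin_sgc (v u x : BV 8) : lin (sgc v.1 u.1) x.1 = (S v u x).1 := by
  have := lin_range (fun x => (S v u (bv 8 x)).1) (by
    simp only [bv_zero, S, B_one, cond_false, mul_one, val_one])
    (fun x y => by simp only [bv_xor, S_mul, val_mul]) 8 0 x.1 x.2
  simp only [add_zero, pow_zero, mul_one, bv_val] at this
  rw [← this, sgc, idn, List.map_map]
  refine congrArg (lin · x.1) (List.map_congr_left fun i hi => ?_)
  have e := val_bv (n := 8) (Nat.pow_lt_pow_right (by norm_num) (List.mem_range.1 hi))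
  simp only [Function.comp, val_mul, B, e]
  cases b8 (2 ^ i) v.1 <;> cases b8 (2 ^ i) u.1 <;> rfl

theorem cd_om : cd ω = omc := cd_mk (cm omc omc) (by decide +kernel)

theorem om_f : ∀ v < 256, q8 (lin omc v) = q8 v ∧ b8 (lin omc v) v = q8 v := by decide +kernel

theorem Q_om (x : BV 8) : Q (ω x) = Q x := by
  show q8 _ = _
  rw [app, cd_om]
  exact (om_f _ x.2).1

theorem B_om (x : BV 8) : B (ω x) x = Q x := by
  show b8 _ _ = _
  rw [app, cd_om]
  exact (om_f _ x.2).2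

theorem chk : ∀ v < 256, Sing v → ok 8 (tac v) (tac v) = true ∧ cm (tac v) omc = cm omc (tac v) := by
  decide +kernel

end V8

open V8

theorem cd_ta {v : ℕ} (h : Sing v) : cd (ta v) = tac v := cd_mk _ (chk v h.1 h).1

theorem ta_mem {v : ℕ} (h : Sing v) : ta v ∈ K8 := subset_closure ⟨v, h, rfl⟩

theorem ta_sq {v : ℕ} (h : Sing v) : ta v * ta v = 1 := by
  have := (chk v h.1 h).1
  simp only [ok, Bool.and_eq_true, beq_iff_eq] at this
  rw [cd_eq_iff, cd_mul, cd_ta h, this.2, cd_one]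

namespace V8

theorem ta_app {v : BV 8} (h : Sing v.1) (x : BV 8) : ta v.1 x = S v (ω v) x := BV.ext (by
  rw [app, cd_ta h, ← lin_sgc, app, cd_om, tac])

theorem K8_Q {k : Au 8} (hk : k ∈ K8) : ∀ x, Q (k x) = Q x := by
  refine (closure_le (sg (fun k : Au 8 => ∀ x, Q (k x) = Q x) (fun _ => rfl)
    fun a b ha hb x => (ha _).trans (hb x))).2 ?_ hk
  rintro g ⟨v, h, e⟩ x
  obtain ⟨v, rfl⟩ : ∃ w : BV 8, w.1 = v := ⟨⟨v, h.1⟩, rfl⟩
  rw [e, ta_app h]
  exact S_q h.2.2 ((Q_om v).trans h.2.2) ((B_om v).trans h.2.2) x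

theorem K8_om {k : Au 8} (hk : k ∈ K8) : k * ω = ω * k := by
  refine mem_centralizer_singleton_iff.1 ((closure_le (centralizer {ω})).2 ?_ hk)
  rintro g ⟨v, h, e⟩
  refine mem_centralizer_singleton_iff.2 ?_
  rw [e, cd_eq_iff, cd_mul, cd_mul, cd_ta h, cd_om]
  exact (chk v h.1 h).2

theorem hQ {μ : Au 8} (hq : ∀ v < 256, q8 (lin (cd μ) v) = q8 v) (x : BV 8) : Q (μ x) = Q x := by
  show q8 _ = _
  rw [app]
  exact hq _ x.2

theorem sing' {μ : Au 8} (hq : ∀ x, Q (μ x) = Q x) {v : BV 8} (h : Sing v.1) : Sing (μ v).1 :=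
  ⟨(μ v).2, fun e => h.2.1 (congrArg Fin.val ((map_eq_one_iff μ μ.injective).1 (BV.ext e))),
    (hq v).trans h.2.2⟩

theorem cj_app {μ : Au 8} (hq : ∀ x, Q (μ x) = Q x) {v : BV 8} (h : Sing v.1) (x : BV 8) :
    (μ * ta v.1 * μ⁻¹) x = S (μ v) (μ (ω v)) x := by
  rw [MulAut.mul_apply, MulAut.mul_apply, ta_app h, S_map hq, MulAut.apply_inv_self]

end V8

theorem K8_q {k : Au 8} (hk : k ∈ K8) : ∀ v < 256, q8 (lin (cd k) v) = q8 v := fun v hv =>
  (congrArg q8 (app k ⟨v, hv⟩)).symm.trans (K8_Q hk ⟨v, hv⟩)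

theorem sing_map {μ : Au 8} (hq : ∀ v < 256, q8 (lin (cd μ) v) = q8 v) {v : ℕ} (h : Sing v) :
    Sing (lin (cd μ) v) := by
  obtain ⟨v, rfl⟩ : ∃ w : BV 8, w.1 = v := ⟨⟨v, h.1⟩, rfl⟩
  rw [← app]
  exact sing' (hQ hq) h

theorem ta_cj {k : Au 8} (hk : k ∈ K8) {v : ℕ} (h : Sing v) : k * ta v * k⁻¹ = ta (lin (cd k) v) := by
  obtain ⟨v, rfl⟩ : ∃ w : BV 8, w.1 = v := ⟨⟨v, h.1⟩, rfl⟩
  refine MulEquiv.ext fun x => ?_
  rw [cj_app (K8_Q hk) h, ← app, ta_app (sing' (K8_Q hk) h), ← MulAut.mul_apply, K8_om hk,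
    MulAut.mul_apply]

namespace V8

abbrev rk (v : ℕ) : ℕ :=
  0xc36024b05a40000a329037408530000767608650766000080008000600067570418026507620000847608850768000087630758049700009000600060008577076707760875000076740867058800008896088907aa0000400040006000455300007000500056460000500050007466000030005000344208180287076000000
    >>> (4 * v) % 16

theorem gs : ∀ g ∈ [5, 80, 90, 6, 102], Sing g := by decide +kernel

theorem gm {g : ℕ} (h : g ∈ [5, 80, 90, 6, 102]) :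
    ta g ∈ cl 8 [tac 5, tac 80, tac 90, tac 6, tac 102] :=
  subset_closure ⟨tac g, List.mem_map_of_mem (f := tac) h, rfl⟩

theorem cl_le : cl 8 [tac 5, tac 80, tac 90, tac 6, tac 102] ≤ K8 := (closure_le _).2 (by
  rintro x ⟨l, hl, e⟩
  obtain ⟨g, hg, e'⟩ := (List.mem_map (f := tac) (l := [5, 80, 90, 6, 102])).1 hl
  rw [e, ← e']
  exact ta_mem (gs g hg))

theorem tr (n : ℕ) : ∀ v, rk v < n → Sing v →
    ∃ k ∈ cl 8 [tac 5, tac 80, tac 90, tac 6, tac 102], lin (cd k) 5 = v := by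
  induction n with
  | zero => exact fun _ h => absurd h (Nat.not_lt_zero _)
  | succ n ih =>
    intro v hn h
    rcases (by decide +kernel : ∀ v < 256, Sing v → v = 5 ∨ ∃ g ∈ [5, 80, 90, 6, 102],
      rk (lin (tac g) v) < rk v) v h.1 h with rfl | ⟨g, hg, e⟩
    · exact ⟨1, one_mem _, by rw [cd_one, lin_idn (by norm_num)]⟩
    · obtain ⟨k, hk, e'⟩ := ih _ (by omega) (cd_ta (gs g hg) ▸ sing_map (K8_q (ta_mem (gs g hg))) h)
      refine ⟨ta g * k, mul_mem (gm hg) hk, ?_⟩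
      rw [cd_mul, lin_cm, e', ← cd_ta (gs g hg), ← lin_cm, ← cd_mul, ta_sq (gs g hg), cd_one,
        lin_idn h.1]

end V8

theorem K8_gen : K8 ≤ cl 8 [tac 5, tac 80, tac 90, tac 6, tac 102] := (closure_le _).2 (by
  rintro g ⟨v, h, e⟩
  obtain ⟨k, hk, e'⟩ := tr _ v (Nat.lt_succ_self _) h
  rw [e, ← e', ← ta_cj (cl_le hk) (gs 5 (by simp))]
  exact mul_mem (mul_mem hk (gm (by simp))) (inv_mem hk))

theorem tr8 {v : ℕ} (h : Sing v) : ∃ k ∈ K8, lin (cd k) 5 = v :=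
  (tr _ v (Nat.lt_succ_self _) h).imp fun _ hk => ⟨cl_le hk.1, hk.2⟩

namespace V8

theorem tr' {v : BV 8} (h : Sing v.1) : ∃ k ∈ K8, k (bv 8 5) = v :=
  (tr8 h).imp fun k hk => ⟨hk.1, BV.ext ((app k _).trans hk.2)⟩

theorem span {U : Subgroup (BV 8)} (h : ∀ v : BV 8, Sing v.1 → v ∈ U) : U = ⊤ :=
  eq_top_iff.2 fun x _ => by
    obtain ⟨s, -, h1, h2⟩ := (by decide +kernel : ∀ x < 256, ∃ s ∈ [5, 10, 15, 80, 160],
      Sing s ∧ Sing (s ^^^ x)) x.1 x.2
    rw [← sq' ⟨s, h1.1⟩ x]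
    exact mul_mem (h _ h1) (h _ h2)

theorem ceq {g c : Au 8} (h : ∀ k ∈ K8, g * k = k * g) (h' : ∀ k ∈ K8, c * k = k * c)
    (e : lin (cd g) 5 = lin (cd c) 5) : g = c := by
  have e' : g (bv 8 5) = c (bv 8 5) := BV.ext ((app g _).trans (e.trans (app c (bv 8 5)).symm))
  have := span (U := g.toMonoidHom.eqLocus c.toMonoidHom) fun v hv => by
    obtain ⟨k, hk, rfl⟩ := tr' hv
    show (g * k) _ = (c * k) _
    rw [h k hk, h' k hk, MulAut.mul_apply, MulAut.mul_apply, e']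
  exact MulEquiv.ext fun x => this.ge (mem_top x)

end V8

theorem cent8 {g : Au 8} (h : ∀ k ∈ K8, g * k = k * g) : g = 1 ∨ cd g = omc ∨ cd g = cm omc omc := by
  have s5 := gs 5 (by simp)
  have e := congrArg (fun k => lin (cd k) 1) (h _ (ta_mem s5))
  simp only [cd_mul, lin_cm, cd_ta s5] at e
  have e' : lin (cd g) 5 = lin (tac 5) (lin (cd g) 1) ^^^ lin (cd g) 1 := by
    rw [← e, ← lin_xor]
    exact congrArg _ (by decide +kernel)
  rcases (by decide +kernel : ∀ y < 256, lin (tac 5) y ^^^ y = 0 ∨ lin (tac 5) y ^^^ y = 5 ∨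
    lin (tac 5) y ^^^ y = 10 ∨ lin (tac 5) y ^^^ y = 15) _ (lin_lt (cd_lt g) 1) with k | k | k | k <;>
    rw [k] at e'
  · exact absurd ((map_eq_one_iff g g.injective).1 (BV.ext ((app g (bv 8 5)).trans e')))
      (by decide +kernel)
  · exact Or.inl (ceq h (fun k _ => by rw [one_mul, mul_one])
      (by rw [e', cd_one]; decide +kernel))
  · exact Or.inr (Or.inl (ceq h (fun k hk => (K8_om hk).symm) (by rw [e', cd_om]; decide +kernel) ▸
      cd_om))
  · refine Or.inr (Or.inr ?_)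
    rw [ceq (c := ω * ω) h (fun k hk => by rw [mul_assoc, ← K8_om hk, ← mul_assoc, ← K8_om hk, mul_assoc])
      (by rw [e', cd_mul, cd_om]; decide +kernel), cd_mul, cd_om]

theorem irr8 {U : Subgroup (BV 8)} (h : ∀ g ∈ K8, ∀ u ∈ U, g u ∈ U) : U = ⊥ ∨ U = ⊤ := by
  refine or_iff_not_imp_left.2 fun hb => span fun v hv => ?_
  obtain ⟨⟨u, hu⟩, u1⟩ := ne_bot_iff_exists_ne_one.1 hb
  obtain ⟨g, hg, e⟩ := (by decide +kernel : ∀ u < 256, u ≠ 0 → ∃ g ∈ [5, 80, 90, 6, 102],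
    Sing (lin (tac g) u ^^^ u)) u.1 u.2 fun e => u1 (Subtype.ext (BV.ext e))
  rw [← cd_ta (gs g hg), ← app, ← val_mul] at e
  obtain ⟨k, hk, e⟩ := tr' e
  obtain ⟨k', hk', rfl⟩ := tr' hv
  have := h _ (inv_mem hk) _ (mul_mem (h _ (ta_mem (gs g hg)) u hu) hu)
  rw [← e, MulAut.inv_apply_self] at this
  exact h _ hk' _ this

theorem uniq8 {μ : Au 8} (hq : ∀ v < 256, q8 (lin (cd μ) v) = q8 v) {v : ℕ} (h : Sing v)
    (ho : Odd (orderOf (μ * ta v * μ⁻¹ * ta (lin (cd μ) v)))) : μ * ta v * μ⁻¹ = ta (lin (cd μ) v) := by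
  obtain ⟨v, rfl⟩ : ∃ w : BV 8, w.1 = v := ⟨⟨v, h.1⟩, rfl⟩
  rw [← app] at ho ⊢
  have h' := sing' (hQ hq) h
  have c : Commute (μ * ta v.1 * μ⁻¹) (ta (μ v).1) := MulEquiv.ext fun x => by
    rw [MulAut.mul_apply, MulAut.mul_apply _ (ta _), cj_app (hQ hq) h, cj_app (hQ hq) h, ta_app h',
      ta_app h']
    exact S_comm (by rw [B_map (hQ hq), B_om]; exact h.2.2) ((B_om _).trans h'.2.2) x
  have e : (μ * ta v.1 * μ⁻¹ * ta (μ v).1) ^ 2 = 1 := by
    rw [c.mul_pow, pow_two, pow_two, conj_mul, ta_sq h, ta_sq h']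
    simp
  have := orderOf_eq_one_iff.1 (Nat.eq_one_of_dvd_coprimes (Nat.coprime_two_right.2 ho) dvd_rfl
    (orderOf_dvd_of_pow_eq_one e))
  exact mul_right_cancel (this.trans (ta_sq h').symm)

end H12.E64
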