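import Cfsg.Agent.Lib.E64.QA
import Cfsg.Agent.Lib.E64.CL
import Cfsg.Agent.Lib.E64.V8

/-! `Q` and `E` (see blueprint/E64/README.md) -/

set_option autoImplicit false
set_option linter.unusedSectionVars false
set_option maxRecDepth 10000

namespace H12.E64

open Subgroup Cfsg H69 H45 Gold
open scoped commutatorElement
open QA

namespace QE

theorem hi_bit : ∀ v < 1024, ¬ v < 512 → v &&& 816 ≠ 0 := by decide +kernel
theorem lo_bit : ∀ v < 1024, v &&& 816 = 0 → v < 512 := fun v hv h => by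
  by_contra n
  exact hi_bit v hv n h
theorem qe_mem : ∀ i < 8, qe.getD i [] ∈ qe := by decide +kernel
theorem qe_idx : ∀ l ∈ qe, ∃ i < 8, l = qe.getD i [] := by decide +kernel
theorem qe_ff : ∀ i < 8, ∀ j < 9, lin (qe.getD i []) (2 ^ j) < 512 ∧
    cm (prc qb (2 ^ i)) (ffc (2 ^ j)) = cm (ffc (lin (qe.getD i []) (2 ^ j))) (prc qb (2 ^ i)) := by decide +kernel
theorem qe_pt : ∀ p ∈ Om, p ≠ 8 → p ≠ 9 → Sing (cen p) ∧ ∀ i < 8, p ^^^ lin (qe.getD i []) p < 512 ∧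
    ∃ z ∈ [0, 1, 8, 9], cm (ffc (p ^^^ lin (qe.getD i []) p)) (prc qb (2 ^ i)) =
      cm (prc qb (lin (tac (cen p)) (2 ^ i))) (ffc z) := by decide +kernel
theorem qe_triv : ∀ v < 1024, (∀ i < 8, lin (qe.getD i []) v ^^^ v ∈ [0, 1, 8, 9]) → v &&& 816 = 0 := by
  decide +kernel
theorem q_ff : ∀ p ∈ [(5, 3), (10, 65), (80, 5), (160, 129)], prc qb p.1 = ffc p.2 := by decide +kernel
theorem sing_U : ∀ v < 256, q8 v = true → ∃ p ∈ [(5, 3), (10, 65), (80, 5), (160, 129)], q8 (v ^^^ p.1) = false := by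
  decide +kernel
theorem om_lt : ∀ p ∈ Om, p < 1024 := by decide +kernel
theorem p256 {i : ℕ} (h : i < 8) : 2 ^ i < 256 := Nat.pow_lt_pow_right (n := 8) one_lt_two h
theorem x1024 {v w : ℕ} (hv : v < 1024) (hw : w < 1024) : v ^^^ w < 1024 := Nat.xor_lt_two_pow (n := 10) hv hw
theorem l1024 (μ : Au 10) (v : ℕ) : lin (cd μ) v < 1024 := lin_lt (cd_lt μ) v
theorem cl_sub {n : ℕ} {s : List (List ℕ)} {K : Subgroup (Au n)} (h : ∀ l ∈ s, mk n l ∈ K) : cl n s ≤ K :=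
  (closure_le _).2 fun _ ⟨l, hl, e⟩ => e ▸ h l hl
theorem cl_mem {n : ℕ} {s : List (List ℕ)} {l : List ℕ} (h : l ∈ s) : mk n l ∈ cl n s := subset_closure ⟨l, h, rfl⟩
theorem qe_S : cl 10 qe ≤ S10 := cl_sub fun l hl => T10_S (cd_qe l hl).2

end QE

open QE

variable {G : Type*} [Group G] [Finite G] {c : Fr G} {e : BV 10 →* G} {S : Subgroup G}

namespace Fr

theorem qe_comm (u v : BV 10) : e u * e v = e v * e u := by rw [← map_mul, mul_comm, map_mul]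
theorem qe_inv (u : BV 10) : (e u)⁻¹ = e u := by rw [← map_inv, bv_inv]
theorem qe_act1 (u : BV 10) : Act e (e u) 1 := fun v => by rw [qe_comm, mul_inv_cancel_right]; rfl

theorem Cg.e_T (h : c.Cg e S) {v : ℕ} (hv : v < 1024) (m : e (bv 10 v) ∈ c.T) : v < 512 := by
  obtain ⟨t, ht, et⟩ := (c.mem_im le_rfl).1 m
  obtain ⟨u, rfl⟩ := cent_F0 ht.1.1 fun w hw => c.ι_inj (mul_mem ht (ffT hw)) (mul_mem (ffT hw) ht) (by
    rw [c.ι_mul _ ht _ (ffT hw), c.ι_mul _ (ffT hw) _ ht, et, ← c.fl_eq hw, ← h.ga.ef w hw, qe_comm])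
  have hu : u.1 < 512 := u.2
  rw [← c.f_eq, ← bv_val u, ← fl, ← h.ga.ef _ hu] at et
  rwa [← (bv_eq (n := 10) (by omega) hv).1 (h.ga.inj et)]

theorem Cg.e_Q (h : c.Cg e S) {v : ℕ} (hv : v < 1024) : e (bv 10 v) ∈ c.Q ↔ v &&& 816 = 0 := by
  by_cases h5 : v < 512
  · rw [h.ga.ef v h5, c.fl_eq h5, Q, c.ι_mem_im Q0_T (ffT h5), ff_Q v h5]
  · exact ⟨fun m => absurd (h.e_T hv (Q_T m)) h5, fun m => absurd m (hi_bit v hv h5)⟩
theorem Cg.e_Z (h : c.Cg e S) {v : ℕ} (hv : v < 1024) : e (bv 10 v) ∈ c.Z ↔ v ∈ [0, 1, 8, 9] := by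
  rw [mem_Z']
  refine ⟨fun ⟨z, hz, e1⟩ => ?_, fun m => ⟨v, m, h.ga.ef v (z4 m)⟩⟩
  rw [← h.ga.ef z (z4 hz)] at e1
  rwa [(bv_eq (n := 10) hv (by have := z4 hz; omega)).1 (h.ga.inj e1)]
theorem Cg.act_Z (h : c.Cg e S) {z : G} (hz : z ∈ c.Z) : Act e z 1 := by
  obtain ⟨y, hy, rfl⟩ := mem_Z'.1 hz
  rw [← h.ga.ef y (z4 hy)]
  exact qe_act1 _
theorem Cg.E_cZ (h : c.Cg e S) (v : BV 10) : e v ∈ 𝐂(c.Z) := mem_centralizer_iff.2 fun _ hz =>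
  mul_inv_eq_iff_eq_mul.1 (h.act_Z hz v)
theorem Cg.act_q (h : c.Cg e S) {i : ℕ} (hi : i < 8) : Act e (c.q (2 ^ i)) (E64.mk 10 (qe.getD i [])) := by
  have m := Q_T (q_mem (c := c) (p256 hi))
  have k := cd_qe _ (qe_mem i hi)
  refine h.ga.act_of (c.T_N m) (c.T_nR m) (h.ga.TE m) (T10_L _ k.2) fun j hj => ?_
  obtain ⟨k1, k2⟩ := qe_ff i hi j hj
  rw [q, c.π_ι _ (q0T (p256 hi)), mul_inv_eq_iff_eq_mul, cd_eq_iff, cd_mul, cd_mul, k.1, cd_q0 _ (p256 hi),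
    cd_ff _ k1, cd_ff _ (Nat.pow_lt_pow_right (n := 9) one_lt_two hj), k2]
theorem Cg.act_qx (h : c.Cg e S) {v w : ℕ} (hv : v < 256) (hw : w < 256) {γ δ : Au 10} (a : Act e (c.q v) γ)
    (b : Act e (c.q w) δ) : Act e (c.q (v ^^^ w)) (γ * δ) := by
  have := (a.mul b).mul (h.act_Z (inv_mem (q_mul hv hw)))
  rwa [mul_one, mul_inv_rev, inv_inv, mul_inv_cancel_left] at this
theorem Cg.act_Q (h : c.Cg e S) {x : G} (hx : x ∈ c.Q) : ∃ γ ∈ cl 10 qe, Act e x γ := by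
  obtain ⟨v, hv, z, hz, rfl⟩ := mem_Q.1 hx
  obtain ⟨γ, m, a⟩ := bv_ind (n := 8) (P := fun v => ∃ γ ∈ cl 10 qe, Act e (c.q v.1) γ)
    ⟨1, one_mem _, by rw [val_one, q_zero]; exact Act.one⟩
    (fun a b ⟨γ, m, ha⟩ ⟨δ, m', hb⟩ => ⟨γ * δ, mul_mem m m', h.act_qx a.2 b.2 ha hb⟩)
    (fun i hi => ⟨_, cl_mem (qe_mem i hi), by
      rw [val_bv (n := 8) (p256 hi)]; exact h.act_q hi⟩) ⟨v, hv⟩
  exact ⟨γ, m, mul_one γ ▸ a.mul (h.act_Z hz)⟩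
theorem Cg.autQ (h : c.Cg e S) : AutG e c.Q = cl 10 qe := by
  refine le_antisymm (fun γ hγ => ?_) (cl_sub fun l hl => ?_)
  · obtain ⟨x, hx, a⟩ := mem_autG.1 hγ
    obtain ⟨δ, m, b⟩ := h.act_Q hx
    rwa [a.uniq h.ga.inj b]
  · obtain ⟨i, hi, k⟩ := qe_idx l hl
    rw [k]
    exact mem_autG.2 ⟨_, q_mem (p256 hi), h.act_q hi⟩
theorem qe_cj {x : G} {γ : Au 10} (a : Act e x γ) {v : ℕ} (hv : v < 1024) :
    e (bv 10 v) * x * (e (bv 10 v))⁻¹ = e (bv 10 (v ^^^ lin (cd γ) v)) * x := by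
  rw [bv_xor, map_mul, ← a.bv hv, qe_inv]
  group
theorem Cg.aq_pt (h : c.Cg e S) {p : ℕ} (hp : p ∈ Om) (h8 : p ≠ 8) (h9 : p ≠ 9) :
    Sing (cen p) ∧ c.AQ (e (bv 10 p)) (ta (cen p)) := by
  obtain ⟨s, k⟩ := qe_pt p hp h8 h9
  refine ⟨s, aq_of_basis (centralizer_le_normalizer _ (h.E_cZ _)) fun i hi => ?_⟩
  obtain ⟨k1, z, hz, k2⟩ := k i hi
  refine ⟨_, fl_Z hz, ?_⟩
  rw [qe_cj (h.act_q hi) (om_lt p hp), (cd_qe _ (qe_mem i hi)).1, h.ga.ef _ k1, c.fl_eq k1,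
    ← q_fl (l256 _ _) (z4 hz), q, ← c.ι_mul _ (ffT k1) _ (q0T (p256 hi))]
  refine congrArg c.ι ?_
  rw [cd_eq_iff, cd_mul, cd_mul, cd_ff _ k1, cd_ff _ (z4 hz), cd_q0 _ (p256 hi), cd_q0 _ (l256 _ _), cd_ta s, k2]
theorem Cg.E_nQ (h : c.Cg e S) : e.range ≤ 𝐍(c.Q) := by
  rintro _ ⟨v, rfl⟩
  refine mem_normalizer_fintype fun x hx => ?_
  obtain ⟨γ, m, a⟩ := h.act_Q hx
  rw [← bv_val v, qe_cj a v.2]
  refine mul_mem ((h.e_Q (x1024 v.2 (l1024 _ _))).2 ?_) hx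
  rw [Nat.xor_comm]
  exact (s_q (qe_S m) ((inQ_iff (qe_S m)).2 m)).2.2 _ v.2
theorem Cg.aq_E (h : c.Cg e S) {v : ℕ} (hv : v < 1024) (a : c.AQ (e (bv 10 v)) 1) : v &&& 816 = 0 :=
  qe_triv v hv fun i hi => by
    have := (aq_one_iff a.1).1 a _ (q_mem (p256 hi))
    rw [commutatorElement_def, (h.act_q hi).bv hv, qe_inv, ← map_mul, ← bv_xor, h.e_Z (x1024 (l1024 _ _) hv),
      (cd_qe _ (qe_mem i hi)).1] at this
    exact this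
theorem qe_tv {p : ℕ × ℕ} (hp : p ∈ [(16, 6), (48, 102)]) : ta p.2 ∈ c.AutQ 𝐂(c.Z) := by
  obtain ⟨t1, t8, tq⟩ := tv_Q p hp
  obtain ⟨p1, p2, p3⟩ := (by decide +kernel : ∀ p ∈ [(16, 6), (48, 102)],
    p.1 < 64 ∧ Sing p.2 ∧ lin (tvc p.1) 1 = 1) p hp
  have nq := nQ0 (tv_mem p1) (by rw [cd_tv _ p1, p3])
  obtain ⟨n, -, -, -, hn⟩ := c.lift (L := ⊤) le_top (let ⟨n, h1, h2⟩ := c.π_surj _ (tv_mem p1); ⟨n, h1, trivial, h2⟩)
    Q0_T fun b hb => Q0_T ((mem_normalizer_iff.1 nq b).1 hb)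
  have cz : n ∈ 𝐂(c.Z) := mem_cZ.2 ⟨by
    have := hn _ ((ff_Q 1 (by norm_num)).2 (by decide))
    rw [t1, mul_inv_cancel_right, ← c.fl_eq (by norm_num)] at this
    exact mul_inv_eq_iff_eq_mul.1 this, by
    have := hn _ ((ff_Q 8 (by norm_num)).2 (by decide))
    rw [t8, mul_inv_cancel_right, ← c.fl_eq (by norm_num)] at this
    exact mul_inv_eq_iff_eq_mul.1 this⟩
  refine mem_autQ.2 ⟨n, cz, aq_of_basis (centralizer_le_normalizer _ cz) fun i hi => ?_⟩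
  obtain ⟨z, hz, k⟩ := tq _ (p256 hi)
  refine ⟨_, fl_Z hz, ?_⟩
  rw [← q_fl (l256 _ _) (z4 hz), cd_ta p2, ← k, q, hn _ (q0Q (p256 hi))]
theorem Cg.k8 (h : c.Cg e S) : K8 ≤ c.AutQ 𝐂(c.Z) := by
  refine K8_gen.trans (cl_sub fun l hl => ?_)
  have k : ∀ p ∈ Om, p ≠ 8 → p ≠ 9 → ta (cen p) ∈ c.AutQ 𝐂(c.Z) := fun p hp h8 h9 =>
    mem_autQ.2 ⟨_, h.E_cZ _, (h.aq_pt hp h8 h9).2⟩
  simp only [List.mem_cons, List.not_mem_nil, or_false] at hl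
  rcases hl with f | f | f | f | f <;> rw [f]
  · exact k 16 (by decide) (by decide) (by decide)
  · exact k 32 (by decide) (by decide) (by decide)
  · exact k 512 (by decide) (by decide) (by decide)
  · exact qe_tv (p := (16, 6)) (by simp)
  · exact qe_tv (p := (48, 102)) (by simp)
theorem Cg.in_QE (h : c.Cg e S) {s : G} (hs : s ∈ S) {g : Au 10} (a : Act e s g) (hg : InQ g) :
    ∃ q ∈ c.Q, q * q = 1 ∧ Act e q g ∧ ∃ v < 1024, s = q * e (bv 10 v) := by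
  obtain ⟨g', m, a'⟩ := h.act hs
  obtain rfl := a.uniq h.ga.inj a'
  obtain ⟨x, hx, b⟩ := mem_autG.1 (h.autQ ▸ (inQ_iff m).1 hg)
  obtain ⟨v, hv, z, hz, rfl⟩ := mem_Q.1 hx
  have b1 : Act e (c.q v) g := by simpa using b.mul (h.act_Z (inv_mem hz))
  obtain ⟨w, hw, w0, b2⟩ : ∃ w < 256, q8 w = false ∧ Act e (c.q w) g := by
    cases k : q8 v
    · exact ⟨v, hv, k, b1⟩
    obtain ⟨p, hp, k1⟩ := sing_U v hv k
    obtain ⟨p1, p2⟩ := (by decide : ∀ p ∈ [(5, 3), (10, 65), (80, 5), (160, 129)], p.1 < 256 ∧ p.2 < 512) p hp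
    have : c.q p.1 = e (bv 10 p.2) := by
      rw [h.ga.ef _ p2, c.fl_eq p2, q]
      refine congrArg c.ι ?_
      rw [cd_eq_iff, cd_q0 _ p1, cd_ff _ p2, q_ff p hp]
    exact ⟨_, x256 hv p1, k1, mul_one g ▸ h.act_qx hv p1 b1 (this ▸ qe_act1 _)⟩
  have sq := q_sq (c := c) hw (one_mem _)
  rw [mul_one, w0] at sq
  exact ⟨_, q_mem hw, sq, b2, h.mem_E (h.TS (Q_T (q_mem hw))) hs b2 a⟩
theorem Cg.aq_S (h : c.Cg e S) {s : G} (hs : s ∈ S) (a : c.AQ s 1) : s ∈ c.Q := by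
  obtain ⟨g, -, b⟩ := h.act hs
  obtain ⟨x, hx, -, -, v, hv, rfl⟩ := h.in_QE hs b fun v hv => by
    obtain ⟨v1, v2⟩ := (by decide : ∀ v ∈ [2, 4, 64, 128], v < 1024 ∧ v &&& 816 = 0) v hv
    have := (aq_one_iff a.1).1 a _ ((h.e_Q v1).2 v2)
    rw [commutatorElement_def, qe_cj b v1, mul_inv_cancel_right, h.e_Z (x1024 v1 (l1024 _ _)), Nat.xor_comm] at this
    exact this
  have := (aq_Q (inv_mem hx)).mul a
  rw [inv_mul_cancel_left, mul_one] at this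
  exact mul_mem hx ((h.e_Q hv).2 (h.aq_E hv this))

end Fr

end H12.E64
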