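import Cfsg.Agent.Lib.E64.RY1
import Cfsg.Agent.Lib.E64.M9

/-! Calculus in `R = A F` (helper1) -/

set_option autoImplicit false

namespace H12.E64

open Subgroup Cfsg H69 H45 Gold
open scoped commutatorElement

/-- the commutator of `τ (8 y)` and `ff v` -/
def r0bil (y v : ℕ) : ℕ := lin (y9.getD y []) v ^^^ v

theorem eqns_ry0 : True := by
  have := @r0bil.eq_1
  trivial

theorem r0_bil_lt : ∀ y < 8, ∀ v < 512, r0bil y v < 8 := by decide +kernel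
theorem r0_bil_W : ∀ y < 8, ∀ v < 8, r0bil y v = 0 := by decide +kernel
theorem r0_bil_xor (y v w : ℕ) : r0bil y (v ^^^ w) = r0bil y v ^^^ r0bil y w := by
  rw [r0bil, r0bil, r0bil, lin_xor]; ac_rfl
theorem r0_dl_lt : ∀ y < 8, dl y < 512 := by decide +kernel
theorem r0_xl3 {a b : ℕ} (ha : a < 8) (hb : b < 8) : a ^^^ b < 8 := Nat.xor_lt_two_pow (n := 3) ha hb
theorem r0_xl6 {a b : ℕ} (ha : a < 64) (hb : b < 64) : a ^^^ b < 64 := Nat.xor_lt_two_pow (n := 6) ha hb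
theorem r0_xl9 {a b : ℕ} (ha : a < 512) (hb : b < 512) : a ^^^ b < 512 := Nat.xor_lt_two_pow (n := 9) ha hb
theorem r0_lin9_lt (γ : Au 9) (v : ℕ) : lin (cd γ) v < 512 := lin_lt (cd_lt γ) v
theorem r0_lin10_lt (γ : Au 10) (v : ℕ) : lin (cd γ) v < 1024 := lin_lt (cd_lt γ) v

theorem r0_cd_y9 {y : ℕ} (hy : y < 8) : cd (mk 9 (y9.getD y [])) = y9.getD y [] :=
  cd_mk _ ((by decide +kernel : ∀ y < 8, ok 9 (y9.getD y []) (y9.getD y []) = true) y hy)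

theorem r0_ffh_bv {v : ℕ} (hv : v < 512) : ffh (bv 9 v) = ff v := by
  rw [ffh, MonoidHom.mk'_apply, val_bv (n := 9) hv]

theorem r0_act_tau {y : ℕ} (hy : y < 8) : Act ffh (tau (8 * y)) (mk 9 (y9.getD y [])) := act_of_basis fun i hi => by
  have h1 : 2 ^ i < 2 ^ 9 := Nat.pow_lt_pow_right (by norm_num) hi
  have h2 := r0_lin9_lt (mk 9 (y9.getD y [])) (2 ^ i)
  rw [r0_ffh_bv h1, r0_ffh_bv h2, mul_inv_eq_iff_eq_mul, cd_eq_iff, cd_mul, cd_mul, cd_tau _ (by omega), cd_ff _ h1,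
    cd_ff _ h2, r0_cd_y9 hy]
  exact (by decide +kernel : ∀ y < 8, ∀ i < 9,
    cm (tauc (8 * y)) (ffc (2 ^ i)) = cm (ffc (lin (y9.getD y []) (2 ^ i))) (tauc (8 * y))) y hy i hi

theorem r0_tau_ff_comm {y v : ℕ} (hy : y < 8) (hv : v < 512) :
    tau (8 * y) * ff v = ff (v ^^^ r0bil y v) * tau (8 * y) := by
  have h2 := r0_lin9_lt (mk 9 (y9.getD y [])) v
  have := (r0_act_tau hy).bv (x := v) hv
  rw [r0_ffh_bv hv, r0_ffh_bv h2, mul_inv_eq_iff_eq_mul, r0_cd_y9 hy] at this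
  rw [this, r0bil, Nat.xor_comm (lin _ v), ← Nat.xor_assoc, Nat.xor_self, Nat.zero_xor]

theorem r0_cd_cols {n : ℕ} (g : Au n) : cd g = (idn n).map (lin (cd g)) := by
  conv_lhs => rw [← mul_one g, cd_mul, cd_one]
  rfl

theorem r0_lin3 (l : List ℕ) {w : ℕ} (hw : w < 8) : lin l w = lin [lin l 1, lin l 2, lin l 4] w := by
  have := lin_cm l (idn 3) w
  rw [lin_idn (n := 3) hw] at this
  exact this.symm

theorem r0_cl_snoc (n : ℕ) (s : List (List ℕ)) (l : List ℕ) : cl n (s ++ [l]) = cl n s ⊔ zpowers (mk n l) := by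
  rw [cl, cl, zpowers_eq_closure, ← Subgroup.closure_union]
  congr 1
  ext x
  simp only [List.mem_append, List.mem_singleton, Set.mem_ofPred_eq, Set.mem_union, Set.mem_singleton_iff]
  constructor
  · rintro ⟨a, h | rfl, rfl⟩
    exacts [Or.inl ⟨a, h, rfl⟩, Or.inr rfl]
  · rintro (⟨a, h, rfl⟩ | rfl)
    exacts [⟨a, Or.inl h, rfl⟩, ⟨l, Or.inr rfl, rfl⟩]

theorem r0_cl_le {n : ℕ} {s : List (List ℕ)} {H : Subgroup (Au n)} (h : ∀ i < s.length, mk n (s.getD i []) ∈ H) :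
    cl n s ≤ H := (closure_le _).2 (by
  rintro _ ⟨l, hl, rfl⟩
  obtain ⟨i, hi, rfl⟩ := List.getElem_of_mem hl
  have := h i hi
  rwa [List.getD_eq_getElem _ _ hi] at this)

theorem r0_mem_cl {n : ℕ} {s : List (List ℕ)} {l : List ℕ} (h : l ∈ s) : mk n l ∈ cl n s := subset_closure ⟨l, h, rfl⟩

theorem r0_cd_g9' {i : ℕ} (hi : i < 6) : cd (mk 9 (g9.getD i [])) = g9.getD i [] :=
  cd_g9 _ ((by decide : ∀ i < 6, g9.getD i [] ∈ g9 ++ [xb]) i hi)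

theorem r0_gM_mem_P {i : ℕ} (hi : i < 6) : mk 7 (gM.getD i []) ∈ P0 :=
  gM_mem _ ((by decide : ∀ i < 6, gM.getD i [] ∈ gM) i hi)

theorem r0_gM_mem_T {i : ℕ} (hi : i < 5) : mk 7 (gM.getD i []) ∈ T0 :=
  gM_mem' _ ((by decide : ∀ i < 5, gM.getD i [] ∈ gM.take 5) i hi)

theorem r0_tau_T {v : ℕ} (h : v < 64) : tau v ∈ T0 := R0_T (A0_R (tau_mem h))
theorem r0_ff_T {v : ℕ} (h : v < 512) : ff v ∈ T0 := R0_T (F0_R (ff_mem h))

variable {G : Type*} [Group G] {c : Fr G}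

theorem r0_comm_of_sq {o x : G} (ho : Odd (orderOf o)) (h : Commute (o * o) x) : Commute o x := by
  obtain ⟨k, hk⟩ := ho
  have : o = (o * o) ^ (k + 1) := by
    rw [← sq, ← pow_mul, show 2 * (k + 1) = orderOf o + 1 by omega, pow_succ, pow_orderOf_eq_one, one_mul]
  rw [this]
  exact h.pow_left _

namespace Fr

theorem r0_al_zero : c.al 0 = 1 := by rw [al, bv_zero, map_one]
theorem r0_fl_zero : c.fl 0 = 1 := by rw [fl, bv_zero, map_one]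
theorem r0_al_sq (v : ℕ) : c.al v * c.al v = 1 := by rw [← al_xor, Nat.xor_self, r0_al_zero]
theorem r0_fl_sq (v : ℕ) : c.fl v * c.fl v = 1 := by rw [← fl_xor, Nat.xor_self, r0_fl_zero]
theorem r0_al_inv (v : ℕ) : (c.al v)⁻¹ = c.al v := inv_eq_of_mul_eq_one_right (r0_al_sq v)
theorem r0_fl_inv (v : ℕ) : (c.fl v)⁻¹ = c.fl v := inv_eq_of_mul_eq_one_right (r0_fl_sq v)
theorem r0_al_comm (v w : ℕ) : Commute (c.al v) (c.al w) := by
  show _ * _ = _ * _; rw [← al_xor, ← al_xor, Nat.xor_comm]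
theorem r0_fl_comm (v w : ℕ) : Commute (c.fl v) (c.fl w) := by
  show _ * _ = _ * _; rw [← fl_xor, ← fl_xor, Nat.xor_comm]
theorem r0_al_inj {v w : ℕ} (hv : v < 64) (hw : w < 64) (h : c.al v = c.al w) : v = w :=
  (bv_eq (n := 6) hv hw).1 (c.α_inj h)
theorem r0_fl_inj {v w : ℕ} (hv : v < 512) (hw : w < 512) (h : c.fl v = c.fl w) : v = w :=
  (bv_eq (n := 9) hv hw).1 (c.f_inj h)
theorem r0_f_fl (v : BV 9) : c.f v = c.fl v.1 := by rw [fl, bv_val]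
theorem r0_α_al (v : BV 6) : c.α v = c.al v.1 := by rw [al, bv_val]
theorem r0_mem_A {g : G} : g ∈ c.A ↔ ∃ v < 64, g = c.al v :=
  ⟨fun ⟨v, e⟩ => ⟨v.1, v.2, by rw [← e, r0_α_al]⟩, fun ⟨v, _, e⟩ => e ▸ c.al_mem v⟩
theorem r0_mem_F {g : G} : g ∈ c.F ↔ ∃ v < 512, g = c.fl v :=
  ⟨fun ⟨v, e⟩ => ⟨v.1, v.2, by rw [← e, r0_f_fl]⟩, fun ⟨v, _, e⟩ => e ▸ c.fl_mem v⟩
theorem r0_A_R : c.A ≤ c.R := c.R_eq ▸ le_sup_left
theorem r0_F_R : c.F ≤ c.R := c.R_eq ▸ le_sup_right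
theorem r0_R_N : c.R ≤ c.N := c.R_T.trans c.T_N
theorem r0_al_R (v : ℕ) : c.al v ∈ c.R := r0_A_R (c.al_mem v)
theorem r0_fl_R (v : ℕ) : c.fl v ∈ c.R := r0_F_R (c.fl_mem v)
theorem r0_al_N (v : ℕ) : c.al v ∈ c.N := r0_R_N (r0_al_R v)
theorem r0_fl_N (v : ℕ) : c.fl v ∈ c.N := r0_R_N (r0_fl_R v)
theorem r0_al_nR (v : ℕ) : c.al v ∈ 𝐍(c.R) := le_normalizer (r0_al_R v)
theorem r0_fl_nR (v : ℕ) : c.fl v ∈ 𝐍(c.R) := le_normalizer (r0_fl_R v)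
theorem r0_π_al {v : ℕ} (h : v < 64) : c.π (c.al v) = tau v := by rw [c.al_eq h, c.π_ι _ (r0_tau_T h)]
theorem r0_π_fl {v : ℕ} (h : v < 512) : c.π (c.fl v) = ff v := by rw [c.fl_eq h, c.π_ι _ (r0_ff_T h)]
theorem r0_ι_T {t : Au 7} (h : t ∈ T0) : c.ι t ∈ c.T := (c.ι_mem_im le_rfl h).2 h
theorem r0_al_split {v : ℕ} (h : v < 64) : c.al v = c.al (8 * (v / 8)) * c.fl (v % 8) := by
  rw [← c.al_fl (Nat.mod_lt _ (by omega)), ← al_xor]
  exact congrArg c.al ((by decide +kernel : ∀ v < 64, v = 8 * (v / 8) ^^^ v % 8) v h)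
theorem r0_al_fl_W (v : ℕ) {w : ℕ} (h : w < 8) : Commute (c.al v) (c.fl w) := c.al_fl h ▸ r0_al_comm v w

theorem r0_af8 {y v : ℕ} (hy : y < 8) (hv : v < 512) :
    c.al (8 * y) * c.fl v = c.fl (v ^^^ r0bil y v) * c.al (8 * y) := by
  have h2 := r0_xl9 hv ((r0_bil_lt y hy v hv).trans (by omega : 8 < 512))
  have h1 : 8 * y < 64 := by omega
  rw [c.al_eq h1, c.fl_eq hv, c.fl_eq h2, ← c.ι_mul _ (r0_tau_T h1) _ (r0_ff_T hv), ← c.ι_mul _ (r0_ff_T h2) _ (r0_tau_T h1),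
    r0_tau_ff_comm hy hv]

theorem r0_af {u v : ℕ} (hu : u < 64) (hv : v < 512) :
    c.al u * c.fl v = c.fl (v ^^^ r0bil (u / 8) v) * c.al u := by
  rw [r0_al_split hu, mul_assoc, (r0_fl_comm _ _).eq, ← mul_assoc, r0_af8 (by omega) hv, mul_assoc]

theorem r0_cj_af {u v : ℕ} (hu : u < 64) (hv : v < 512) :
    c.al u * c.fl v * (c.al u)⁻¹ = c.fl (v ^^^ r0bil (u / 8) v) := by rw [r0_af hu hv, mul_inv_cancel_right]

theorem r0_cj_fa {u v : ℕ} (hu : u < 64) (hv : v < 512) :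
    c.fl v * c.al u * (c.fl v)⁻¹ = c.al u * c.fl (r0bil (u / 8) v) := by
  have h := r0_bil_lt (u / 8) (by omega) v hv
  have := r0_af (c := c) hu hv
  rw [fl_xor, mul_assoc, ← (r0_al_fl_W u h).eq] at this
  rw [r0_fl_inv, mul_assoc, this, ← mul_assoc, ← mul_assoc, r0_fl_sq, one_mul]

theorem r0_R_W {r : G} (hr : r ∈ c.R) {w : ℕ} (h : w < 8) : Commute r (c.fl w) := by
  obtain ⟨y, -, v, -, rfl⟩ := c.mem_R.1 hr
  exact (r0_al_fl_W _ h).mul_left (r0_fl_comm _ _)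

theorem _root_.H12.E64.Act.r0fl {g : G} {γ : Au 9} (a : Act c.f g γ) {v : ℕ} (hv : v < 512) :
    g * c.fl v * g⁻¹ = c.fl (lin (cd γ) v) := a.bv hv

theorem r0_act_g9 {n : G} (hn : n ∈ c.N) (hR : n ∈ 𝐍(c.R)) {i : ℕ} (hi : i < 6) (h : c.π n = E64.mk 7 (gM.getD i [])) :
    Act c.f n (E64.mk 9 (g9.getD i [])) := c.act_f hn hR (by rw [h]; exact act_gM i hi)

variable [Finite G]

theorem r0_exists_actF {g : G} (hg : g ∈ 𝐍(c.R)) : ∃ γ, Act c.f g γ := exists_act c.f_inj (nRF hg)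

end Fr

end H12.E64
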