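import Cfsg.Agent.Lib.E64.Bas

/-! The normaliser of `R` permutes `A` and `A'` (see blueprint/E64/README.md) -/

set_option autoImplicit false
set_option linter.unusedSectionVars false
set_option synthInstance.maxSize 4000

namespace H12.E64

open Subgroup Cfsg H69 H45 Gold
open scoped commutatorElement

namespace RY1

/-- the symmetric matrix with code `u < 64` applied to `y < 8` -/
def um (u y : ℕ) : ℕ := lin [lin [1, 0, 0, 2, 4] u, lin [0, 2, 0, 1, 0, 4] u, lin [0, 0, 4, 0, 1, 2] u] y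

theorem eqns_ry1 : True := by
  have := @um.eq_1
  trivial

theorem f_um : ∀ v < 512, ∀ y < 8, lin (ffc v) (8 * y) = 8 * y ^^^ um (v / 8) y ∧ um (v / 8) y < 8 ∧
    (tauc (8 * y) = ffc v → y = 0) := by decide +kernel

theorem um_zero (u : ℕ) : um u 0 = 0 := lin_zero _

theorem zero_um : ∀ y < 8, um 0 y = 0 := by decide +kernel

set_option synthInstance.maxHeartbeats 200000 in
theorem f_tri : ∀ u1 < 64, um u1 1 = 0 → ∀ u2 < 64, um u2 2 = 0 ∧ um u1 2 = um u2 1 → ∀ u3 < 64,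
    um u3 4 = 0 ∧ um u1 4 = um u3 1 ∧ um u2 4 = um u3 2 →
      (u1 = 0 ∧ u2 = 0 ∧ u3 = 0) ∨ (u1 = 32 ∧ u2 = 16 ∧ u3 = 8) := by decide +kernel

theorem lin_ind {P : ℕ → Prop} (h0 : P 0) (h : ∀ x y, P x → P y → P (x ^^^ y)) :
    ∀ (l : List ℕ), (∀ c ∈ l, P c) → ∀ x, P (lin l x)
  | [], _, _ => h0
  | c :: l, a, x => h _ _ (by
      rcases Nat.mod_two_eq_zero_or_one x with k | k <;> rw [k]
      · rwa [zero_mul]
      · rw [one_mul]; exact a c List.mem_cons_self) (lin_ind h0 h l (fun d hd => a d (List.mem_cons_of_mem _ hd)) _)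

variable {G : Type*} [Group G] [Finite G] {c : Fr G} {y y' v v' : ℕ} {g : G}

theorem ffT (hv : v < 512) : ff v ∈ T0 := R0_T (F0_R (ff_mem hv))

theorem al0 : c.al 0 = 1 := by rw [Fr.al, bv_zero, map_one]

theorem fl0 : c.fl 0 = 1 := by rw [Fr.fl, bv_zero, map_one]

theorem law (hy : y < 8) (hv : v < 512) :
    c.fl v * c.al (8 * y) = c.al (8 * y) * c.fl (v ^^^ um (v / 8) y) := by
  have := c.cj_al (c.ι_mem _ (ffT hv)) (v := 8 * y) (by omega)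
  rw [c.π_ι _ (ffT hv), ← c.fl_eq hv, cd_ff v hv, (f_um v hv y hy).1, c.al_xor, c.al_fl (f_um v hv y hy).2.1] at this
  rw [mul_inv_eq_iff_eq_mul.1 this, mul_assoc, ← c.fl_xor, Nat.xor_comm]

theorem fl_inj (hv : v < 512) (hv' : v' < 512) (e : c.fl v = c.fl v') : v = v' :=
  (bv_eq (n := 9) hv hv').1 (c.f_inj e)

theorem mul (y : ℕ) (hy' : y' < 8) (hv : v < 512) (v' : ℕ) :
    c.al (8 * y) * c.fl v * (c.al (8 * y') * c.fl v') =
      c.al (8 * y) * c.al (8 * y') * c.fl (v ^^^ v' ^^^ um (v / 8) y') := by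
  rw [mul_assoc, ← mul_assoc (c.fl v), law hy' hv, mul_assoc, ← c.fl_xor, mul_assoc]
  congr 3
  ac_rfl

theorem comm (hy : y < 8) (hy' : y' < 8) (hv : v < 512) (hv' : v' < 512) :
    c.al (8 * y) * c.fl v * (c.al (8 * y') * c.fl v') = c.al (8 * y') * c.fl v' * (c.al (8 * y) * c.fl v) ↔
      um (v / 8) y' = um (v' / 8) y := by
  have a := (f_um v hv y' hy').2.1
  have b := (f_um v' hv' y hy).2.1
  have l := Nat.xor_lt_two_pow (n := 9) hv hv'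
  rw [mul y hy' hv, mul y' hy hv', ← c.al_xor, ← c.al_xor, Nat.xor_comm (8 * y'), mul_right_inj, Nat.xor_comm v']
  exact ⟨fun e => Nat.xor_right_inj.1 (fl_inj (Nat.xor_lt_two_pow (n := 9) l (by omega))
    (Nat.xor_lt_two_pow (n := 9) l (by omega)) e), fun e => by rw [e]⟩

theorem fl_eq (c : Fr G) (v : ℕ) : c.fl v = c.al (8 * 0) * c.fl v := by rw [mul_zero, al0, one_mul]

theorem al_eq (c : Fr G) (y : ℕ) : c.al (8 * y) = c.al (8 * y) * c.fl 0 := by rw [fl0, mul_one]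

theorem rR (hy : y < 8) (hv : v < 512) : c.al (8 * y) * c.fl v ∈ c.R := c.mem_R.2 ⟨y, hy, v, hv, rfl⟩

theorem flR (hv : v < 512) : c.fl v ∈ c.R := c.mem_R.2 ⟨0, by omega, v, hv, fl_eq c v⟩

theorem cj_comm {r s : G} (h : r * (g⁻¹ * s * g) = g⁻¹ * s * g * r) : g * r * g⁻¹ * s = s * (g * r * g⁻¹) := by
  calc g * r * g⁻¹ * s = g * (r * (g⁻¹ * s * g)) * g⁻¹ := by group
    _ = _ := by rw [h]; group

theorem basis (hg : g ∈ 𝐍(c.R)) (hv : v ∈ [1, 2, 4, 8, 16, 32, 88, 168, 304]) : g * c.fl v * g⁻¹ ∈ c.F := by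
  obtain ⟨l, p⟩ := (show ∀ v ∈ [1, 2, 4, 8, 16, 32, 88, 168, 304], v < 512 ∧ ∀ y < 8, ∀ y' < 8,
    um (v / 8) y = 0 ∨ um (v / 8) y' = 0 ∨ um (v / 8) (y ^^^ y') = 0 by decide +kernel) v hv
  have k : ∀ y < 8, ∀ w < 512, um (v / 8) y = 0 →
      c.fl v * (c.al (8 * y) * c.fl w) = c.al (8 * y) * c.fl w * c.fl v := fun y hy w hw e => by
    rw [fl_eq c v, comm (by omega) hy l hw, e, um_zero]
  have P : ∀ s ∈ c.R, ∀ t ∈ c.R, c.fl v * s = s * c.fl v ∨ c.fl v * t = t * c.fl v ∨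
      c.fl v * (s * t) = s * t * c.fl v := fun s hs t ht => by
    obtain ⟨y, hy, w, hw, rfl⟩ := c.mem_R.1 hs
    obtain ⟨y', hy', w', hw', rfl⟩ := c.mem_R.1 ht
    refine (p y hy y' hy').imp (k y hy w hw) (Or.imp (k y' hy' w' hw') fun e => ?_)
    rw [mul y hy' hw, ← c.al_xor, (show ∀ y < 8, ∀ y' < 8, 8 * y ^^^ 8 * y' = 8 * (y ^^^ y') by decide) y hy y' hy']
    have := (f_um w hw y' hy').2.1
    exact k _ (Nat.xor_lt_two_pow (n := 3) hy hy') _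
      (Nat.xor_lt_two_pow (n := 9) (Nat.xor_lt_two_pow (n := 9) hw hw') (by omega)) e
  obtain ⟨y, hy, w, hw, e⟩ := c.mem_R.1 (conj_mem_of_mem_normalizer hg (flR l))
  have q : ∀ u < 512, c.fl v * (g⁻¹ * c.fl u * g) = g⁻¹ * c.fl u * g * c.fl v → um (u / 8) y = 0 := fun u hu a => by
    have := cj_comm a
    rw [e, fl_eq c u, comm hy (by omega) hw hu, um_zero] at this
    exact this.symm
  rcases (show ∀ y < 8, y = 0 ∨ ∃ u ∈ [64, 128, 256, 8, 16, 32], ∃ u' ∈ [64, 128, 256, 8, 16, 32], u < 512 ∧ u' < 512 ∧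
    um (u / 8) y ≠ 0 ∧ um (u' / 8) y ≠ 0 ∧ um ((u ^^^ u') / 8) y ≠ 0 by decide +kernel) y hy with
    rfl | ⟨u, -, u', -, hu, hu', a1, a2, a3⟩
  · rw [e, ← fl_eq]
    exact c.fl_mem w
  · rcases P _ (conj_mem_of_mem_normalizer' hg (flR hu)) _ (conj_mem_of_mem_normalizer' hg (flR hu')) with a | a | a
    · exact absurd (q u hu a) a1
    · exact absurd (q u' hu' a) a2
    · refine absurd (q _ (Nat.xor_lt_two_pow (n := 9) hu hu') ?_) a3
      rwa [c.fl_xor, show g⁻¹ * (c.fl u * c.fl u') * g = g⁻¹ * c.fl u * g * (g⁻¹ * c.fl u' * g) by group]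

theorem mem_F {x : G} (h : x ∈ c.F) : ∃ v < 512, x = c.fl v := by
  obtain ⟨v, rfl⟩ := h
  exact ⟨v.1, v.lt, by rw [Fr.fl, bv_val]⟩

theorem mem_A {x : G} (h : x ∈ c.A) : ∃ v < 64, x = c.al v := by
  obtain ⟨v, rfl⟩ := h
  exact ⟨v.1, v.lt, by rw [Fr.al, bv_val]⟩

theorem al_comm (g : G) (v w : ℕ) : g * c.al v * g⁻¹ * (g * c.al w * g⁻¹) = g * c.al w * g⁻¹ * (g * c.al v * g⁻¹) := by
  rw [conj_mul, conj_mul, ← c.al_xor, ← c.al_xor, Nat.xor_comm]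

end RY1

open RY1

variable {G : Type*} [Group G] [Finite G] {c : Fr G}

namespace Fr

theorem nRF {g : G} (hg : g ∈ 𝐍(c.R)) : g ∈ 𝐍(c.F) := mem_normalizer_fintype fun x hx => by
  obtain ⟨v, hv, rfl⟩ := mem_F hx
  rw [← (show ∀ v < 512, lin [1, 2, 4, 8, 16, 32, 88, 168, 304] (lin [1, 2, 4, 8, 16, 32, 88, 168, 304] v) = v by
    decide +kernel) v hv]
  exact lin_ind (P := fun v => g * c.fl v * g⁻¹ ∈ c.F) (by simp [fl0])
    (fun x y a b => by rw [c.fl_xor, ← conj_mul]; exact mul_mem a b) _ (fun _ => basis hg) _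

theorem nRW {g : G} (hg : g ∈ 𝐍(c.R)) : ∀ w < 8, ∃ w' < 8, g * c.fl w * g⁻¹ = c.fl w' := fun w hw => by
  obtain ⟨v, hv, e⟩ := mem_F (conj_mem_of_mem_normalizer (nRF hg) (c.fl_mem w))
  have k : ∀ y < 8, um (v / 8) y = 0 := fun y hy => by
    obtain ⟨y', hy', u, hu, f⟩ := c.mem_R.1 (conj_mem_of_mem_normalizer' hg (rR hy (v := 0) (by omega)))
    have := cj_comm (g := g) (r := c.fl w) (s := c.al (8 * y) * c.fl 0) (by
      rw [f, RY1.fl_eq c w, comm (by omega) hy' (by omega) hu, Nat.div_eq_of_lt hw, zero_um _ hy', um_zero])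
    rwa [e, RY1.fl_eq c v, comm (by omega) hy hv (by omega), um_zero] at this
  exact ⟨v, (show ∀ v < 512, um (v / 8) 1 = 0 → um (v / 8) 2 = 0 → um (v / 8) 4 = 0 → v < 8 by decide +kernel) v hv
    (k 1 (by omega)) (k 2 (by omega)) (k 4 (by omega)), e⟩

theorem nRA {g : G} (hg : g ∈ 𝐍(c.R)) : g ∈ c.N ∨
    ∀ v < 64, ∃ u < 64, g * c.al v * g⁻¹ = c.al u * c.fl (dl (u / 8)) := by
  have ex : ∀ y < 8, ∃ t, ∃ v < 512, g * c.al t * g⁻¹ = c.al (8 * y) * c.fl v := fun y hy => by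
    obtain ⟨y', -, u, -, f⟩ := c.mem_R.1 (conj_mem_of_mem_normalizer' hg (rR hy (v := 0) (by omega)))
    obtain ⟨v, hv, e⟩ := mem_F (inv_mem (conj_mem_of_mem_normalizer (nRF hg) (c.fl_mem u)))
    refine ⟨8 * y', v, hv, ?_⟩
    rw [← e, RY1.al_eq c y, eq_mul_inv_iff_mul_eq, conj_mul, ← f]
    group
  have cm : ∀ {t t' y y' v v' : ℕ}, y < 8 → y' < 8 → v < 512 → v' < 512 →
      g * c.al t * g⁻¹ = c.al (8 * y) * c.fl v → g * c.al t' * g⁻¹ = c.al (8 * y') * c.fl v' →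
      um (v / 8) y' = um (v' / 8) y := fun a a' b b' e e' => by rw [← comm (c := c) a a' b b', ← e, ← e', al_comm]
  have sq : ∀ {t y v : ℕ}, y < 8 → v < 512 → g * c.al t * g⁻¹ = c.al (8 * y) * c.fl v → um (v / 8) y = 0 :=
    fun {t y v} a b e => by
      have := mul (c := c) y a b v
      rw [← e, conj_mul, ← c.al_xor, ← c.al_xor, Nat.xor_self, Nat.xor_self, Nat.xor_self, al0, Nat.zero_xor, mul_one,
        mul_inv_cancel, one_mul, ← fl0 (c := c)] at this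
      have l := (f_um v b y a).2.1
      exact (fl_inj (by omega) (by omega) this).symm
  obtain ⟨t1, v1, h1, e1⟩ := ex 1 (by omega)
  obtain ⟨t2, v2, h2, e2⟩ := ex 2 (by omega)
  obtain ⟨t3, v3, h3, e3⟩ := ex 4 (by omega)
  have el : ∀ t, ∃ y < 8, ∃ v < 512, g * c.al t * g⁻¹ = c.al (8 * y) * c.fl v ∧ um (v / 8) 1 = um (v1 / 8) y ∧
      um (v / 8) 2 = um (v2 / 8) y ∧ um (v / 8) 4 = um (v3 / 8) y := fun t => by
    obtain ⟨y, hy, v, hv, e⟩ := c.mem_R.1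
      (conj_mem_of_mem_normalizer hg ((c.R_eq ▸ le_sup_left : c.A ≤ c.R) (c.al_mem t)))
    exact ⟨y, hy, v, hv, e, cm hy (by omega) hv h1 e e1, cm hy (by omega) hv h2 e e2, cm hy (by omega) hv h3 e e3⟩
  rcases f_tri (v1 / 8) (by omega) (sq (by omega) h1 e1) (v2 / 8) (by omega)
      ⟨sq (by omega) h2 e2, cm (by omega) (by omega) h1 h2 e1 e2⟩ (v3 / 8) (by omega)
      ⟨sq (by omega) h3 e3, cm (by omega) (by omega) h1 h3 e1 e3, cm (by omega) (by omega) h2 h3 e2 e3⟩ with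
    ⟨a1, a2, a3⟩ | ⟨a1, a2, a3⟩ <;> rw [a1, a2, a3] at el
  · refine Or.inl (c.hN ▸ mem_normalizer_fintype fun x hx => ?_)
    obtain ⟨t, -, rfl⟩ := mem_A hx
    obtain ⟨y, hy, v, hv, e, b⟩ := el t
    rw [zero_um y hy] at b
    rw [e, ← c.al_fl ((show ∀ v < 512, um (v / 8) 1 = 0 → um (v / 8) 2 = 0 → um (v / 8) 4 = 0 → v < 8 by
      decide +kernel) v hv b.1 b.2.1 b.2.2)]
    exact mul_mem (c.al_mem _) (c.al_mem _)
  · refine Or.inr fun t _ => ?_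
    obtain ⟨y, hy, v, hv, e, b⟩ := el t
    obtain ⟨b1, b2, b3⟩ := (show ∀ y < 8, ∀ v < 512, um (v / 8) 1 = um 32 y → um (v / 8) 2 = um 16 y →
      um (v / 8) 4 = um 8 y → 8 * y ^^^ v % 8 < 64 ∧ (8 * y ^^^ v % 8) / 8 = y ∧ v = v % 8 ^^^ dl y by
      decide +kernel) y hy v hv b.1 b.2.1 b.2.2
    refine ⟨_, b1, ?_⟩
    rw [b2, c.al_xor, c.al_fl (Nat.mod_lt _ (by omega)), e, mul_assoc, ← c.fl_xor, ← b3]

end Fr

end H12.E64
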