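import Cfsg.Agent.Lib.E64.RY0

/-! An element exchanging `A` and `A'` (see blueprint/E64/README.md) (helper1) -/

set_option autoImplicit false

namespace H12.E64

open Subgroup Cfsg H69 H45 Gold
open scoped commutatorElement

set_option synthInstance.maxSize 2000 in
theorem ry2_gl : ∀ a < 8, ∀ b < 8, ∀ d < 8, (∀ w < 8, lin [a, b, d] w = 0 → w = 0) → [a, b, d] ∈ gl3 := by
  decide +kernel
theorem ry2_lv : ∀ s ∈ gl3, ∀ w < 8, lin (lvc s) w = lin s w := by decide +kernel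
theorem ry2_b8 : ∀ y < 8, ∀ t < 512, r0bil y t = r0bil y (8 * (t / 8)) := by decide +kernel
set_option synthInstance.maxSize 2000 in
theorem ry2_f1 : ∀ a < 8, ∀ b < 8, ∀ d < 8, (∀ i < 3, ∃ s < 64, r0bil a (8 * s) = r0bil 1 (8 * 2 ^ i) ∧
    r0bil b (8 * s) = r0bil 2 (8 * 2 ^ i) ∧ r0bil d (8 * s) = r0bil 4 (8 * 2 ^ i)) → a = 1 ∧ b = 2 ∧ d = 4 := by
  decide +kernel
theorem ry2_f2 : ∀ t < 512, r0bil 1 t = 0 → r0bil 2 t = 0 → r0bil 4 t = 0 → t < 8 := by decide +kernel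
theorem ry2_f3 : ∀ a < 8, ∀ b < 8, r0bil a 8 = r0bil b 8 → r0bil a 16 = r0bil b 16 → r0bil a 32 = r0bil b 32 → a = b := by
  decide +kernel
theorem ry2_f4 : ∀ u < 64, ∀ v < 64, u / 8 = v / 8 → v ^^^ u < 8 := by decide +kernel
theorem ry2_f5 : ∀ y < 8, r0bil y 8 = 0 → r0bil y 16 = 0 → r0bil y 32 = 0 → y = 0 := by decide +kernel
theorem ry2_f6 : ∀ v < 512, (lin (g9.getD 5 []) v ^^^ v) / 8 % 8 = 0 → ∃ y < 8, v ^^^ dl y < 8 := by decide +kernel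
theorem ry2_f7 : ∀ y < 8, ∀ w < 8, (dl y ^^^ w) / 8 % 8 = 0 := by decide +kernel
theorem ry2_f8 : ∀ a < 8, ∀ y < 8, ∀ w < 8, a ^^^ dl y ^^^ w < 8 → y = 0 := by decide +kernel
theorem r0_xor_cc (a b : ℕ) : a ^^^ (a ^^^ b) = b := by rw [← Nat.xor_assoc, Nat.xor_self, Nat.zero_xor]

variable {G : Type*} [Group G] [Finite G] {c : Fr G}

namespace Fr

theorem ry2_two {g y : G} (hg : g ∈ 𝐍(c.R)) (g' : g ∉ c.N) (hy : y ∈ 𝐍(c.R)) (y' : y ∉ c.N) : g * y ∈ c.N := by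
  have key : ∀ u < 64, ∃ v < 64, g⁻¹ * c.al v * g⁻¹⁻¹ = c.al u * c.fl (dl (u / 8)) := by
    have h := (nRA (inv_mem hg)).resolve_left fun e => g' (inv_mem_iff.1 e)
    choose! φ h1 h2 using h
    have inj : Function.Injective fun v : Fin 64 => (⟨φ v, h1 v v.2⟩ : Fin 64) := fun v v' e => by
      have e : φ v = φ v' := congrArg Fin.val e
      have := h2 v v.2
      rw [e, ← h2 v' v'.2, mul_left_inj, mul_right_inj] at this
      exact Fin.ext (r0_al_inj v.2 v'.2 this)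
    intro u hu
    obtain ⟨v, e⟩ := Finite.injective_iff_surjective.1 inj ⟨u, hu⟩
    have e : φ v = u := congrArg Fin.val e
    exact ⟨v, v.2, e ▸ h2 v v.2⟩
  rw [c.hN]
  refine mem_normalizer_fintype fun a ha => ?_
  obtain ⟨v, hv, rfl⟩ := r0_mem_A.1 ha
  obtain ⟨u, hu, e⟩ := (nRA hy).resolve_left y' v hv
  obtain ⟨v', -, e'⟩ := key u hu
  rw [show g * y * c.al v * (g * y)⁻¹ = g * (y * c.al v * y⁻¹) * g⁻¹ by group, e, ← e',
    show g * (g⁻¹ * c.al v' * g⁻¹⁻¹) * g⁻¹ = c.al v' by group]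
  exact c.al_mem v'

omit [Finite G] in
/-- `N(R) ∩ C(W)` -/
def ry2Y (c : Fr G) : Subgroup G where
  carrier := {g | g ∈ 𝐍(c.R) ∧ ∀ w < 8, Commute g (c.fl w)}
  mul_mem' a b := ⟨mul_mem a.1 b.1, fun w h => (a.2 w h).mul_left (b.2 w h)⟩
  one_mem' := ⟨one_mem _, fun _ _ => Commute.one_left _⟩
  inv_mem' a := ⟨inv_mem a.1, fun w h => (a.2 w h).inv_left⟩

omit [Finite G] in
theorem eqns_ry2 : True := by
  have := @ry2Y.eq_1.{0}
  trivial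

omit [Finite G] in
theorem ry2_RY : c.R ≤ c.ry2Y := fun _ h => ⟨le_normalizer h, fun _ hw => r0_R_W h hw⟩

theorem ry2_nY : 𝐍(c.R) ≤ 𝐍(c.ry2Y) := fun n hn => mem_normalizer_fintype fun y hy =>
  ⟨mul_mem (mul_mem hn hy.1) (inv_mem hn), fun w hw => by
    obtain ⟨w', hw', e⟩ := nRW (inv_mem hn) w hw
    have := (hy.2 w' hw').map (MulAut.conj n)
    rw [← e] at this
    simpa [MulAut.conj_apply, mul_assoc] using this⟩

theorem ry2_exY (h : ¬ 𝐍(c.R) ≤ c.N) : ∃ g ∈ c.ry2Y, g ∉ c.N := by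
  obtain ⟨g, hg, g'⟩ := SetLike.not_le_iff_exists.1 h
  obtain ⟨γ, a⟩ := r0_exists_actF hg
  have k : ∀ w < 8, lin (cd γ) w < 8 := fun w hw => by
    obtain ⟨w', hw', e⟩ := nRW hg w hw
    rw [a.r0fl (by omega)] at e
    rwa [r0_fl_inj (r0_lin9_lt γ w) (by omega) e]
  have hs := ry2_gl _ (k 1 (by omega)) _ (k 2 (by omega)) _ (k 4 (by omega)) fun w hw e => by
    have := a.r0fl (v := w) (by omega)
    rw [r0_lin3 _ hw, e, r0_fl_zero, mul_inv_eq_one, mul_eq_left, ← r0_fl_zero (c := c)] at this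
    exact r0_fl_inj (by omega) (by omega) this
  obtain ⟨n, hn, hR, e⟩ := c.lift_P (lv_mem hs)
  refine ⟨n⁻¹ * g, ⟨mul_mem (inv_mem hR) hg, fun w hw => ?_⟩, fun e => g' ((mul_mem_cancel_left (inv_mem hn)).1 e)⟩
  have h1 := c.cj_al hn (v := w) (by omega)
  rw [e, cd_lv _ hs, ry2_lv _ hs w hw, ← r0_lin3 _ hw, c.al_fl hw, c.al_fl (k w hw), ← a.r0fl (by omega)] at h1
  show _ * _ = _ * _
  calc n⁻¹ * g * c.fl w = n⁻¹ * (g * c.fl w * g⁻¹) * g := by group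
    _ = _ := by rw [← h1]; group

omit [Finite G] in
theorem ry2_πY {y : G} (hy : y ∈ c.ry2Y) (hn : y ∈ c.N) : c.π y ∈ R0 := ⟨c.π_mem y hn, fun x hx => by
  have hx : x < 8 := by simp only [List.mem_cons, List.not_mem_nil, or_false] at hx; omega
  have h1 := c.cj_al hn (v := x) (by omega)
  rw [c.al_fl hx, (hy.2 x hx).eq, mul_inv_cancel_right, ← c.al_fl hx] at h1
  rw [app_bv _ (by omega), ← r0_al_inj (by omega) (cj_tau (c.π_mem y hn) (by omega)).1 h1]⟩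

theorem ry2_act {x : G} (hx : x ∈ c.ry2Y) (x' : x ∉ c.N) :
    (∀ v < 64, ∃ w < 8, x * c.al v * x⁻¹ = c.al v * c.fl (dl (v / 8) ^^^ w)) ∧
      ∀ v < 512, ∃ w < 8, x * c.fl v * x⁻¹ = c.fl (v ^^^ w) ∧ (v < 8 → w = 0) := by
  obtain ⟨γ, a⟩ := r0_exists_actF hx.1
  have hA := (nRA hx.1).resolve_left x'
  have key : ∀ v < 64, ∀ u < 64, x * c.al v * x⁻¹ = c.al u * c.fl (dl (u / 8)) → ∀ t < 512,
      r0bil (u / 8) (lin (cd γ) t) = r0bil (v / 8) t := fun v hv u hu e t ht => by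
    have b1 := r0_bil_lt (v / 8) (by omega) t ht
    have b2 := r0_bil_lt (u / 8) (by omega) _ (r0_lin9_lt γ t)
    have h1 := r0_cj_af (c := c) hv ht
    have h2 := r0_cj_af (c := c) hu (r0_lin9_lt γ t)
    rw [fl_xor] at h1 h2
    refine r0_fl_inj (c := c) (by omega) (by omega) (mul_left_cancel (a := c.fl (lin (cd γ) t)) ?_)
    calc _ = c.al u * (c.fl (dl (u / 8)) * c.fl (lin (cd γ) t) * (c.fl (dl (u / 8)))⁻¹) * (c.al u)⁻¹ := by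
          rw [← h2, (r0_fl_comm (dl _) _).eq, mul_inv_cancel_right]
      _ = (x * c.al v * x⁻¹) * (x * c.fl t * x⁻¹) * (x * c.al v * x⁻¹)⁻¹ := by rw [e, a.r0fl ht]; group
      _ = x * (c.al v * c.fl t * (c.al v)⁻¹) * x⁻¹ := by group
      _ = x * c.fl t * x⁻¹ * (x * c.fl (r0bil (v / 8) t) * x⁻¹) := by rw [h1]; group
      _ = _ := by rw [a.r0fl ht, (hx.2 _ b1).eq, mul_inv_cancel_right]
  obtain ⟨u1, l1, e1⟩ := hA 8 (by omega)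
  obtain ⟨u2, l2, e2⟩ := hA 16 (by omega)
  obtain ⟨u3, l3, e3⟩ := hA 32 (by omega)
  have k1 := key 8 (by omega) u1 l1 e1
  have k2 := key 16 (by omega) u2 l2 e2
  have k3 := key 32 (by omega) u3 l3 e3
  obtain ⟨f1, f2, f3⟩ := ry2_f1 (u1 / 8) (by omega) (u2 / 8) (by omega) (u3 / 8) (by omega) fun i hi => by
    have ht : 8 * 2 ^ i < 512 := by interval_cases i <;> omega
    have := r0_lin9_lt γ (8 * 2 ^ i)
    exact ⟨lin (cd γ) (8 * 2 ^ i) / 8, by omega, by rw [← ry2_b8 _ (by omega) _ this, k1 _ ht],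
      by rw [← ry2_b8 _ (by omega) _ this, k2 _ ht], by rw [← ry2_b8 _ (by omega) _ this, k3 _ ht]⟩
  rw [f1] at k1
  rw [f2] at k2
  rw [f3] at k3
  have hW : ∀ t < 512, t ^^^ lin (cd γ) t < 8 := fun t ht => ry2_f2 _ (r0_xl9 ht (r0_lin9_lt γ t))
    (by rw [r0_bil_xor, k1 t ht, Nat.xor_self]) (by rw [r0_bil_xor, k2 t ht, Nat.xor_self])
    (by rw [r0_bil_xor, k3 t ht, Nat.xor_self])
  refine ⟨fun v hv => ?_, fun v hv => ⟨_, hW v hv, by rw [r0_xor_cc, a.r0fl hv], fun h => ?_⟩⟩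
  · obtain ⟨u, hu, e⟩ := hA v hv
    have k : ∀ t < 512, r0bil (u / 8) t = r0bil (v / 8) t := fun t ht => by
      rw [← key v hv u hu e t ht, ← r0_xor_cc t (lin _ t), r0_bil_xor, r0_bil_W _ (by omega) _ (hW t ht), Nat.xor_zero]
    have h8 := ry2_f3 _ (by omega) _ (by omega) (k 8 (by omega)) (k 16 (by omega)) (k 32 (by omega))
    have hw := ry2_f4 u hu v hv h8
    refine ⟨_, hw, ?_⟩
    rw [e, h8, Nat.xor_comm, fl_xor, ← c.al_fl hw, ← mul_assoc (c.al v), ← al_xor, r0_xor_cc]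
  · have := a.r0fl hv
    rw [(hx.2 v h).eq, mul_inv_cancel_right] at this
    rw [← r0_fl_inj hv (r0_lin9_lt γ v) this, Nat.xor_self]

theorem ry2_sq {x : G} (hx : x ∈ c.ry2Y) (x' : x ∉ c.N) {v : ℕ} (hv : v < 512) (e : x * x = c.fl v) {y t : ℕ}
    (hy : y < 8) (ht : t < 512) : ∃ w < 8,
      x * (c.al (8 * y) * c.fl t) * (x * (c.al (8 * y) * c.fl t)) = c.fl (v ^^^ dl y ^^^ w) := by
  obtain ⟨h1, h2⟩ := ry2_act hx x'
  obtain ⟨w1, l1, e1⟩ := h1 (8 * y) (by omega)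
  obtain ⟨w2, l2, e2, -⟩ := h2 t ht
  rw [show 8 * y / 8 = y by omega] at e1
  have hs : dl y ^^^ w1 ^^^ (t ^^^ w2) ^^^ v < 512 :=
    r0_xl9 (r0_xl9 (r0_xl9 (r0_dl_lt y hy) (by omega)) (r0_xl9 ht (by omega))) hv
  refine ⟨_, r0_xl3 (r0_xl3 l1 l2) (r0_bil_lt y hy _ hs), ?_⟩
  calc _ = (x * c.al (8 * y) * x⁻¹) * (x * c.fl t * x⁻¹) * (x * x) * c.al (8 * y) * c.fl t := by group
    _ = c.al (8 * y) * c.fl (dl y ^^^ w1 ^^^ (t ^^^ w2) ^^^ v) * c.al (8 * y) * c.fl t := by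
      rw [e1, e2, e, c.fl_xor _ v, c.fl_xor _ (t ^^^ w2)]; group
    _ = _ := by
      rw [r0_af8 hy hs, mul_assoc _ (c.al _) (c.al _), r0_al_sq, mul_one, ← fl_xor]
      generalize r0bil y _ = b
      congr 1
      rw [show dl y ^^^ w1 ^^^ (t ^^^ w2) ^^^ v ^^^ b ^^^ t = t ^^^ (t ^^^ (v ^^^ dl y ^^^ (w1 ^^^ w2 ^^^ b))) by ac_rfl,
        r0_xor_cc]

theorem ry2_syl (h : ¬ 𝐍(c.R) ≤ c.N) : ∃ S x, IsSylowIn 2 S 𝐍(c.R) ∧ c.T ≤ S ∧ x ∈ S ⊓ c.ry2Y ∧ x ∉ c.N := by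
  have : Fact (Nat.Prime 2) := ⟨Nat.prime_two⟩
  obtain ⟨S, hS, hT⟩ := exists_isSylowIn_le c.isP_T c.T_nR
  obtain ⟨g, hg, g'⟩ := ry2_exY h
  obtain ⟨k, m, hm, e⟩ := Nat.exists_eq_two_pow_mul_odd (orderOf_pos g).ne'
  have p : IsPGroup 2 (zpowers (g ^ m)) := IsPGroup.of_card (n := k) (by
    rw [Nat.card_zpowers, orderOf_pow_of_dvd (hm.pos.ne') ⟨2 ^ k, by rw [e, mul_comm]⟩, e,
      Nat.mul_div_cancel _ hm.pos])
  have out : g ^ m ∉ c.N := fun hN => by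
    obtain ⟨j, rfl⟩ := hm
    rw [pow_succ, pow_mul, sq] at hN
    exact g' ((mul_mem_cancel_left (pow_mem (ry2_two hg.1 g' hg.1 g') j)).1 hN)
  obtain ⟨z, hz, le⟩ := (hS.inf_normal (N := c.ry2Y) (fun _ h => h.1) ry2_nY).exists_cj_le p
    (zpowers_le.2 (pow_mem hg m))
  refine ⟨S, _, hS, hT, le (cj_mem z (mem_zpowers _)), fun hN => ?_⟩
  by_cases hz' : z ∈ c.N
  · exact out ((mul_mem_cancel_left hz').1 ((mul_mem_cancel_right (inv_mem hz')).1 hN))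
  · exact hz' (inv_mem_iff.1 ((mul_mem_cancel_left (ry2_two hz.1 hz' (pow_mem hg.1 m) out)).1 hN))

theorem exists_sw (h : ¬ 𝐍(c.R) ≤ c.N) : ∃ x, c.Sx x := by
  have : Fact (Nat.Prime 2) := ⟨Nat.prime_two⟩
  obtain ⟨S, x1, hS, hT, hx1, x1'⟩ := ry2_syl h
  have SN : ∀ s ∈ S, s ∈ c.N → s ∈ c.T := fun s hs hn =>
    (c.sylT.max (S ⊓ c.N) (le_inf hT c.T_N) inf_le_right (hS.isP.to_le inf_le_left)).le ⟨hs, hn⟩
  have R1 : c.R ≤ S ⊓ c.ry2Y := le_inf (c.R_T.trans hT) ry2_RY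
  have RN : ∀ r ∈ S ⊓ c.ry2Y, r ∈ c.N → r ∈ c.R := fun r hr hn => by
    obtain ⟨t, ht, rfl⟩ := (c.mem_im le_rfl).1 (SN r hr.1 hn)
    have := ry2_πY hr.2 hn
    rw [c.π_ι t ht] at this
    exact (c.ι_mem_im R0_T ht).2 this
  have dec : ∀ x ∈ S ⊓ c.ry2Y, x ∉ c.N → ∀ r ∈ S ⊓ c.ry2Y, r ∉ c.N →
      ∃ y < 8, ∃ t < 512, r = x * (c.al (8 * y) * c.fl t) := fun x hx x' r hr r' => by
    obtain ⟨y, hy, t, ht, e⟩ := c.mem_R.1 (RN _ (mul_mem (inv_mem hx) hr)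
      (ry2_two (inv_mem hx.2.1) (fun e => x' (inv_mem_iff.1 e)) hr.2.1 r'))
    exact ⟨y, hy, t, ht, by rw [← e]; group⟩
  have gen : ∀ x ∈ S ⊓ c.ry2Y, x ∉ c.N → c.R ⊔ zpowers x = S ⊓ c.ry2Y := fun x hx x' =>
    le_antisymm (sup_le R1 (zpowers_le.2 hx)) fun r hr => by
      by_cases r' : r ∈ c.N
      · exact mem_sup_left (RN r hr r')
      · obtain ⟨y, -, t, -, rfl⟩ := dec x hx x' r hr r'
        exact mul_mem (mem_sup_right (mem_zpowers x)) (mem_sup_left (mul_mem (r0_al_R _) (r0_fl_R _)))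
  have sur : ∀ m ∈ P0, ∃ n ∈ c.N, n ∈ 𝐍(c.R) ∧ n ∈ 𝐍(S ⊓ c.ry2Y) ∧ c.π n = m := fun m hm => by
    obtain ⟨n, hn, hR, rfl⟩ := c.lift_P hm
    have k : ∀ y ∈ c.ry2Y, y ∈ c.N → ∀ k ∈ 𝐍(S ⊓ c.ry2Y), n = y * k →
        ∃ n' ∈ c.N, n' ∈ 𝐍(c.R) ∧ n' ∈ 𝐍(S ⊓ c.ry2Y) ∧ c.π n' = c.π n := fun y hy yN k hk e => by
      have r0 := ry2_πY hy yN
      have r1 := (c.ι_mem_im R0_T (R0_T r0)).2 r0
      have kN : k ∈ c.N := (mul_mem_cancel_left yN).1 (e ▸ hn)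
      refine ⟨c.ι (c.π y) * k, mul_mem (r0_R_N r1) kN, mul_mem (le_normalizer r1) ((mul_mem_cancel_left hy.1).1 (e ▸ hR)),
        mul_mem (le_normalizer (R1 r1)) hk, ?_⟩
      rw [c.π_mul _ (r0_R_N r1) _ kN, c.π_ι _ (R0_T r0), e, c.π_mul _ yN _ kN]
    obtain ⟨y, hy, z, hz, e⟩ := (hS.inf_normal (N := c.ry2Y) (fun _ h => h.1) ry2_nY).frattini (ry2_nY hR)
    by_cases yN : y ∈ c.N
    · exact k y hy yN z hz e
    · exact k (y * x1⁻¹) (mul_mem hy (inv_mem hx1.2))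
        (ry2_two hy.1 yN (inv_mem hx1.2.1) fun e => x1' (inv_mem_iff.1 e)) (x1 * z) (mul_mem (le_normalizer hx1) hz)
        (by rw [e]; group)
  have cjo : ∀ n ∈ c.N, ∀ x, x ∉ c.N → n * x * n⁻¹ ∉ c.N := fun n hn x x' e =>
    x' ((mul_mem_cancel_left hn).1 ((mul_mem_cancel_right (inv_mem hn)).1 e))
  obtain ⟨v0, hv0, e0⟩ : ∃ v < 512, x1 * x1 = c.fl v := by
    obtain ⟨y, hy, v, hv, e⟩ := c.mem_R.1 (RN _ (mul_mem hx1 hx1) (ry2_two hx1.2.1 x1' hx1.2.1 x1'))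
    have k : ∀ t < 512, r0bil y t = 0 := fun t ht => by
      obtain ⟨w, hw, e1, -⟩ := (ry2_act hx1.2 x1').2 t ht
      have h1 : x1 * x1 * c.fl t * (x1 * x1)⁻¹ = c.fl t := by
        calc _ = x1 * (x1 * c.fl t * x1⁻¹) * x1⁻¹ := by group
          _ = x1 * (c.fl t * c.fl w) * x1⁻¹ := by rw [e1, fl_xor]
          _ = x1 * c.fl t * x1⁻¹ * (x1 * c.fl w * x1⁻¹) := by group
          _ = _ := by
            rw [e1, (hx1.2.2 w hw).eq, mul_inv_cancel_right, fl_xor, mul_assoc, r0_fl_sq, mul_one]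
      have b := r0_bil_lt y hy t ht
      rw [e, show c.al (8 * y) * c.fl v * c.fl t * (c.al (8 * y) * c.fl v)⁻¹ =
        c.al (8 * y) * (c.fl v * c.fl t * (c.fl v)⁻¹) * (c.al (8 * y))⁻¹ by group, (r0_fl_comm v t).eq,
        mul_inv_cancel_right, r0_af8 hy ht, mul_inv_cancel_right, fl_xor, mul_eq_left, ← r0_fl_zero (c := c)] at h1
      exact r0_fl_inj (by omega) (by omega) h1
    rw [ry2_f5 y hy (k 8 (by omega)) (k 16 (by omega)) (k 32 (by omega)), mul_zero, r0_al_zero, one_mul] at e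
    exact ⟨v, hv, e⟩
  obtain ⟨y0, hy0, l0⟩ : ∃ y < 8, v0 ^^^ dl y < 8 := by
    obtain ⟨n, hn, hR, h1, e⟩ := sur _ (r0_gM_mem_P (i := 5) (by omega))
    obtain ⟨y, hy, t, ht, e1⟩ := dec x1 hx1 x1' _ (conj_mem_of_mem_normalizer h1 hx1) (cjo n hn x1 x1')
    obtain ⟨w, hw, e2⟩ := ry2_sq hx1.2 x1' hv0 e0 hy ht
    have a := (r0_act_g9 hn hR (by omega) e).r0fl hv0
    rw [← e1, conj_mul, e0, a] at e2
    have := r0_fl_inj (r0_lin9_lt _ _) (r0_xl9 (r0_xl9 hv0 (r0_dl_lt y hy)) (by omega)) e2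
    rw [r0_cd_g9' (by omega)] at this
    refine ry2_f6 v0 hv0 ?_
    rw [this, Nat.xor_comm, Nat.xor_assoc v0, r0_xor_cc]
    exact ry2_f7 y hy w hw
  obtain ⟨w0, hw0, e1⟩ := ry2_sq hx1.2 x1' hv0 e0 hy0 (t := 0) (by omega)
  have hx : x1 * (c.al (8 * y0) * c.fl 0) ∈ S ⊓ c.ry2Y := mul_mem hx1 (R1 (mul_mem (r0_al_R _) (r0_fl_R _)))
  have x' : x1 * (c.al (8 * y0) * c.fl 0) ∉ c.N := fun e =>
    x1' ((mul_mem_cancel_right (mul_mem (r0_al_N _) (r0_fl_N _))).1 e)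
  have l1 := r0_xl3 l0 hw0
  generalize x1 * (c.al (8 * y0) * c.fl 0) = x at hx x' e1
  refine ⟨x, hx.2.1, mem_normalizer_fintype fun t ht => SN _ (mul_mem (mul_mem hx.1 (hT ht)) (inv_mem hx.1)) ?_, x',
    fun y hy => (em _).imp_right (ry2_two hx.2.1 x' hy), ?_, ?_, ?_, ⟨_, l1, e1⟩, (ry2_act hx.2 x').1,
    (ry2_act hx.2 x').2⟩
  · rw [mul_assoc]
    exact ry2_two hx.2.1 x' (mul_mem (c.T_nR ht) (inv_mem hx.2.1)) fun e =>
      x' (inv_mem_iff.1 ((mul_mem_cancel_left (c.T_N ht)).1 e))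
  · rw [gen x hx x']
    exact le_normalizer_inf (hT.trans le_normalizer) (c.T_nR.trans ry2_nY)
  · rw [gen x hx x']
    exact sur
  · rw [gen x hx x']
    intro n hn hR h1
    obtain ⟨y, hy, t, ht, e2⟩ := dec x hx x' _ (conj_mem_of_mem_normalizer h1 hx) (cjo n hn x x')
    obtain ⟨w, hw, e3⟩ := ry2_sq hx.2 x' (by omega) e1 hy ht
    obtain ⟨w', hw', e4⟩ := nRW hR _ l1
    rw [← e2, conj_mul, e1, e4] at e3
    have := r0_fl_inj (by omega) (r0_xl9 (r0_xl9 (by omega) (r0_dl_lt y hy)) (by omega)) e3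
    rw [ry2_f8 _ l1 y hy w hw (this ▸ hw'), mul_zero, r0_al_zero, one_mul] at e2
    exact ⟨_, e2⟩

end Fr

end H12.E64
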