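import Cfsg.Agent.Lib.E64.RY0

/-! The two possible actions on `F` (see blueprint/E64/README.md) (helper1) -/

set_option autoImplicit false

namespace H12.E64

open Subgroup Cfsg H69 H45 Gold
open scoped commutatorElement

/-- the code of a map fixing `W`, commuting with `σ` and sending `8` to `a` -/
def ry3F (a : ℕ) : List ℕ :=
  let s := lin (g9.getD 5 [])
  [1, 2, 4, a, s a, s (s a), s (s (s a)) ^^^ (a ^^^ s a), s (s (s (s (s a)) ^^^ (a ^^^ s a))) ^^^ s (s (s (s a)) ^^^ (a ^^^ s a)),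
    s (s (s (s a)) ^^^ (a ^^^ s a))]

theorem eqns_ry3 : True := by
  have := @ry3F.eq_1
  trivial

theorem ry3_f1 : ∀ w < 8, cm (g9.getD 3 []) (ry3F (8 ^^^ w)) = cm (ry3F (8 ^^^ w)) (g9.getD 3 []) →
    cm (g9.getD 4 []) (ry3F (8 ^^^ w)) = cm (ry3F (8 ^^^ w)) (g9.getD 4 []) →
    ry3F (8 ^^^ w) = idn 9 ∨ ry3F (8 ^^^ w) = xb := by decide +kernel
theorem ry3_f2 : ∀ w < 8, lin (g9.getD 5 []) w = w → w = 0 := by decide +kernel
theorem ry3_f3 : ∀ w < 8, (dl 4 ^^^ w < 128 ∧ (dl 4 ^^^ w) &&& 36 = 0 ∧ 4 ^^^ (dl 4 ^^^ w) < 512 ∧ 8 ≤ 4 ^^^ (dl 4 ^^^ w)) ∨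
    (r0bil 4 32 ^^^ (dl 4 ^^^ w) < 128 ∧ (r0bil 4 32 ^^^ (dl 4 ^^^ w)) &&& 36 = 0 ∧
      4 ^^^ (r0bil 4 32 ^^^ (dl 4 ^^^ w)) < 512 ∧ 8 ≤ 4 ^^^ (r0bil 4 32 ^^^ (dl 4 ^^^ w))) := by decide +kernel

theorem ry3_code {L : List ℕ} (h1 : lin L 1 = 1) (h2 : lin L 2 = 2) (h4 : lin L 4 = 4)
    (h : ∀ v, lin L (lin (g9.getD 5 []) v) = lin (g9.getD 5 []) (lin L v)) :
    (idn 9).map (lin L) = ry3F (lin L 8) := by
  have a : lin L 16 = _ := h 8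
  have b : lin L 32 = _ := h 16
  have d : lin L (64 ^^^ (8 ^^^ 16)) = _ := h 32
  have e : lin L 256 = _ := h 64
  have f : lin L (128 ^^^ 256) = _ := h 256
  rw [lin_xor, lin_xor] at d
  rw [lin_xor] at f
  have d' : lin L 64 = lin (g9.getD 5 []) (lin L 32) ^^^ (lin L 8 ^^^ lin L 16) := by
    rw [← d, Nat.xor_assoc, Nat.xor_self, Nat.xor_zero]
  have f' : lin L 128 = lin (g9.getD 5 []) (lin L 256) ^^^ lin L 256 := by
    rw [← f, Nat.xor_assoc, Nat.xor_self, Nat.xor_zero]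
  show [lin L 1, lin L 2, lin L 4, lin L 8, lin L 16, lin L 32, lin L 64, lin L 128, lin L 256] = _
  rw [ry3F, h1, h2, h4, f', e, d', b, a]

theorem ry3_T : T9 true = T9 false ⊔ zpowers (mk 9 xb) := by
  rw [T9, T9, ← r0_cl_snoc]; rfl
theorem ry3_G : G9 true = G9 false ⊔ zpowers (mk 9 xb) := by
  rw [G9, G9, ← r0_cl_snoc]; rfl

variable {G : Type*} [Group G] [Finite G] {c : Fr G}

namespace Fr

theorem Sx.cases {x : G} (h : c.Sx x) : Act c.f x 1 ∧ x * x = 1 ∨ Act c.f x (E64.mk 9 xb) := by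
  obtain ⟨γ, a⟩ := r0_exists_actF h.nR
  have fF : ∀ v, Act c.f (c.f v) 1 := fun v => act_one_iff.2 (Gen.range_le ⟨v, rfl⟩)
  have cm' : ∀ i < 6, cm (g9.getD i []) (cd γ) = cm (cd γ) (g9.getD i []) := fun i hi => by
    obtain ⟨n, hn, hR, h1, e⟩ := h.sur _ (r0_gM_mem_P hi)
    obtain ⟨v, hv⟩ := h.cos n hn hR h1
    have b := r0_act_g9 hn hR hi e
    have := ((b.mul a).mul b.inv).uniq c.f_inj (hv ▸ a.mul (fF v))
    rw [mul_one, mul_inv_eq_iff_eq_mul, cd_eq_iff, cd_mul, cd_mul, r0_cd_g9' hi] at this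
    exact this
  have hW : ∀ v < 512, ∃ w < 8, lin (cd γ) v = v ^^^ w ∧ (v < 8 → w = 0) := fun v hv => by
    obtain ⟨w, hw, e, e'⟩ := h.cW v hv
    rw [a.r0fl hv] at e
    exact ⟨w, hw, r0_fl_inj (r0_lin9_lt γ v) (r0_xl9 hv (by omega)) e, e'⟩
  have fx : ∀ v < 8, lin (cd γ) v = v := fun v hv => by
    obtain ⟨w, -, e, e'⟩ := hW v (by omega)
    rw [e, e' hv, Nat.xor_zero]
  have e := ry3_code (fx 1 (by omega)) (fx 2 (by omega)) (fx 4 (by omega)) fun v => by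
    rw [← lin_cm, ← lin_cm, cm' 5 (by omega)]
  obtain ⟨w, hw, e8, -⟩ := hW 8 (by omega)
  rw [← r0_cd_cols, e8] at e
  rcases ry3_f1 w hw (e ▸ cm' 3 (by omega)) (e ▸ cm' 4 (by omega)) with k | k
  · obtain rfl : γ = 1 := cd_inj (by rw [e, k, cd_one])
    refine Or.inl ⟨a, ?_⟩
    obtain ⟨n, hn, hR, h1, e5⟩ := h.sur _ (r0_gM_mem_P (i := 5) (by omega))
    obtain ⟨v, hv⟩ := h.cos n hn hR h1
    obtain ⟨u, hu, e2⟩ := h.sq
    have b := (r0_act_g9 hn hR (by omega) e5).r0fl (v := u) (by omega)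
    have c1 : x * c.f v = c.f v * x := mul_inv_eq_iff_eq_mul.1 (a v)
    have c2 : x * c.f v * (x * c.f v) = x * x := by
      rw [mul_assoc, ← mul_assoc (c.f v), ← c1, mul_assoc x, ← map_mul, bv_sq, map_one, mul_one]
    rw [← e2, ← conj_mul, hv, c2, e2] at b
    have := r0_fl_inj (by omega) (r0_lin9_lt _ _) b
    rw [r0_cd_g9' (by omega)] at this
    rw [e2, ry3_f2 u hu this.symm, r0_fl_zero]
  · have : γ = E64.mk 9 xb := cd_inj (by rw [e, k, cd_g9 xb (by decide)])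
    rw [this] at a
    exact Or.inr a

theorem Sx.conj {x : G} (h : c.Sx x) : ∃ v < 512, 8 ≤ v ∧ IsConj c.a (c.fl v) := by
  obtain ⟨n, -, -, e⟩ := c.conj_al (L := ⊤) (fun m hm => by
    obtain ⟨n, hn, e⟩ := c.π_surj m hm
    exact ⟨n, hn, mem_top n, e⟩) (v := 32) (by omega) (by omega)
  obtain ⟨w, hw, e1⟩ := h.swp 32 (by omega)
  have c1 : IsConj c.a (c.al 32 * c.fl (dl 4 ^^^ w)) := (isConj_iff.2 ⟨n, e⟩).trans (isConj_iff.2 ⟨x, e1⟩)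
  have k : ∀ v < 128, v &&& 36 = 0 → IsConj (c.al 32 * c.fl v) (c.fl (4 ^^^ v)) := fun v hv h' => by
    obtain ⟨m, -, -, e⟩ := c.y0_conj (L := ⊤) inferInstance le_top hv h'
    exact isConj_iff.2 ⟨m, e⟩
  rcases ry3_f3 w hw with ⟨a, b, d, f⟩ | ⟨a, b, d, f⟩
  · exact ⟨_, d, f, c1.trans (k _ a b)⟩
  · refine ⟨_, d, f, c1.trans (IsConj.trans (isConj_iff.2 ⟨c.fl 32, ?_⟩) (k _ a b))⟩
    have := r0_cj_fa (c := c) (u := 32) (v := 32) (by omega) (by omega)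
    rw [← conj_mul, this, (r0_fl_comm 32 _).eq, mul_inv_cancel_right, c.fl_xor (r0bil 4 32), mul_assoc]

theorem al_ab (h : 𝐍(c.R) ≤ c.N) : c.AB false c.T :=
  ⟨c.isP_T, le_rfl, fun _ ht => nRF (c.T_nR ht), c.aut_T, c.aut_P ▸ autG_mono le_top,
    c.aut_P ▸ autG_mono (le_inf h le_rfl), fun _ hz hn p => c.cF_N (h hn) hz p, c.T_nR⟩

theorem Sx.ab {x : G} (h : c.Sx x) (hx : Act c.f x (E64.mk 9 xb)) : c.AB true (c.T ⊔ zpowers x) := by
  have : Fact (Nat.Prime 2) := ⟨Nat.prime_two⟩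
  have SR : c.T ⊔ zpowers x ≤ 𝐍(c.R) := sup_le c.T_nR (zpowers_le.2 h.nR)
  have zp : AutG c.f (zpowers x) = zpowers (E64.mk 9 xb) := by
    refine le_antisymm (fun γ hγ => ?_) (zpowers_le.2 (mem_autG.2 ⟨x, mem_zpowers x, hx⟩))
    obtain ⟨y, hy, a⟩ := mem_autG.1 hγ
    obtain ⟨k, rfl⟩ := mem_powers_iff_mem_zpowers.2 hy
    have : ∀ k : ℕ, Act c.f (x ^ k) (E64.mk 9 xb ^ k) := fun k => by
      induction k with
      | zero => rw [pow_zero, pow_zero]; exact Act.one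
      | succ k ih => rw [pow_succ, pow_succ]; exact ih.mul hx
    rw [a.uniq c.f_inj (this k)]
    exact pow_mem (mem_zpowers _) k
  have hP : ∀ n ∈ c.N, n ∈ 𝐍(c.R) → ∀ γ, Act c.f n γ → γ ∈ G9 false := fun n hn hR γ a =>
    c.aut_P ▸ mem_autG.2 ⟨n, ⟨hn, hR⟩, a⟩
  have xm : E64.mk 9 xb ∈ G9 true := ry3_G ▸ mem_sup_right (mem_zpowers _)
  refine ⟨c.isP_T.to_sup_of_normal_left' (fun y => ?_) (zpowers_le.2 h.nT), le_sup_left, fun s hs => nRF (SR hs), ?_, ?_,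
    fun γ hγ => ?_, fun z hz hn p => ?_, SR⟩
  · obtain ⟨w, -, e⟩ := h.sq
    obtain ⟨k, hk⟩ := mem_powers_iff_mem_zpowers.2 y.2
    refine ⟨2, Subtype.ext ?_⟩
    show (y : G) ^ 2 ^ 2 = 1
    rw [← hk, ← pow_mul, mul_comm, pow_mul, show x ^ 2 ^ 2 = x * x * (x * x) by rw [← pow_two, ← pow_two, ← pow_mul]; rfl, e, r0_fl_sq,
      one_pow]
  · rw [autG_sup c.f_inj (fun _ ht => nRF (c.T_nR ht)) (zpowers_le.2 hx.nrm), c.aut_T, zp, ry3_T]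
  · rw [ry3_G, ← c.aut_P, ← zp]
    exact sup_le (autG_mono le_top) (autG_mono le_top)
  · obtain ⟨g, hg, a⟩ := mem_autG.1 hγ
    rcases h.two g hg with k | k
    · exact G9_le true (hP g k hg γ a)
    · exact (mul_mem_cancel_left xm).1 (G9_le true (hP _ k (mul_mem h.nR hg) _ (hx.mul a)))
  · rcases h.two z hn with k | k
    · exact c.cF_N k hz p
    · exact absurd (hP _ k (mul_mem h.nR hn) _ (mul_one (E64.mk 9 xb) ▸ hx.mul (act_one_iff.2 hz))) xb_not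

end Fr

end H12.E64
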