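import Cfsg.Agent.Lib.E64.SQ

/-! The strong closure of `Q / Z` (see blueprint/E64/README.md) -/

set_option autoImplicit false

namespace H12.E64

open Subgroup Cfsg H69 H45 Gold
open scoped commutatorElement

variable {G : Type*} [Group G] [Finite G] {c : Fr G} {e : BV 10 →* G} {S : Subgroup G}

open SQx Fr

namespace SCx

theorem inv (h : c.Cg e S) {g x : G} (hg : g ∈ 𝐂(c.Z)) (hx : x ∈ c.Q) (xx : x * x = 1)
    (hS : g * x * g⁻¹ ∈ S) : g * x * g⁻¹ ∈ c.Q := by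
  by_cases hz : x ∈ c.Z
  · rwa [conj_eq_of_mem_centralizer hg hz]
  have n := centralizer_le_normalizer _ hg
  rcases h.Qpat hx xx hz with p | p
  · exact h.patQ hS (p.1.cj n (mem_cZ.1 hg).1)
  · have := p.1.cj n (mem_cZ.1 hg).1
    rw [← conj_mul, conj_eq_of_mem_centralizer hg dZ] at this
    exact (mul_mem_cancel_right (Z_Q dZ)).1 (h.patQ (mul_mem hS (QS h (Z_Q dZ))) this)

/-- the elements centralizing `Z` and the coset `j Z` -/
def Cj (Z : Subgroup G) (j : G) : Subgroup G := sg (fun k => k ∈ 𝐂(Z) ∧ k * j * k⁻¹ * j⁻¹ ∈ Z)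
  ⟨one_mem _, by simp⟩ fun a b ha hb => ⟨mul_mem ha.1 hb.1, by
    have := mul_mem hb.2 ha.2
    rw [← conj_eq_of_mem_centralizer ha.1 hb.2] at this
    convert this using 1
    group⟩

theorem esq (u : BV 10) : e u * e u = 1 := by rw [← map_mul, bv_sq, map_one]

end SCx

open SCx

namespace Fr

theorem Cg.sc (h : c.Cg e S) : ∀ g ∈ 𝐂(c.Z), ∀ x ∈ c.Q, g * x * g⁻¹ ∈ S → g * x * g⁻¹ ∈ c.Q := by
  intro g hg x hx hS
  rcases Q_sq hx with xx | xx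
  · exact inv h hg hx xx hS
  obtain ⟨j, hj⟩ : ∃ j, j = g * x * g⁻¹ := ⟨_, rfl⟩
  rw [← hj] at hS ⊢
  obtain ⟨e1, e2, e3⟩ := h.ea
  have jj : j * j = c.a := by rw [hj, conj_mul, xx, conj_eq_of_mem_centralizer hg aZ]
  have jZ : j ∈ 𝐂(c.Z) := hj ▸ mul_mem (mul_mem hg (Q_cZ hx)) (inv_mem hg)
  obtain ⟨γ, hγ, a⟩ := h.act hS
  have com : ∀ u < 1024, j * e (bv 10 u) * j⁻¹ * e (bv 10 u) = e (bv 10 (lin (cd γ) u ^^^ u)) := fun u hu => by
    rw [a.bv hu, ee]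
  have iq : InQ γ := by
    obtain ⟨n, -, hn, v, hv, k⟩ := h.co (L := ⊤) inferInstance le_top hS (by
      rintro ⟨u, rfl⟩
      exact a_sq.2.2.2.1 (jj.symm.trans (esq u))) (jj ▸ ⟨_, e1⟩)
    obtain ⟨u, hu⟩ := conj_mem_of_mem_normalizer' hn ⟨bv 10 v, rfl⟩
    have al : c.al 32 * c.al 32 = 1 := by rw [Fr.al, ← map_mul, bv_sq, map_one]
    refine s_in hγ (Act.uniq h.ga.inj (a.mul a) (jj ▸ act_E ⟨_, e1⟩)) (fix8 h a (mem_cZ.1 jZ).2) u.2
      (einj h (lt10' γ u.2) (by norm_num) ?_)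
    rw [← com _ u.2, bv_val, hu, e1, ← jj, show j = n⁻¹ * (n * j * n⁻¹) * n by group, k]
    calc _ = n⁻¹ * (c.al 32 * e (bv 10 v) * ((c.al 32)⁻¹ * e (bv 10 v))) * n := by group
      _ = _ := by rw [inv_eq_of_mul_eq_one_right al]; group
  obtain ⟨q, hq, qq, b, v, hv, k⟩ := h.in_QE hS a iq
  have qi : q⁻¹ = q := inv_eq_of_mul_eq_one_right qq
  have k1 : lin (cd γ) v ^^^ v = 1 := einj h (lt10' γ hv) (by norm_num) (by
    rw [← ee, ← b.bv hv, e1, ← jj, k, qi]; group)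
  by_cases k2 : v &&& 816 = 0
  · exact k ▸ mul_mem hq ((h.e_Q hv).2 k2)
  obtain ⟨p, pO, p8, p9, p1, p2, p3⟩ := s_four hγ iq hv k1 k2
  have pl := (by decide : ∀ v ∈ Om, v < 1024) p pO
  have l := Nat.xor_lt_two_pow (n := 10) hv pl
  have eQ := (h.e_Q l).2 p2
  have c1 : c.Q ^ᶜ g ≤ Cj c.Z j := fun y hy => by
    obtain ⟨y, hy', rfl⟩ := mem_cj'.1 hy
    refine ⟨mul_mem (mul_mem hg (Q_cZ hy')) (inv_mem hg), ?_⟩
    rw [hj, conj_inv, conj_inv, conj_mul, conj_mul, conj_mul]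
    refine conj_mem_of_mem_normalizer (centralizer_le_normalizer _ hg) ?_
    rcases Q_cm hy' hx with k | k <;> rw [k]
    · simp
    · rw [mul_assoc (x * y), ← (mem_cZ.1 (Q_cZ (inv_mem hy'))).1, ← mul_assoc, mul_inv_cancel_right,
        (mem_cZ.1 (Q_cZ hx)).1, mul_inv_cancel_right]
      exact aZ
  have c2 : q ∈ Cj c.Z j := ⟨Q_cZ hq, by
    rw [k, show q * (q * e (bv 10 v)) * q⁻¹ * (q * e (bv 10 v))⁻¹ =
      q * q * (e (bv 10 v) * (q⁻¹ * (e (bv 10 v))⁻¹ * q⁻¹)) by group, qq, one_mul,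
      inv_eq_of_mul_eq_one_right (esq (e := e) _), show q⁻¹ * e (bv 10 v) = q * e (bv 10 v) by rw [qi],
      b.bv hv, ee, Nat.xor_comm, k1, e1]
    exact aZ⟩
  have c3 : e (bv 10 (v ^^^ p)) ∈ Cj c.Z j := ⟨Q_cZ eQ, by
    rw [mul_assoc, mul_assoc, ← mul_assoc j, inv_eq_of_mul_eq_one_right (esq (e := e) _), a.bv l, ee, lin_xor, p1,
      show v ^^^ p ^^^ (lin (cd γ) v ^^^ p) = lin (cd γ) v ^^^ v ^^^ (p ^^^ p) by ac_rfl, k1, Nat.xor_self,
      Nat.xor_zero, e1]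
    exact aZ⟩
  obtain ⟨P, hP, QP⟩ := exists_isSylowIn_le (isPGroup_cj isP_Q g) c1
  obtain ⟨k', hk, YP⟩ := hP.exists_cj_le (R := S ⊓ Cj c.Z j) h.syl.isP.to_inf_left inf_le_right
  obtain ⟨m, hm, PS⟩ := h.syl0.exists_cj_le hP.isP fun y hy => (hP.le hy).1
  have hn : m * k' ∈ 𝐂(c.Z) := mul_mem hm hk.1
  have nS : ∀ y ∈ S ⊓ Cj c.Z j, m * k' * y * (m * k')⁻¹ ∈ S := fun y hy =>
    (((cj_cj _ _ _).symm.le.trans ((cj_mono m YP).trans PS)) (cj_mem _ hy)).1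
  have mg := h.wcQ (centralizer_le_normalizer _ (mul_mem hm hg)) (mem_cZ.1 (mul_mem hm hg)).1
    ((cj_cj _ _ _).symm.le.trans ((cj_mono m QP).trans (PS.trans inf_le_left)))
  have n1 := inv h hn hq qq (nS _ ⟨QS h hq, c2⟩)
  have n2 := inv h hn eQ (esq _) (nS _ ⟨QS h eQ, c3⟩)
  have n3 : m * k' * j * (m * k')⁻¹ ∈ c.Q := by
    have := mul_mem (Z_Q hk.2) (conj_mem_of_mem_normalizer mg hx)
    rw [← conj_eq_of_mem_centralizer hm hk.2] at this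
    convert this using 1
    rw [hj]; group
  have n4 : m * k' * e (bv 10 p) * (m * k')⁻¹ ∈ c.Q := by
    rwa [k, show v = v ^^^ p ^^^ p by rw [Nat.xor_assoc, Nat.xor_self, Nat.xor_zero], ← ee, ← conj_mul,
      ← conj_mul, mul_mem_cancel_left n1, mul_mem_cancel_left n2] at n3
  have n5 : ∀ z ∈ c.Z, m * k' * e (bv 10 p) * (m * k')⁻¹ = z → e (bv 10 p) = z := fun z hz k => by
    rwa [← conj_eq_of_mem_centralizer hn hz, mul_left_inj, mul_right_inj] at k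
  rcases h.dQ n4 ((icj _).2 ((h.cl_d pl).2 pO)) with k | k
  · exact absurd (einj h pl (by norm_num) ((n5 _ dZ k).trans e2.symm)) p8
  · exact absurd (einj h pl (by norm_num) ((n5 _ (mul_mem dZ aZ) k).trans e3.symm)) p9

end Fr

end H12.E64
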