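import Cfsg.Agent.Lib.E64.QE

/-! Singular cosets and the weak closure of `Q` (see blueprint/E64/README.md) -/

set_option autoImplicit false

namespace H12.E64

open Subgroup Cfsg H69 H45 Gold
open scoped commutatorElement

variable {G : Type*} [Group G] [Finite G] {c : Fr G} {e : BV 10 →* G} {S : Subgroup G}

namespace SQx

omit [Finite G] in
theorem ee (u v : ℕ) : e (bv 10 u) * e (bv 10 v) = e (bv 10 (u ^^^ v)) := by rw [bv_xor, map_mul]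

omit [Finite G] in
theorem icj {a x : G} (g : G) : IsConj a (g * x * g⁻¹) ↔ IsConj a x :=
  ⟨fun h => h.trans (isConj_iff.2 ⟨g, rfl⟩).symm, fun h => h.trans (isConj_iff.2 ⟨g, rfl⟩)⟩

theorem sq_of {i : G} (h : IsConj c.a i) : i * i = 1 := by
  obtain ⟨g, rfl⟩ := isConj_iff.1 h
  rw [conj_mul, Fr.a_sq.1]; simp

theorem einj (h : c.Cg e S) {u v : ℕ} (hu : u < 1024) (hv : v < 1024) (k : e (bv 10 u) = e (bv 10 v)) : u = v :=
  (bv_eq (n := 10) hu hv).1 (h.ga.inj k)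

theorem ZE (h : c.Cg e S) : c.Z ≤ e.range := fun z hz => by
  rcases Fr.mem_Z.1 hz with rfl | rfl | rfl | rfl
  exacts [one_mem _, ⟨_, h.ea.1⟩, ⟨_, h.ea.2.1⟩, ⟨_, h.ea.2.2⟩]

theorem aZ : c.a ∈ c.Z := Fr.mem_Z.2 (by simp)
theorem dZ : c.d ∈ c.Z := Fr.mem_Z.2 (by simp)
theorem QS (h : c.Cg e S) : c.Q ≤ S := Fr.Q_T.trans h.TS
theorem lt10 (k : Au 10) (u : ℕ) : lin (cd k) u < 1024 := lin_lt (cd_lt k) u
theorem lt10' (k : Au 10) {u : ℕ} (hu : u < 1024) : lin (cd k) u ^^^ u < 1024 :=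
  Nat.xor_lt_two_pow (n := 10) (lt10 k u) hu

theorem fix8 (h : c.Cg e S) {i : G} {g : Au 10} (a : Act e i g) (k : i * c.d = c.d * i) : lin (cd g) 8 = 8 := by
  refine einj h (lt10 _ _) (by norm_num) ?_
  rw [← a.bv (by norm_num), h.ea.2.1, k, mul_inv_cancel_right]

theorem act_E {x : G} (hx : x ∈ e.range) : Act e x 1 := by
  obtain ⟨u, rfl⟩ := hx
  exact fun v => by rw [← map_mul, mul_comm, map_mul, mul_inv_cancel_right]; rfl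

theorem base (h : c.Cg e S) {u : ℕ} (hu : u ∈ [2, 3]) : c.Pat (e (bv 10 u)) ∧
    ¬ IsConj c.a (e (bv 10 u) * c.d) ∧ ¬ IsConj c.a (e (bv 10 u) * c.d * c.a) := by
  obtain ⟨e1, e2, -⟩ := h.ea
  have k : ∀ v, e (bv 10 v) * c.a = e (bv 10 (v ^^^ 1)) := fun v => by rw [← e1, ee]
  have k' : ∀ v, e (bv 10 v) * c.d = e (bv 10 (v ^^^ 8)) := fun v => by rw [← e2, ee]
  have := (by decide +kernel : ∀ u ∈ [2, 3], u < 1024 ∧ u ^^^ 1 < 1024 ∧ u ^^^ 8 < 1024 ∧ u ^^^ 8 ^^^ 1 < 1024 ∧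
    inX u = true ∧ inX (u ^^^ 1) = true ∧ u ^^^ 8 ∉ Om ∧ u ^^^ 8 ^^^ 1 ∉ Om ∧ ¬ inX (u ^^^ 8) = true ∧
    ¬ inX (u ^^^ 8 ^^^ 1) = true) u hu
  obtain ⟨l1, l2, l3, l4, x1, x2, x3, x4, x5, x6⟩ := this
  rw [Fr.Pat, k', k, k, h.cl_a l1, h.cl_a l2, h.cl_a l3, h.cl_a l4, h.cl_d l3, h.cl_d l4]
  exact ⟨⟨by rw [← e1, ee, Nat.xor_comm], by rw [← e2, ee, Nat.xor_comm], x1, x2, x3, x4⟩, x5, x6⟩

theorem split : ∀ v < 256, ∃ w < 256, q8 w = false ∧ q8 (w ^^^ v) = false := by decide +kernel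

end SQx

open SQx

namespace Fr

theorem Pat.cj {i g : G} (h : c.Pat i) (hg : g ∈ 𝐍(c.Z)) (ha : g * c.a = c.a * g) : c.Pat (g * i * g⁻¹) := by
  obtain ⟨h1, h2, h3, h4, h5, h6⟩ := h
  have ea : c.a = g * c.a * g⁻¹ := by rw [ha, mul_inv_cancel_right]
  obtain ⟨d', ed, k1, k2, k3⟩ : ∃ d', c.d = g * d' * g⁻¹ ∧ i * d' = d' * i ∧ ¬ IsConj c.d (i * d') ∧
      ¬ IsConj c.d (i * d' * c.a) := by
    rcases nZ_a (inv_mem hg) (show Commute g c.a from ha).inv_left.eq with k | k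
    · exact ⟨c.d, by rw [← k]; rw [k]; nth_rw 2 [← k]; group, h2, h5, h6⟩
    · exact ⟨c.d * c.a, by rw [← k]; group, (show Commute i c.d from h2).mul_right h1, by rwa [← mul_assoc],
        by rwa [mul_assoc, mul_assoc, a_sq.1, mul_one]⟩
  have f1 : g * i * g⁻¹ * c.a = g * (i * c.a) * g⁻¹ := by rw [← conj_mul, ← ea]
  have f2 : g * i * g⁻¹ * c.d = g * (i * d') * g⁻¹ := by rw [← conj_mul, ← ed]
  refine ⟨by rw [f1, h1, ← conj_mul, ← ea], by rw [f2, k1, ← conj_mul, ← ed], (icj g).2 h3, f1 ▸ (icj g).2 h4,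
    f2 ▸ mt (icj g).1 k2, ?_⟩
  rw [f2, ea, conj_mul]
  exact mt (icj g).1 k3

theorem Cg.Qpat (h : c.Cg e S) {x : G} (hx : x ∈ c.Q) (xx : x * x = 1) (hz : x ∉ c.Z) :
    c.Pat x ∧ ¬ IsConj c.a (x * c.d) ∧ ¬ IsConj c.a (x * c.d * c.a) ∨
      c.Pat (x * c.d) ∧ ¬ IsConj c.a x ∧ ¬ IsConj c.a (x * c.a) := by
  obtain ⟨v, hv, z, zZ, rfl⟩ := mem_Q.1 hx
  obtain ⟨aa, dd, ad, a1, -⟩ := a_sq (c := c)
  have s : Sing v := ⟨hv, by
    rintro rfl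
    exact hz (by rwa [Fr.q, q0_zero, c.ι_one, one_mul]), by
    rw [q_sq hv zZ] at xx
    cases k : q8 v
    exacts [rfl, absurd (by rwa [k] at xx) a1]⟩
  obtain ⟨k, hk, rfl⟩ := tr8 s
  obtain ⟨g, hg, a⟩ := mem_autQ.1 (h.k8 hk)
  obtain ⟨z', zZ', k1⟩ := a.app (v := 5) (by norm_num)
  obtain ⟨ga, gd⟩ := mem_cZ.1 hg
  have q5 : c.q 5 = e (bv 10 3) := by
    have : e (bv 10 2) = c.q 5 * c.a := by
      rw [h.ga.ef 2 (by norm_num), c.fl_eq (by norm_num), ff_two, Fr.a, c.fl_eq (by norm_num)]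
      have f1 := R0_T (F0_R (ff_mem (v := 1) (by norm_num)))
      exact c.ι_mul _ ((mul_mem_cancel_right f1).1 (ff_two ▸ R0_T (F0_R (ff_mem (by norm_num))))) _ f1
    rw [show 3 = 2 ^^^ 1 from rfl, ← ee, this, h.ea.1, mul_assoc, aa, mul_one]
  have k2 : c.q (lin (cd k) 5) * z = g * (e (bv 10 3) * (z'⁻¹ * z)) * g⁻¹ := by
    rw [← conj_mul, ← q5, k1, conj_eq_of_mem_centralizer hg (mul_mem (inv_mem zZ') zZ)]; group
  have ca : ∀ y, g * y * g⁻¹ * c.a = g * (y * c.a) * g⁻¹ := fun y => by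
    rw [← conj_mul, ga, mul_inv_cancel_right]
  have cd' : ∀ y, g * y * g⁻¹ * c.d = g * (y * c.d) * g⁻¹ := fun y => by
    rw [← conj_mul, gd, mul_inv_cancel_right]
  have e2 : e (bv 10 3) * c.a = e (bv 10 2) := by rw [← h.ea.1, ee]; rfl
  have e3 : e (bv 10 2) * c.a = e (bv 10 3) := by rw [← h.ea.1, ee]; rfl
  rw [k2, cd', ca, ca, icj, icj, icj, icj]
  have b2 := base h (u := 2) (by simp)
  have b3 := base h (u := 3) (by simp)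
  have n := centralizer_le_normalizer _ hg
  rcases mem_Z.1 (mul_mem (inv_mem zZ') zZ) with k | k | k | k <;> rw [k]
  · rw [mul_one]; exact Or.inl ⟨b3.1.cj n ga, b3.2⟩
  · rw [e2]; exact Or.inl ⟨b2.1.cj n ga, b2.2⟩
  · rw [mul_assoc _ c.d c.d, dd, mul_one]; exact Or.inr ⟨b3.1.cj n ga, b3.2⟩
  · rw [← ad, ← mul_assoc (e _), e2, mul_assoc _ c.d c.d, dd, mul_one]; exact Or.inr ⟨b2.1.cj n ga, b2.2⟩

theorem Cg.patQ (h : c.Cg e S) {i : G} (hi : i ∈ S) (hp : c.Pat i) : i ∈ c.Q := by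
  obtain ⟨h1, h2, h3, h4, h5, h6⟩ := hp
  obtain ⟨e1, e2, e3⟩ := h.ea
  by_cases iE : i ∈ e.range
  · obtain ⟨u, rfl⟩ := iE
    rw [← bv_val u] at h3 h4 h5 h6 ⊢
    have l : ∀ k < 1024, u.1 ^^^ k < 1024 := fun k hk => Nat.xor_lt_two_pow (n := 10) u.2 hk
    rw [mul_assoc, ← e3, ee, h.cl_d (l _ (by norm_num))] at h6
    rw [← e2, ee, e2, h.cl_d (l _ (by norm_num))] at h5
    rw [← e1, ee, e1, h.cl_a (l _ (by norm_num))] at h4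
    exact (h.e_Q u.2).2 (pat_E _ u.2 ((h.cl_a u.2).1 h3) h4 h5 h6)
  obtain ⟨g, hg, a⟩ := h.act hi
  obtain ⟨u, hu, k⟩ := h.two_B hi iE h3 h4 ⟨bv 10 1, by rw [e1, inv_mul_cancel_left]⟩ a
  have iq := s_in hg (Act.uniq h.ga.inj (a.mul a) (sq_of h3 ▸ Act.one)) (fix8 h a h2) hu
    (einj h (lt10' g hu) (by norm_num) ((mul_left_cancel k).symm.trans e1.symm))
  obtain ⟨q, hq, qq, b, v, hv, k1⟩ := h.in_QE hi a iq
  have key : ∀ z ∈ c.Z, IsConj c.a (q * z) → i ∈ c.Q := fun z hz cj => by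
    have m : (q * z)⁻¹ * i ∈ e.range := by
      rw [k1, mul_inv_rev, mul_assoc, inv_mul_cancel_left]
      exact mul_mem (inv_mem (ZE h hz)) ⟨_, rfl⟩
    obtain ⟨w, hw, k2⟩ := h.two_B (QS h (mul_mem hq (Z_Q hz))) (fun m' => iE ((mul_mem_cancel_left
      (inv_mem m')).1 m)) cj h3 m (mul_one g ▸ b.mul (act_E (ZE h hz)))
    rw [k2]
    exact mul_mem (mul_mem hq (Z_Q hz)) ((h.e_Q (lt10' g hw)).2 ((s_q hg iq).2.2 w hw))
  rcases h.Qpat hq qq (fun m => iE (k1 ▸ mul_mem (ZE h m) ⟨_, rfl⟩)) with p | p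
  exacts [key 1 (one_mem _) ((mul_one q).symm ▸ p.1.2.2.1), key _ dZ p.1.2.2.1]

theorem Cg.dQ (h : c.Cg e S) {p : G} (hp : p ∈ c.Q) (hd : IsConj c.d p) : p = c.d ∨ p = c.d * c.a := by
  obtain ⟨v, hv, rfl⟩ := h.dS (QS h hp) hd
  rcases om_Q v hv ((h.e_Q ((by decide : ∀ v ∈ Om, v < 1024) v hv)).1 hp) with rfl | rfl
  exacts [Or.inl h.ea.2.1, Or.inr h.ea.2.2]

theorem Cg.S_nZ (h : c.Cg e S) : S ≤ 𝐍(c.Z) := fun s hs => by
  obtain ⟨g, hg, a⟩ := h.act hs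
  have k1 : s * c.a * s⁻¹ ∈ c.Z := by
    rw [← h.ea.1, a.bv (by norm_num), (s_a hg).1, h.ea.1]; exact aZ
  have k2 : s * c.d * s⁻¹ ∈ c.Z := by
    rw [← h.ea.2.1, a.bv (by norm_num)]
    rcases (s_a hg).2 with k | k <;> rw [k]
    exacts [h.ea.2.1 ▸ dZ, h.ea.2.2 ▸ mul_mem dZ aZ]
  refine mem_normalizer_of_cj_le fun x hx => ?_
  obtain ⟨z, hz, rfl⟩ := mem_cj'.1 hx
  rcases mem_Z.1 hz with rfl | rfl | rfl | rfl
  exacts [by simp, k1, k2, by rw [← conj_mul]; exact mul_mem k2 k1]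

theorem Cg.wcQ (h : c.Cg e S) {g : G} (hg : g ∈ 𝐍(c.Z)) (ha : g * c.a = c.a * g) (hS : c.Q ^ᶜ g ≤ S) :
    g ∈ 𝐍(c.Q) := by
  have kz : ∀ z ∈ c.Z, g * z * g⁻¹ ∈ c.Q := fun z hz => Z_Q (conj_mem_of_mem_normalizer hg hz)
  have k : ∀ x ∈ c.Q, x * x = 1 → g * x * g⁻¹ ∈ c.Q := fun x hx xx => by
    by_cases hz : x ∈ c.Z
    · exact kz x hz
    rcases h.Qpat hx xx hz with p | p
    · exact h.patQ (hS (cj_mem g hx)) (p.1.cj hg ha)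
    · have := h.patQ (hS (cj_mem g (mul_mem hx (Z_Q dZ)))) (p.1.cj hg ha)
      rwa [← conj_mul, mul_mem_cancel_right (kz _ dZ)] at this
  have k' : ∀ w < 256, q8 w = false → g * c.q w * g⁻¹ ∈ c.Q := fun w hw s => k _ (q_mem hw) (by
    simpa [s] using q_sq (c := c) hw (one_mem _))
  refine mem_normalizer_of_cj_le fun x hx => ?_
  obtain ⟨y, hy, rfl⟩ := mem_cj'.1 hx
  obtain ⟨v, hv, z, hz, rfl⟩ := mem_Q.1 hy
  obtain ⟨w, hw, s1, s2⟩ := split v hv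
  have l := Nat.xor_lt_two_pow (n := 8) hw hv
  have := kz _ (q_mul hw l)
  rw [← Nat.xor_assoc, Nat.xor_self, Nat.zero_xor, ← conj_mul, ← conj_mul,
    mul_mem_cancel_right (mul_mem (k' w hw s1) (k' _ l s2)), ← conj_inv, inv_mem_iff] at this
  rw [← conj_mul]
  exact mul_mem this (kz z hz)

theorem Cg.S_nQ (h : c.Cg e S) : S ≤ 𝐍(c.Q) := fun _ hs =>
  h.wcQ (h.S_nZ hs) (mem_centralizer_singleton_iff.1 (h.Sa hs)) (cj_le_of_mem (QS h) hs)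

theorem Cg.syl0 (h : c.Cg e S) : IsSylowIn 2 (S ⊓ 𝐂(c.Z)) 𝐂(c.Z) :=
  (h.syl.mono h.S_nZ le_top).inf_normal (centralizer_le_normalizer _) (normalizer_le_normalizer_centralizer _)

end Fr

end H12.E64
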