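import Cfsg.Agent.Lib.E64.GA2
import Cfsg.Agent.Lib.E64.P10A

/-! The element `ξ` (see blueprint/E64/README.md) -/

set_option autoImplicit false

namespace H12.E64

open Subgroup Cfsg H69 H45 Gold
open scoped commutatorElement

variable {G : Type*} [Group G] [Finite G] {c : Fr G} {b : Bool} {e : BV 10 →* G}

namespace XIx

def wc (b : Bool) (w : List ℕ) : List ℕ := w.foldr (fun i r => cm ((g10 b).getD i []) r) (idn 10)
def tc (l : List ℕ) : List ℕ := cm (cm (tvc 36) l) (tvc 36)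
def us : List ℕ := [1, 2, 4, 8, 16, 64, 128, 256]
def wd (v : ℕ) : List ℕ := if v = 4 then [2] else if v = 128 then [4, 3, 4, 3] else if v = 256 then [4] else []
def xi (b : Bool) (v : ℕ) : ℕ := lin [1, 2, 69, 8, 16, 0, 64, bif b then 203 else 200, bif b then 273 else 272] v

theorem eqns_xi : True := by
  have := @wc.eq_1
  have := @tc.eq_1
  have := @us.eq_1
  have := @wd.eq_1
  have := @xi.eq_1
  trivial

theorem word : ∀ w : List ℕ, (∀ i ∈ w, (g10 b).getD i [] ∈ g10 b) → ∃ g ∈ L0 b, cd g = wc b w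
  | [], _ => ⟨1, one_mem _, cd_one⟩
  | i :: w, h => by
    obtain ⟨g, hg, k⟩ := word w fun j hj => h j (List.mem_cons_of_mem _ hj)
    have m := h i List.mem_cons_self
    exact ⟨_, mul_mem (subset_closure ⟨_, m, rfl⟩) hg, by
      rw [cd_mul, k, cd_g10 b _ (List.mem_append_left _ m)]; rfl⟩

theorem chk : ∀ b, ∀ v ∈ us, v < 512 ∧ xi b v < 512 ∧ (∀ i ∈ wd v, (g10 b).getD i [] ∈ g10 b) ∧
    (∀ k ∈ [2, 4, 8], ∀ x < k, lin (tc (ffc v)) x < k) ∧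
    (∀ i < 9, lin (wc b (wd v)) (2 ^ i) < 512 ∧
      cm (tc (ffc v)) (ffc (2 ^ i)) = cm (ffc (lin (wc b (wd v)) (2 ^ i))) (tc (ffc v))) ∧
    544 ^^^ lin (wc b (wd v)) 544 < 512 ∧
    tc (cm (ffc (544 ^^^ lin (wc b (wd v)) 544)) (tc (ffc v))) = ffc (xi b v) := by decide +kernel

theorem chk2 : ∀ b, us.map (xi b) = xi0 b ∧ ∀ v ∈ us, ∃ s ∈ us.sublists, s.foldr (· ^^^ ·) 0 = xi b v := by
  decide +kernel

theorem nn : tv 36 * tv 36 = 1 := by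
  rw [cd_eq_iff, cd_mul, cd_tv 36 (by norm_num), cd_one]; decide +kernel

theorem cd_tc (g : Au 7) : cd (tv 36 * g * (tv 36)⁻¹) = tc (cd g) := by
  rw [inv_eq_of_mul_eq_one_right nn, cd_mul, cd_mul, cd_tv 36 (by norm_num), tc]

theorem exB {X : Type*} [Group X] (T : Subgroup X) (m : X) :
    ∃ B : Subgroup X, ∀ s, s ∈ B ↔ s ∈ T ∧ m * s * m⁻¹ ∈ T :=
  ⟨T ⊓ T.comap (MulAut.conj m).toMonoidHom, fun _ => Iff.rfl⟩

theorem main (h : c.Gx b e) : ∃ x : G, ∀ v ∈ us, x * e (bv 10 v) * x⁻¹ = e (bv 10 (xi b v)) := by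
  have nM := tv_mem (v := 36) (by norm_num)
  have fT : ∀ {v}, v < 512 → ff v ∈ T0 := fun hv => R0_T (F0_R (ff_mem hv))
  obtain ⟨B, hB⟩ := exB T0 (tv 36)
  obtain ⟨n, -, -, -, k⟩ := c.lift (L := ⊤) le_top (m := tv 36)
    ((c.π_surj _ nM).imp fun a ha => ⟨ha.1, mem_top _, ha.2⟩)
    (B := B) (fun s hs => ((hB s).1 hs).1) fun s hs => ((hB s).1 hs).2
  refine ⟨n * e (bv 10 544) * n⁻¹, fun v hv => ?_⟩
  obtain ⟨l1, l2, w, s, a, l3, k1⟩ := chk b v hv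
  obtain ⟨g, hg, kg⟩ := word _ w
  obtain ⟨t, ht⟩ : ∃ t, t = tv 36 * ff v * (tv 36)⁻¹ := ⟨_, rfl⟩
  have ct : cd t = tc (ffc v) := by rw [ht, cd_tc, cd_ff v l1]
  have st : ∀ k ∈ [2, 4, 8], t ∈ St 7 k := fun k hk x hx => Or.inl (ct ▸ s k hk x hx)
  have tM : t ∈ M0 := by
    rw [ht]; exact mul_mem (mul_mem nM (mem_inf.1 (mem_inf.1 (fT l1)).1).1) (inv_mem nM)
  have tT : t ∈ T0 := mem_inf.2 ⟨mem_inf.2 ⟨tM, st 8 (by simp)⟩, mem_inf.2 ⟨st 2 (by simp), st 4 (by simp)⟩⟩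
  have iT : c.ι t ∈ c.T := (c.ι_mem_im le_rfl tT).2 tT
  have act := h.act_of (c.ι_mem t tT) (c.T_nR iT) (h.TE iT) hg fun i hi => by
    rw [c.π_ι t tT, mul_inv_eq_iff_eq_mul, cd_eq_iff, cd_mul, cd_mul, kg, ct, cd_ff _ (a i hi).1,
      cd_ff _ (Nat.pow_lt_pow_right (by norm_num) hi : 2 ^ i < 2 ^ 9)]
    exact (a i hi).2
  have t1 : tv 36 * t * (tv 36)⁻¹ = ff v := by
    rw [ht, ← mul_assoc, ← mul_assoc, nn, one_mul, mul_assoc, ← mul_inv_rev, nn, inv_one, mul_one]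
  have t2 : tv 36 * (ff (544 ^^^ lin (cd g) 544) * t) * (tv 36)⁻¹ = ff (xi b v) := by
    rw [cd_eq_iff, cd_tc, cd_mul, kg, ct, cd_ff _ l3, cd_ff _ l2, k1]
  rw [← kg] at l3
  have e1 := k t ((hB _).2 ⟨tT, by rw [t1]; exact fT l1⟩)
  have e2 := k _ ((hB _).2 ⟨mul_mem (fT l3) tT, by rw [t2]; exact fT l2⟩)
  rw [t1, ← c.fl_eq l1, ← h.ef v l1] at e1
  rw [t2, ← c.fl_eq l2, ← h.ef _ l2, c.ι_mul _ (fT l3) _ tT, ← c.fl_eq l3, ← h.ef _ l3, bv_xor, map_mul,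
    ← act.bv (by norm_num)] at e2
  rw [← e1, ← e2, conj_inv, ← map_inv, bv_inv]
  group

end XIx

open XIx

namespace Fr

theorem Gx.xi (h : c.Gx b e) : ∃ ξ ∈ AutG e ⊤, IsXi b ξ := by
  obtain ⟨x, hx⟩ := main h
  obtain ⟨U, hU⟩ : ∃ U, U = closure {g | ∃ v ∈ us, g = e (bv 10 v)} := ⟨_, rfl⟩
  have m : ∀ v ∈ us, e (bv 10 v) ∈ U := fun v hv => hU ▸ subset_closure ⟨v, hv, rfl⟩
  have m' : ∀ s : List ℕ, (∀ v ∈ s, v ∈ us) → e (bv 10 (s.foldr (· ^^^ ·) 0)) ∈ U := fun s => by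
    induction s with
    | nil => intro; rw [List.foldr_nil, bv_zero, map_one]; exact one_mem _
    | cons a s ih =>
      intro k
      rw [List.foldr_cons, bv_xor, map_mul]
      exact mul_mem (m a (k a List.mem_cons_self)) (ih fun v hv => k v (List.mem_cons_of_mem _ hv))
  have xU : x ∈ 𝐍(U) := mem_normalizer_of_cj_le (cj_le_iff.2 (by
    conv_lhs => rw [hU]
    rw [closure_le]
    rintro y ⟨v, hv, k⟩
    obtain ⟨s, hs, k'⟩ := (chk2 b).2 v hv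
    rw [k, SetLike.mem_coe, mem_cj, inv_inv, hx v hv, ← k']
    exact m' s fun _ hv => (List.mem_sublists.1 hs).subset hv))
  have EC : e.range ≤ 𝐂(e.range) := h.sylE.le
  have UE : U ≤ e.range := by
    rw [hU, closure_le]
    rintro y ⟨v, -, k⟩
    exact ⟨_, k.symm⟩
  have syl : IsSylowIn 2 e.range 𝐂(U) := isSylowIn_of_normalizer (EC.trans (centralizer_anti UE))
    (h.sylE.mono (le_inf (EC.trans (centralizer_anti UE)) le_normalizer) fun z hz => by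
      obtain ⟨γ, a⟩ := exists_act h.inj hz.2
      refine act_one_iff.1 (h.h10.cF (mem_autG.2 ⟨z, trivial, a⟩) (fun v hv => h.inj ?_) ▸ a)
      rw [← a, conj_eq_of_mem_centralizer hz.1 (m v hv)])
  obtain ⟨a, ha, n, hn, rfl⟩ := syl.frattini' (normalizer_le_normalizer_centralizer U xU)
  obtain ⟨ξ, act⟩ := exists_act h.inj ha
  refine ⟨ξ, mem_autG.2 ⟨a, trivial, act⟩, Eq.trans (List.map_congr_left fun v hv => ?_) (chk2 b).1⟩
  obtain ⟨l1, l2, -⟩ := chk b v hv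
  refine (bv_eq (n := 10) (lin_lt (cd_lt ξ) v) (by omega)).1 (h.inj ?_)
  rw [← act.bv (by omega), ← hx v hv]
  conv_lhs => rw [← conj_eq_of_mem_centralizer hn (m v hv)]
  group

end Fr

end H12.E64
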